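import Cfsg.Agent.PQFpf.Form
import Mathlib.GroupTheory.PGroup

/-!
The dichotomy coming from the Hall–Higman bound.
-/

set_option autoImplicit false
set_option linter.style.haveILetI false
set_option linter.unusedSectionVars false

namespace CfsgLib.PQFpf

open Module

variable {k : Type*} [Field k] [IsAlgClosed k] {W : Type*} [AddCommGroup W] [Module k W] [FiniteDimensional k W]
  [Nontrivial W] {S : Type*} [Group S] [Finite S] {π : S →* Module.End k W} {R : Subgroup S} [R.Normal]

/-- The automorphism induced modulo the radical. -/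
noncomputable def bar (b : MulAut S) (hb : ∀ u ∈ R, b u ∈ R) : MulAut (S ⧸ R) :=
  QuotientGroup.congr R R b (Subgroup.eq_of_le_of_card_ge (Subgroup.map_le_iff_le_comap.2 hb)
    (Subgroup.card_map_of_injective b.injective).ge)

theorem bar_mk (b : MulAut S) (hb : ∀ u ∈ R, b u ∈ R) (x : S) :
    bar b hb (x : S ⧸ R) = ((b x : S) : S ⧸ R) := rfl

theorem dichotomy {s : ℕ} [Fact s.Prime] (hS : IsPGroup s S) (F : FormRep π R) (hk : (Nat.card S : k) ≠ 0)
    (b : MulAut S) {ℓ : ℕ} (hℓ : ℓ.Prime) (hℓs : ℓ ≠ s) (hℓk : (ℓ : k) ≠ 0) (hbℓ : b ^ ℓ = 1)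
    (hbR : ∀ u ∈ R, b u ∈ R) (hbχ : ∀ x y, F.χ (b x) (b y) = F.χ x y)
    (B : Module.End k W) (hB : B ^ ℓ = 1) (hcompat : ∀ x, B * π x = π (b x) * B)
    (hsum : ∑ i : Fin ℓ, B ^ (i : ℕ) = 0) :
    Nat.card (S ⧸ R) ≤ (ℓ - 1) ^ 2 * Nat.card {y : S ⧸ R // bar b hbR y = y} ∧
    ((∀ x : S, x⁻¹ * b x ∈ R) ∨ ∃ d, 0 < d ∧ s ^ d + 1 = ℓ) := by
  classical
  haveI := Fintype.ofFinite (S ⧸ R)
  haveI := Fact.mk hℓ
  have hdvdk : ∀ n, n ∣ Nat.card S → (n : k) ≠ 0 := fun n ⟨m, hm⟩ h0 => hk (by rw [hm, Nat.cast_mul, h0, zero_mul])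
  have hm : (Fintype.card (S ⧸ R) : k) ≠ 0 := by
    rw [← Nat.card_eq_fintype_card]; exact hdvdk _ R.card_quotient_dvd_card
  set bb := bar b hbR with hbb
  have hbbn : ∀ (n : ℕ) (x : S), (bb ^ n) (x : S ⧸ R) = (((b ^ n) x : S) : S ⧸ R) := fun n => by
    induction n with
    | zero => intro x; rfl
    | succ n ih => intro x; rw [pow_succ', pow_succ', MulAut.mul_apply, ih]; rfl
  have hbbℓ : bb ^ ℓ = 1 := by
    ext q
    induction q using QuotientGroup.induction_on with
    | _ x => rw [hbbn, hbℓ]; rfl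
  let bq : Equiv.Perm (S ⧸ R) := MulAut.toPerm (S ⧸ R) bb
  have hbqℓ : bq ^ ℓ = 1 := by rw [← map_pow, hbbℓ, map_one]
  have hle := card_le F hm b bq (fun x => rfl) hℓ hℓk hbqℓ B hB hcompat hsum
  rw [← Nat.card_eq_fintype_card] at hle
  refine ⟨hle, ?_⟩
  by_cases htriv : ∀ x : S, x⁻¹ * b x ∈ R
  · exact Or.inl htriv
  refine Or.inr ?_
  -- the fixed classes
  let SC : Subgroup S :=
    { carrier := {x | bb (x : S ⧸ R) = (x : S ⧸ R)}
      one_mem' := map_one _
      mul_mem' := fun {x y} hx hy => by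
        simp only [Set.mem_ofPred_eq, QuotientGroup.mk_mul, map_mul] at hx hy ⊢; rw [hx, hy]
      inv_mem' := fun {x} hx => by
        simp only [Set.mem_ofPred_eq, QuotientGroup.mk_inv, map_inv] at hx ⊢; rw [hx] }
  let R' : Subgroup SC := R.subgroupOf SC
  haveI : Fintype (SC ⧸ R') := Fintype.ofFinite _
  have hCcard : Nat.card (SC ⧸ R') = Nat.card {y : S ⧸ R // bb y = y} := by
    refine Nat.card_congr (Equiv.ofBijective (fun y => ⟨QuotientGroup.map R' R SC.subtype (fun u hu => hu) y, ?_⟩) ⟨?_, ?_⟩)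
    · induction y using QuotientGroup.induction_on with
      | _ x => exact x.2
    · intro y z h
      induction y using QuotientGroup.induction_on with
      | _ x =>
        induction z using QuotientGroup.induction_on with
        | _ x' =>
          have h1 : ((x : S) : S ⧸ R) = ((x' : S) : S ⧸ R) := congrArg Subtype.val h
          exact (QuotientGroup.eq (s := R')).2 (show (x : S)⁻¹ * (x' : S) ∈ R from QuotientGroup.eq.1 h1)
    · rintro ⟨y, hy⟩
      induction y using QuotientGroup.induction_on with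
      | _ x => exact ⟨((⟨x, hy⟩ : SC) : SC ⧸ R'), rfl⟩
  have hsS : s ^ (Nat.card S).factorization s = Nat.card S := by
    obtain ⟨n, hn⟩ := hS.exists_card_eq
    rw [hn, Nat.Prime.factorization_pow Fact.out, Finsupp.single_eq_same]
  let G : FormRep (π.comp SC.subtype) R' :=
    { χ := MonoidHom.mk' (fun x => (F.χ (x : S)).comp SC.subtype) fun x y => by
        ext z
        simp [map_mul]
      scalar := fun u hu => F.scalar _ hu
      rel := fun x y => F.rel _ _
      left_rad := fun u hu y => F.left_rad _ hu _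
      rad_right := fun u hu y => F.rad_right _ hu _
      right_rad := fun x hx => by
        refine F.right_rad _ fun y => ?_
        -- average over the cyclic group
        have hinv : ∀ n : ℕ, ∀ z : S, F.χ ((b ^ n) z) x = F.χ z x := fun n => by
          induction n with
          | zero => intro z; rfl
          | succ n ih =>
            intro z
            rw [pow_succ', MulAut.mul_apply, ← ih z]
            obtain ⟨u, hu, hbx⟩ : ∃ u ∈ R, b (x : S) = (x : S) * u :=
              ⟨(x : S)⁻¹ * b (x : S), QuotientGroup.eq.1 (x.2 : _ = _).symm, by group⟩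
            have h := hbχ ((b ^ n) z) x
            rw [hbx, map_mul, F.rad_right u hu, mul_one] at h
            exact h
        haveI : NeZero ℓ := ⟨hℓ.ne_zero⟩
        let g : S ⧸ R →* kˣ := QuotientGroup.lift R (F.χ.flip x) fun u hu => MonoidHom.mem_ker.2 (F.left_rad u hu x)
        let l : List (S ⧸ R) := (List.range ℓ).map fun i => (bb ^ i) (y : S ⧸ R)
        -- the product is fixed modulo the radical
        have hcommE : ∀ u v : S ⧸ R, u * v = v * u := by
          intro u v
          induction u using QuotientGroup.induction_on with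
          | _ u =>
            induction v using QuotientGroup.induction_on with
            | _ v =>
              rw [← QuotientGroup.mk_mul, ← QuotientGroup.mk_mul, QuotientGroup.eq]
              refine F.right_rad _ fun w => ?_
              simp only [map_mul, map_inv, mul_inv_rev]
              rw [mul_comm (F.χ w v)⁻¹, mul_comm (F.χ w v) (F.χ w u)]
              rw [show (F.χ w u)⁻¹ * (F.χ w v)⁻¹ = (F.χ w u * F.χ w v)⁻¹ by rw [mul_inv], inv_mul_cancel]
        letI : CommGroup (S ⧸ R) := { (inferInstance : Group (S ⧸ R)) with mul_comm := hcommE }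
        let z : S ⧸ R := ∏ i : Fin ℓ, (bb ^ (i : ℕ)) (y : S ⧸ R)
        have hz : bb z = z := by
          rw [map_prod]
          refine Fintype.prod_equiv (Equiv.addRight (1 : Fin ℓ)) _ _ fun i => ?_
          rw [Equiv.coe_addRight, Fin.val_add, Fin.val_one', ← MulAut.mul_apply, ← pow_succ',
            Nat.mod_eq_of_lt hℓ.one_lt, ← pow_eq_pow_mod _ hbbℓ]
        obtain ⟨z₀, hz₀⟩ := QuotientGroup.mk_surjective z
        have h1 : g z = 1 := by
          rw [← hz₀]
          exact hx ⟨z₀, by show bb _ = _; rw [hz₀, hz]⟩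
        have h2 : g z = (F.χ y x) ^ ℓ := by
          have h : ∀ i : Fin ℓ, g ((bb ^ (i : ℕ)) (y : S ⧸ R)) = F.χ y x := fun i => by
            rw [hbbn]
            exact hinv _ _
          rw [map_prod, Finset.prod_congr rfl fun i _ => h i, Finset.prod_const, Finset.card_univ, Fintype.card_fin]
        rw [h2] at h1
        have h3 : (F.χ y x) ^ Nat.card S = 1 := by rw [← map_pow (F.χ y), pow_card_eq_one', map_one]
        have h4 := pow_gcd_eq_one.2 ⟨h3, h1⟩
        have hco : (Nat.card S).Coprime ℓ := by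
          rw [← hsS]
          exact Nat.Coprime.pow_left _ ((Nat.coprime_primes Fact.out hℓ).2 hℓs.symm)
        rwa [hco.gcd_eq_one, pow_one] at h4 }
  have hm' : (Fintype.card (SC ⧸ R') : k) ≠ 0 := by
    rw [← Nat.card_eq_fintype_card]
    exact hdvdk _ (R'.card_quotient_dvd_card.trans SC.card_subgroup_dvd_card)
  obtain ⟨M, hM⟩ := card_square F hm
  obtain ⟨N, hN⟩ := card_square G hm'
  rw [← Nat.card_eq_fintype_card] at hM hN
  rw [hCcard] at hN
  replace hle : Nat.card (S ⧸ R) ≤ (ℓ - 1) ^ 2 * Nat.card {y : S ⧸ R // bb y = y} := hle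
  rw [hM, hN] at hle
  have hMN : M ≤ (ℓ - 1) * N := by
    have h : M * M ≤ ((ℓ - 1) * N) * ((ℓ - 1) * N) := hle.trans (le_of_eq (by ring))
    exact Nat.mul_self_le_mul_self_iff.1 h
  obtain ⟨n, hn⟩ := hS.exists_card_eq
  obtain ⟨i, -, rfl⟩ := (Nat.dvd_prime_pow Fact.out).1
    (hn ▸ (Dvd.intro M hM.symm).trans R.card_quotient_dvd_card : M ∣ s ^ n)
  obtain ⟨j, -, rfl⟩ := (Nat.dvd_prime_pow Fact.out).1
    (hn ▸ (Dvd.intro N hN.symm).trans (hCcard ▸ R'.card_quotient_dvd_card.trans SC.card_subgroup_dvd_card) : N ∣ s ^ n)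
  have hlt : s ^ j < s ^ i := by
    by_contra hc
    push Not at hc
    refine htriv fun x => QuotientGroup.eq.1 (Eq.symm ?_)
    have hcard : Nat.card (S ⧸ R) ≤ Nat.card {y : S ⧸ R // bb y = y} := by
      rw [hM, hN]; exact Nat.mul_le_mul hc hc
    obtain ⟨⟨y, hy⟩, he⟩ := ((Subtype.val_injective (p := fun y : S ⧸ R => bb y = y)).bijective_of_nat_card_le hcard).2 (x : S ⧸ R)
    subst he
    exact hy
  have hji : j < i := (Nat.pow_lt_pow_iff_right (Fact.out : s.Prime).one_lt).1 hlt
  refine ⟨i - j, by omega, ?_⟩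
  -- the congruence
  have hmod : s ^ i * s ^ i ≡ s ^ j * s ^ j [MOD ℓ] := by
    rw [← hM, ← hN]
    have hP : IsPGroup ℓ (Subgroup.zpowers bq) := fun g => ⟨1, Subtype.ext (by
      obtain ⟨n, hn⟩ := Subgroup.mem_zpowers_iff.1 g.2
      rw [Subgroup.coe_pow, ← hn, ← zpow_natCast, ← zpow_mul, mul_comm, zpow_mul, zpow_natCast, pow_one, hbqℓ, one_zpow]
      rfl)⟩
    have h := hP.card_modEq_card_fixedPoints (S ⧸ R)
    refine h.trans (congrArg (· % ℓ) (Nat.card_congr (Equiv.subtypeEquivRight fun y => ?_)))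
    constructor
    · exact fun hy => hy ⟨bq, Subgroup.mem_zpowers bq⟩
    · intro hy g
      have : Subgroup.zpowers bq ≤ MulAction.stabilizer (Equiv.Perm (S ⧸ R)) y := Subgroup.zpowers_le.2 hy
      exact this g.2
  have hsℓ : ∀ e, (s ^ e).Coprime ℓ := fun e => Nat.Coprime.pow_left _ ((Nat.coprime_primes Fact.out hℓ).2 hℓs.symm)
  have hd : s ^ i = s ^ j * s ^ (i - j) := by rw [← pow_add, Nat.add_sub_cancel' hji.le]
  rw [hd] at hMN hmod
  have hdle : s ^ (i - j) ≤ ℓ - 1 :=
    Nat.le_of_mul_le_mul_left (hMN.trans_eq (mul_comm _ _)) (Nat.pow_pos (Fact.out : s.Prime).pos)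
  set e := s ^ (i - j) with he
  have he1 : 1 < e := Nat.one_lt_pow (by omega) (Fact.out : s.Prime).one_lt
  have hdvd : ℓ ∣ (e + 1) * (e - 1) := by
    have h1 : e * e ≡ 1 [MOD ℓ] := by
      refine Nat.ModEq.cancel_left_of_coprime (c := s ^ j * s ^ j) ?_ ?_
      · exact (Nat.Coprime.mul_left (hsℓ j) (hsℓ j)).symm
      · rw [mul_one]
        convert hmod using 1; ring
    have h2 : ℓ ∣ e * e - 1 := (Nat.modEq_iff_dvd' (Nat.one_le_iff_ne_zero.2 (by positivity))).1 h1.symm
    rwa [← Nat.mul_self_sub_mul_self_eq, mul_one]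
  rcases (Nat.Prime.dvd_mul hℓ).1 hdvd with h | h
  · have := Nat.le_of_dvd (by omega) h
    omega
  · have := Nat.le_of_dvd (by omega) h
    omega

end CfsgLib.PQFpf
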