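import Mathlib.GroupTheory.Abelianization.Defs
import Mathlib.GroupTheory.FiniteAbelian.Duality
import Mathlib.RingTheory.RootsOfUnity.AlgebraicallyClosed
import Mathlib.Algebra.Module.LinearMap.End
import Mathlib.Algebra.Group.Action.Basic
import Mathlib.Algebra.BigOperators.Field

/-!
Weight vectors of finite groups acting on a vector space through commuting operators, and the
stabilisers of weights under a compatible group of operators without fixed vectors.
-/

set_option autoImplicit false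
set_option linter.style.haveILetI false
set_option linter.unusedSectionVars false

namespace CfsgLib.PQFpf

variable {k : Type*} [Field k] {W : Type*} [AddCommGroup W] [Module k W]
variable {D : Type*} [Group D]

/-- A weight vector. -/
def IsWeight (ρ : D →* Module.End k W) (χ : D →* kˣ) (x : W) : Prop :=
  ∀ u, ρ u x = ((χ u : kˣ) : k) • x

/-- The projection onto a weight space. -/
noncomputable def wproj [Fintype D] (ρ : D →* Module.End k W) (χ : D →* kˣ) : Module.End k W :=
  (Fintype.card D : k)⁻¹ • ∑ u : D, (((χ u)⁻¹ : kˣ) : k) • ρ u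

theorem wproj_apply [Fintype D] (ρ : D →* Module.End k W) (χ : D →* kˣ) (x : W) :
    wproj ρ χ x = (Fintype.card D : k)⁻¹ • ∑ u : D, (((χ u)⁻¹ : kˣ) : k) • ρ u x := by
  simp [wproj, LinearMap.sum_apply]

theorem wproj_self [Fintype D] (hc : (Fintype.card D : k) ≠ 0) {ρ : D →* Module.End k W} {χ : D →* kˣ}
    {x : W} (hx : IsWeight ρ χ x) : wproj ρ χ x = x := by
  rw [wproj_apply, Finset.sum_congr rfl fun u _ => by
    rw [hx u, smul_smul, ← Units.val_mul, inv_mul_cancel, Units.val_one, one_smul],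
    Finset.sum_const, Finset.card_univ, ← Nat.cast_smul_eq_nsmul k, smul_smul, inv_mul_cancel₀ hc, one_smul]

theorem wproj_other [Fintype D] {ρ : D →* Module.End k W} {χ ξ : D →* kˣ} {x : W} (hx : IsWeight ρ ξ x)
    (hne : χ ≠ ξ) : wproj ρ χ x = 0 := by
  obtain ⟨u₀, hu₀⟩ : ∃ u, χ u ≠ ξ u := by
    by_contra h
    exact hne (MonoidHom.ext fun u => by_contra fun hu => h ⟨u, hu⟩)
  rw [wproj_apply, Finset.sum_congr rfl fun u _ => by rw [hx u, smul_smul, ← Units.val_mul],
    ← Finset.sum_smul]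
  have hz : ∑ u : D, ((((χ u)⁻¹ * ξ u : kˣ)) : k) = 0 := by
    have hshift : ((((χ u₀)⁻¹ * ξ u₀ : kˣ)) : k) * ∑ u : D, ((((χ u)⁻¹ * ξ u : kˣ)) : k) =
        ∑ u : D, ((((χ u)⁻¹ * ξ u : kˣ)) : k) := by
      rw [Finset.mul_sum]
      refine Fintype.sum_equiv (Equiv.mulLeft u₀) _ _ fun u => ?_
      rw [← Units.val_mul]
      congr 1
      show _ = (χ (u₀ * u))⁻¹ * ξ (u₀ * u)
      rw [map_mul, map_mul, mul_inv, mul_mul_mul_comm]
    by_contra hs
    have h1 := mul_eq_right₀ hs |>.1 hshift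
    exact hu₀ (inv_mul_eq_one.1 (Units.ext h1))
  rw [hz, zero_smul, smul_zero]

theorem isWeight_wproj [Fintype D] (ρ : D →* Module.End k W) (χ : D →* kˣ) (x : W) :
    IsWeight ρ χ (wproj ρ χ x) := by
  intro w
  rw [wproj_apply, map_smul, map_sum, smul_comm]
  congr 1
  rw [Finset.smul_sum]
  refine Fintype.sum_equiv (Equiv.mulLeft w) _ _ fun u => ?_
  rw [map_smul, ← Module.End.mul_apply, ← map_mul, smul_smul, ← Units.val_mul, Equiv.coe_mulLeft, map_mul χ,
    mul_inv, mul_inv_cancel_left]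

theorem sum_wproj {D : Type*} [CommGroup D] [Fintype D] [IsAlgClosed k] (hc : (Fintype.card D : k) ≠ 0)
    [Fintype (D →* kˣ)] (ρ : D →* Module.End k W) (x : W) : ∑ χ : D →* kˣ, wproj ρ χ x = x := by
  haveI : NeZero (Monoid.exponent D : k) := ⟨fun h0 => hc (by
    obtain ⟨q, hq⟩ := (Group.exponent_dvd_nat_card : Monoid.exponent D ∣ Nat.card D)
    rw [← Nat.card_eq_fintype_card, hq, Nat.cast_mul, h0, zero_mul])⟩
  simp only [wproj_apply, ← Finset.smul_sum]
  rw [Finset.sum_comm, Finset.sum_congr rfl fun u _ => (Finset.sum_smul).symm,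
    Finset.sum_eq_single (1 : D)]
  · simp only [map_one, inv_one, Units.val_one, Finset.sum_const, Finset.card_univ,
      Module.End.one_apply, nsmul_eq_mul, mul_one, smul_smul]
    rw [show Fintype.card (D →* kˣ) = Fintype.card D by
      rw [← Nat.card_eq_fintype_card, CommGroup.card_monoidHom_of_hasEnoughRootsOfUnity, Nat.card_eq_fintype_card],
      inv_mul_cancel₀ hc, one_smul]
  · intro u _ hu
    obtain ⟨φ, hφ⟩ := CommGroup.exists_apply_ne_one_of_hasEnoughRootsOfUnity D k hu
    have hshift : (((φ u)⁻¹ : kˣ) : k) * ∑ χ : D →* kˣ, (((χ u)⁻¹ : kˣ) : k) = ∑ χ : D →* kˣ, (((χ u)⁻¹ : kˣ) : k) := by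
      rw [Finset.mul_sum]
      refine Fintype.sum_equiv (Equiv.mulLeft φ) _ _ fun χ => ?_
      rw [← Units.val_mul, ← mul_inv]; rfl
    by_contra hs
    have hs' : ∑ χ : D →* kˣ, (((χ u)⁻¹ : kˣ) : k) ≠ 0 := fun h0 => hs (by rw [h0, zero_smul])
    have h2 : (φ u)⁻¹ = 1 := Units.ext (mul_eq_right₀ hs' |>.1 hshift)
    exact hφ (inv_eq_one.1 h2)
  · simp

variable [Finite D] [IsAlgClosed k]

/-- Operators are determined by weight vectors. -/
theorem ext_weights {U : Type*} [AddCommGroup U] [Module k U] (ρ : D →* Module.End k W)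
    (hcomm : ∀ a b : D, ρ (a * b) = ρ (b * a)) (hc : (Nat.card D : k) ≠ 0) (L : W →ₗ[k] U)
    (h : ∀ (χ : D →* kˣ) (x : W), IsWeight ρ χ x → L x = 0) : L = 0 := by
  classical
  let ρu : D →* (Module.End k W)ˣ := ρ.toHomUnits
  have hker : commutator D ≤ ρu.ker := by
    rw [commutator_def, Subgroup.commutator_le]
    intro a _ b _
    rw [MonoidHom.mem_ker, map_commutatorElement, commutatorElement_eq_one_iff_mul_comm, ← map_mul, ← map_mul]
    exact Units.ext (hcomm a b)
  let ρ' : Abelianization D →* Module.End k W :=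
    (Units.coeHom _).comp (QuotientGroup.lift (commutator D) ρu hker)
  have hρ' : ∀ d : D, ρ' (Abelianization.of d) = ρ d := fun d => rfl
  haveI : Finite (Abelianization D) := Quotient.finite _
  haveI : Fintype (Abelianization D) := Fintype.ofFinite _
  have hc' : (Fintype.card (Abelianization D) : k) ≠ 0 := fun h0 => hc (by
    obtain ⟨m, hm⟩ : Nat.card (Abelianization D) ∣ Nat.card D := (commutator D).card_quotient_dvd_card
    rw [hm, Nat.cast_mul, Nat.card_eq_fintype_card, h0, zero_mul])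
  haveI : NeZero (Monoid.exponent (Abelianization D) : k) := ⟨fun h0 => hc' (by
    obtain ⟨q, hq⟩ := (Group.exponent_dvd_nat_card : Monoid.exponent (Abelianization D) ∣ Nat.card (Abelianization D))
    rw [← Nat.card_eq_fintype_card, hq, Nat.cast_mul, h0, zero_mul])⟩
  haveI : Fintype (Abelianization D →* kˣ) := Fintype.ofFinite _
  refine LinearMap.ext fun x => ?_
  rw [← sum_wproj hc' ρ' x, map_sum, LinearMap.zero_apply]
  refine Finset.sum_eq_zero fun χ _ => h (χ.comp Abelianization.of) _ fun d => ?_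
  rw [← hρ' d, isWeight_wproj ρ' χ x (Abelianization.of d), MonoidHom.comp_apply]

/-- An element killed by all weights acts trivially. -/
theorem eq_one_of_weights (ρ : D →* Module.End k W)
    (hcomm : ∀ a b : D, ρ (a * b) = ρ (b * a)) (hc : (Nat.card D : k) ≠ 0) (u : D)
    (h : ∀ (χ : D →* kˣ) (x : W), IsWeight ρ χ x → x ≠ 0 → χ u = 1) : ρ u = 1 := by
  refine sub_eq_zero.1 (ext_weights ρ hcomm hc (ρ u - 1) fun χ x hx => ?_)
  rcases eq_or_ne x 0 with rfl | hx0
  · exact map_zero _
  · rw [LinearMap.sub_apply, hx u, h χ x hx hx0, Units.val_one, one_smul, Module.End.one_apply, sub_self]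

theorem exists_weight [Nontrivial W] (ρ : D →* Module.End k W)
    (hcomm : ∀ a b : D, ρ (a * b) = ρ (b * a)) (hc : (Nat.card D : k) ≠ 0) :
    ∃ (χ : D →* kˣ) (x : W), IsWeight ρ χ x ∧ x ≠ 0 := by
  by_contra h
  obtain ⟨y, hy⟩ := exists_ne (0 : W)
  refine hy (LinearMap.congr_fun (ext_weights ρ hcomm hc LinearMap.id fun χ x hx => ?_) y)
  by_contra hx0
  exact h ⟨χ, x, hx, hx0⟩

section Stab

variable {A : Type*} [Group A] [MulDistribMulAction A D]

/-- The stabiliser of a weight. -/
def wstab (χ : D →* kˣ) : Subgroup A where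
  carrier := {a | ∀ u, χ (a • u) = χ u}
  one_mem' u := by rw [one_smul]
  mul_mem' {a b} ha hb u := by rw [mul_smul, ha, hb]
  inv_mem' {a} ha u := by rw [← ha (a⁻¹ • u), smul_inv_smul]

theorem mem_wstab {χ : D →* kˣ} {a : A} : a ∈ wstab (k := k) χ ↔ ∀ u, χ (a • u) = χ u := Iff.rfl

variable {ρ : D →* Module.End k W} {α : A →* Module.End k W}

theorem isWeight_op (hα : ∀ a u, α a * ρ u = ρ (a • u) * α a) {χ : D →* kˣ} {x : W}
    (hx : IsWeight ρ χ x) (a : A) :
    IsWeight ρ (χ.comp (MulDistribMulAction.toMonoidHom D a⁻¹)) (α a x) := fun u => by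
  have h := LinearMap.congr_fun (hα a (a⁻¹ • u)) x
  rw [Module.End.mul_apply, Module.End.mul_apply, smul_inv_smul, hx, map_smul] at h
  exact h.symm

/-- A weight vector fixed by the stabiliser of its weight vanishes if the whole group fixes nothing. -/
theorem eq_zero_of_fixed [Fintype A] (hα : ∀ a u, α a * ρ u = ρ (a • u) * α a)
    (hsum : ∑ a, α a = 0) (hc : (Nat.card D : k) ≠ 0) (hA : (Nat.card A : k) ≠ 0)
    {χ : D →* kˣ} {x : W} (hx : IsWeight ρ χ x)
    (hfix : ∀ a ∈ (wstab χ : Subgroup A), α a x = x) : x = 0 := by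
  classical
  haveI : Fintype D := Fintype.ofFinite D
  rw [Nat.card_eq_fintype_card] at hc
  have hB : (Nat.card (wstab χ : Subgroup A) : k) ≠ 0 := fun h0 => hA (by
    obtain ⟨m, hm⟩ := (wstab χ : Subgroup A).card_subgroup_dvd_card
    rw [hm, Nat.cast_mul, h0, zero_mul])
  have h := congrArg (fun L : Module.End k W => wproj ρ χ (L x)) hsum
  simp only [LinearMap.sum_apply, map_sum, LinearMap.zero_apply, map_zero] at h
  rw [← Finset.sum_filter_add_sum_filter_not _ (fun a => a ∈ (wstab χ : Subgroup A))] at h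
  rw [Finset.sum_congr rfl fun a ha => by rw [hfix a (Finset.mem_filter.1 ha).2, wproj_self hc hx],
    Finset.sum_eq_zero (s := Finset.univ.filter fun a => ¬ a ∈ (wstab χ : Subgroup A)) fun a ha => by
      refine wproj_other (isWeight_op hα hx a) fun he => (Finset.mem_filter.1 ha).2 ?_
      refine inv_mem_iff.1 fun u => ?_
      exact (DFunLike.congr_fun he u).symm,
    add_zero, Finset.sum_const, ← Nat.cast_smul_eq_nsmul k] at h
  refine (smul_eq_zero.1 h).resolve_left ?_
  rwa [← Fintype.card_subtype, ← Nat.card_eq_fintype_card]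

theorem wstab_ne_bot [Fintype A] (hα : ∀ a u, α a * ρ u = ρ (a • u) * α a)
    (hsum : ∑ a, α a = 0) (hc : (Nat.card D : k) ≠ 0) (hA : (Nat.card A : k) ≠ 0)
    {χ : D →* kˣ} {x : W} (hx : IsWeight ρ χ x) (hx0 : x ≠ 0) :
    (wstab χ : Subgroup A) ≠ ⊥ := fun hbot =>
  hx0 (eq_zero_of_fixed hα hsum hc hA hx fun a ha => by
    rw [hbot, Subgroup.mem_bot] at ha
    rw [ha, map_one, Module.End.one_apply])

end Stab

end CfsgLib.PQFpf
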