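import Mathlib.GroupTheory.QuotientGroup.Basic
import Mathlib.GroupTheory.GroupAction.Quotient
import Mathlib.RingTheory.IntegralDomain
import Mathlib.RingTheory.RootsOfUnity.AlgebraicallyClosed
import Mathlib.LinearAlgebra.Eigenspace.Triangularizable
import Mathlib.LinearAlgebra.Dimension.Constructions
import Mathlib.LinearAlgebra.Matrix.ToLin
import Mathlib.Algebra.Order.Chebyshev

/-!
The Hall–Higman bound: an automorphism of prime order of a group with non-degenerate commutator
form, represented without fixed vectors, moves few classes modulo the radical.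
-/

set_option autoImplicit false
set_option linter.style.haveILetI false
set_option linter.unusedSectionVars false

namespace CfsgLib.PQFpf

open Module

variable {k : Type*} [Field k] {W : Type*} [AddCommGroup W] [Module k W]
variable {S : Type*} [Group S]

/-- A representation scalar on `R` with a commutator form whose radical is `R`. -/
structure FormRep (π : S →* Module.End k W) (R : Subgroup S) where
  χ : S →* (S →* kˣ)
  scalar : ∀ u ∈ R, ∃ c : k, π u = c • 1
  rel : ∀ x y, π x * π y = ((χ x y : kˣ) : k) • (π y * π x)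
  left_rad : ∀ u ∈ R, ∀ y, χ u y = 1
  right_rad : ∀ x, (∀ y, χ y x = 1) → x ∈ R
  rad_right : ∀ u ∈ R, ∀ y, χ y u = 1

variable {π : S →* Module.End k W} {R : Subgroup S}

namespace FormRep

variable (F : FormRep π R)

theorem π_inv_mul (x : S) : π x⁻¹ * π x = 1 := by rw [← map_mul, inv_mul_cancel, map_one]

theorem π_mul_inv (x : S) : π x * π x⁻¹ = 1 := by rw [← map_mul, mul_inv_cancel, map_one]

include F in
theorem conj_rad (u : S) (hu : u ∈ R) (T : Module.End k W) : π u * T * π u⁻¹ = T := by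
  obtain ⟨c, hc⟩ := F.scalar u hu
  have h := π_mul_inv (π := π) u
  rw [hc] at h ⊢
  rw [show c • (1 : Module.End k W) * T = T * c • (1 : Module.End k W) by rw [smul_mul_assoc, one_mul, mul_smul_comm, mul_one],
    mul_assoc, h, mul_one]

include F in
theorem conj_congr {v w : S} (h : v⁻¹ * w ∈ R) (T : Module.End k W) :
    π v * T * π v⁻¹ = π w * T * π w⁻¹ := by
  obtain ⟨u, hu, rfl⟩ : ∃ u ∈ R, w = v * u := ⟨v⁻¹ * w, h, by group⟩
  rw [mul_inv_rev, map_mul, map_mul, show π v * π u * T * (π u⁻¹ * π v⁻¹) =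
    π v * (π u * T * π u⁻¹) * π v⁻¹ by simp only [mul_assoc], F.conj_rad _ hu]

variable [Finite S] [R.Normal]

/-- The average over the classes modulo the radical. -/
noncomputable def avg [Fintype (S ⧸ R)] (_F : FormRep π R) (T : Module.End k W) : Module.End k W :=
  ∑ z : S ⧸ R, π z.out * T * π z.out⁻¹

/-- The commutant. -/
def comm (_F : FormRep π R) : Submodule k (Module.End k W) where
  carrier := {X | ∀ x, π x * X = X * π x}
  add_mem' {X Y} hX hY x := by rw [mul_add, add_mul, hX, hY]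
  zero_mem' x := by rw [mul_zero, zero_mul]
  smul_mem' c X hX x := by rw [mul_smul_comm, smul_mul_assoc, hX]

variable [Fintype (S ⧸ R)]

theorem avg_mem (T : Module.End k W) : F.avg T ∈ F.comm := by
  intro x
  rw [avg, Finset.mul_sum, Finset.sum_mul]
  refine Fintype.sum_equiv (Equiv.mulLeft (x : S ⧸ R)) _ _ fun z => ?_
  have hcl : (x * z.out)⁻¹ * ((x : S ⧸ R) * z).out ∈ R := by
    rw [← QuotientGroup.eq, QuotientGroup.mk_mul, QuotientGroup.out_eq', QuotientGroup.out_eq']
  rw [Equiv.coe_mulLeft, ← F.conj_congr hcl, map_mul, mul_inv_rev, map_mul]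
  simp only [mul_assoc, π_inv_mul, mul_one]

theorem sum_χ {x : S} (hx : x ∉ R) : ∑ y : S ⧸ R, ((F.χ y.out x : kˣ) : k) = 0 := by
  classical
  let f : S ⧸ R →* k := (Units.coeHom k).comp
    (QuotientGroup.lift R (F.χ.flip x) fun u hu => MonoidHom.mem_ker.2 (F.left_rad u hu x))
  have hf : ∀ y : S, f (y : S ⧸ R) = ((F.χ y x : kˣ) : k) := fun y => rfl
  rw [Finset.sum_congr rfl fun y _ => show ((F.χ y.out x : kˣ) : k) = f y by rw [← hf, QuotientGroup.out_eq']]
  refine sum_hom_units_eq_zero f fun h => hx (F.right_rad x fun y => Units.ext ?_)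
  rw [← hf, h]
  rfl

/-- Components of an operator. -/
noncomputable def coeff (y : S ⧸ R) : Module.End k W →ₗ[k] Module.End k W where
  toFun T := F.avg (π y.out⁻¹ * T)
  map_add' T U := by simp only [avg, mul_add, add_mul, Finset.sum_add_distrib]
  map_smul' c T := by simp only [avg, mul_smul_comm, smul_mul_assoc, Finset.smul_sum, RingHom.id_apply]

theorem coeff_mem (y : S ⧸ R) (T : Module.End k W) : F.coeff y T ∈ F.comm := F.avg_mem _

/-- Every operator is recovered from its components. -/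
theorem sum_coeff (T : Module.End k W) :
    ∑ y : S ⧸ R, π y.out * F.coeff y T = (Fintype.card (S ⧸ R) : k) • T := by
  classical
  simp only [coeff, LinearMap.coe_mk, AddHom.coe_mk, avg, Finset.mul_sum]
  rw [Finset.sum_comm]
  have h : ∀ y z : S ⧸ R, π y.out * (π z.out * (π y.out⁻¹ * T) * π z.out⁻¹) =
      ((F.χ y.out z.out : kˣ) : k) • (π z.out * T * π z.out⁻¹) := fun y z => by
    rw [show π y.out * (π z.out * (π y.out⁻¹ * T) * π z.out⁻¹) =
      (π y.out * π z.out) * π y.out⁻¹ * T * π z.out⁻¹ by simp only [mul_assoc], F.rel]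
    simp only [smul_mul_assoc, mul_assoc]
    rw [← mul_assoc (π y.out) (π y.out⁻¹), π_mul_inv, one_mul]
  simp only [h, ← Finset.sum_smul]
  rw [Finset.sum_eq_single (1 : S ⧸ R)]
  · have h1 : ((1 : S ⧸ R).out) ∈ R := by
      rw [← QuotientGroup.eq_one_iff, QuotientGroup.out_eq']
    rw [F.conj_rad _ h1, Finset.sum_congr rfl fun y _ => by
      rw [F.rad_right _ h1], Finset.sum_const, Finset.card_univ, Units.val_one, nsmul_eq_mul, mul_one]
  · intro z _ hz
    rw [F.sum_χ, zero_smul]
    rw [← QuotientGroup.eq_one_iff, QuotientGroup.out_eq']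
    exact hz
  · simp

theorem coeff_sum (f : S ⧸ R → Module.End k W) (hf : ∀ y, f y ∈ F.comm) (w : S ⧸ R) :
    F.coeff w (∑ y : S ⧸ R, π y.out * f y) = (Fintype.card (S ⧸ R) : k) • f w := by
  classical
  rw [map_sum]
  have key : ∀ y : S ⧸ R, F.coeff w (π y.out * f y) =
      (∑ z : S ⧸ R, ((F.χ z.out (w.out⁻¹ * y.out) : kˣ) : k)) • (π (w.out⁻¹ * y.out) * f y) := by
    intro y
    simp only [coeff, LinearMap.coe_mk, AddHom.coe_mk, avg, Finset.sum_smul]
    refine Finset.sum_congr rfl fun z _ => ?_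
    rw [← mul_assoc (π w.out⁻¹), ← map_mul, show π z.out * (π (w.out⁻¹ * y.out) * f y) * π z.out⁻¹ =
      (π z.out * π (w.out⁻¹ * y.out)) * (f y * π z.out⁻¹) by simp only [mul_assoc], F.rel, ← hf y z.out⁻¹]
    simp only [smul_mul_assoc, mul_assoc]
    rw [← mul_assoc (π z.out) (π z.out⁻¹), π_mul_inv, one_mul]
  rw [Finset.sum_eq_single w]
  · rw [key, inv_mul_cancel, map_one, one_mul]
    simp
  · intro y _ hy
    rw [key, F.sum_χ, zero_smul]
    intro h
    apply hy
    have h2 := QuotientGroup.eq.2 h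
    rw [QuotientGroup.out_eq', QuotientGroup.out_eq'] at h2
    exact h2.symm
  · simp

variable [FiniteDimensional k W]

/-- The dimension of the space of operators. -/
theorem finrank_sq (hm : (Fintype.card (S ⧸ R) : k) ≠ 0) :
    finrank k W * finrank k W = Fintype.card (S ⧸ R) * finrank k F.comm := by
  have hpi : Fintype.card (S ⧸ R) * finrank k F.comm = finrank k (S ⧸ R → F.comm) := by
    rw [Module.finrank_pi_fintype k (M := fun _ : S ⧸ R => F.comm), Finset.sum_const, Finset.card_univ, smul_eq_mul]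
  rw [← Module.finrank_linearMap k k W W, hpi]
  refine le_antisymm ?_ ?_
  · let Φ : Module.End k W →ₗ[k] (S ⧸ R → F.comm) :=
      LinearMap.pi fun y => (F.coeff y).codRestrict F.comm fun T => F.coeff_mem y T
    refine LinearMap.finrank_le_finrank_of_injective (f := Φ) ((injective_iff_map_eq_zero Φ).2 fun T hT => ?_)
    have h := F.sum_coeff T
    rw [Finset.sum_eq_zero fun y _ => by
      rw [show F.coeff y T = 0 from congrArg Subtype.val (congrFun hT y), mul_zero]] at h
    exact (smul_eq_zero.1 h.symm).resolve_left hm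
  · let Ψ : (S ⧸ R → F.comm) →ₗ[k] Module.End k W :=
      { toFun := fun f => ∑ y : S ⧸ R, π y.out * (f y : Module.End k W)
        map_add' := fun f g => by simp [mul_add, Finset.sum_add_distrib]
        map_smul' := fun c f => by simp [Finset.smul_sum] }
    refine LinearMap.finrank_le_finrank_of_injective (f := Ψ) ((injective_iff_map_eq_zero Ψ).2 fun f hf => ?_)
    funext w
    have h := F.coeff_sum (fun y => (f y : Module.End k W)) (fun y => (f y).2) w
    rw [show (∑ y : S ⧸ R, π y.out * (f y : Module.End k W)) = 0 from hf, map_zero] at h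
    exact Subtype.ext ((smul_eq_zero.1 h.symm).resolve_left hm)

theorem comm_ne_zero [Nontrivial W] : finrank k F.comm ≠ 0 := by
  intro h
  have h1 : (1 : Module.End k W) ∈ F.comm := fun x => by rw [mul_one, one_mul]
  rw [Submodule.finrank_eq_zero.1 h, Submodule.mem_bot] at h1
  exact one_ne_zero h1

end FormRep

/-- The index of the radical is a square. -/
theorem card_square [IsAlgClosed k] [Finite S] [FiniteDimensional k W] [Nontrivial W]
    (F : FormRep π R) [R.Normal] [Fintype (S ⧸ R)] (hm : (Fintype.card (S ⧸ R) : k) ≠ 0) :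
    ∃ d, Fintype.card (S ⧸ R) = d * d := by
  classical
  obtain ⟨U, hU⟩ : ∃ U : Submodule k W, MinimalFor (fun U : Submodule k W => U ≠ ⊥ ∧ ∀ x, ∀ v ∈ U, π x v ∈ U)
      (fun U => finrank k U) U :=
    exists_minimalFor_of_wellFoundedLT _ _ ⟨⊤, top_ne_bot, fun _ _ _ => Submodule.mem_top⟩
  obtain ⟨hU0, hUi⟩ := hU.1
  haveI : Nontrivial U := Submodule.nontrivial_iff_ne_bot.2 hU0
  let πU : S →* Module.End k U :=
    { toFun := fun x => (π x).restrict (hUi x)
      map_one' := LinearMap.ext fun v => Subtype.ext (by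
        show π 1 (v : W) = v
        rw [map_one]; rfl)
      map_mul' := fun x y => LinearMap.ext fun v => Subtype.ext (by
        show π (x * y) (v : W) = π x (π y v)
        rw [map_mul]; rfl) }
  let G : FormRep πU R :=
    { χ := F.χ
      scalar := fun u hu => by
        obtain ⟨c, hc⟩ := F.scalar u hu
        exact ⟨c, LinearMap.ext fun v => Subtype.ext (LinearMap.congr_fun hc (v : W))⟩
      rel := fun x y => LinearMap.ext fun v => Subtype.ext (LinearMap.congr_fun (F.rel x y) (v : W))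
      left_rad := F.left_rad
      right_rad := F.right_rad
      rad_right := F.rad_right }
  refine ⟨finrank k U, ?_⟩
  rw [G.finrank_sq hm]
  suffices h : finrank k G.comm ≤ 1 by
    have := G.comm_ne_zero
    rw [show finrank k G.comm = 1 by omega, mul_one]
  refine finrank_le_one (⟨1, fun x => by rw [mul_one, one_mul]⟩ : G.comm) fun X => ?_
  obtain ⟨c, hc⟩ := Module.End.exists_eigenvalue (X : Module.End k U)
  refine ⟨c, Subtype.ext (LinearMap.ext fun v => ?_)⟩
  let U' : Submodule k W := (Module.End.eigenspace (X : Module.End k U) c).map U.subtype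
  have hle : U' ≤ U := Submodule.map_subtype_le _ _
  have hU'i : ∀ x, ∀ w ∈ U', π x w ∈ U' := by
    rintro x _ ⟨w, hw, rfl⟩
    refine ⟨πU x w, ?_, rfl⟩
    rw [SetLike.mem_coe, Module.End.mem_eigenspace_iff] at hw ⊢
    have h := LinearMap.congr_fun (X.2 x) w
    rw [Module.End.mul_apply, Module.End.mul_apply, hw, map_smul] at h
    exact h.symm
  have hU'0 : U' ≠ ⊥ := fun h => hc
    (Submodule.map_injective_of_injective U.injective_subtype (h.trans (Submodule.map_bot _).symm))
  have heq : U' = U := Submodule.eq_of_le_of_finrank_le hle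
    (hU.le_of_le ⟨hU'0, hU'i⟩ (Submodule.finrank_mono hle))
  obtain ⟨w, hw, hwv⟩ := heq.ge v.2
  rw [SetLike.mem_coe, Module.End.mem_eigenspace_iff] at hw
  rw [show v = w from Subtype.ext hwv.symm]
  exact hw.symm

/-- Exponents modulo the order. -/
theorem pow_mod_mul_eq {M : Type*} [Monoid M] {n : ℕ} (hn : 1 < n) (i : Fin n) {x : M} (hx : x ^ n = 1) :
    x ^ ((i : ℕ) + 1) = x ^ (((i : ℕ) + 1 % n) % n) := by
  rw [Nat.mod_eq_of_lt hn, ← pow_eq_pow_mod _ hx]

/-- The Hall–Higman bound. -/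
theorem card_le [IsAlgClosed k] [Finite S] [FiniteDimensional k W] [Nontrivial W]
    (F : FormRep π R) [R.Normal] [Fintype (S ⧸ R)] (hm : (Fintype.card (S ⧸ R) : k) ≠ 0)
    (b : MulAut S) (bq : Equiv.Perm (S ⧸ R)) (hbq : ∀ x : S, bq (x : S ⧸ R) = ((b x : S) : S ⧸ R))
    {ℓ : ℕ} (hℓ : ℓ.Prime) (hℓk : (ℓ : k) ≠ 0) (hbqℓ : bq ^ ℓ = 1)
    (B : Module.End k W) (hB : B ^ ℓ = 1) (hcompat : ∀ x, B * π x = π (b x) * B)
    (hsum : ∑ i : Fin ℓ, B ^ (i : ℕ) = 0) :
    Fintype.card (S ⧸ R) ≤ (ℓ - 1) ^ 2 * Nat.card {y : S ⧸ R // bq y = y} := by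
  classical
  rcases eq_or_ne bq 1 with hb1 | hb1
  · subst hb1
    rw [show Nat.card {y : S ⧸ R // (1 : Equiv.Perm (S ⧸ R)) y = y} = Fintype.card (S ⧸ R) by
      rw [Nat.card_congr (Equiv.subtypeUnivEquiv fun y : S ⧸ R => by rfl), Nat.card_eq_fintype_card]]
    have := hℓ.two_le
    exact Nat.le_mul_of_pos_left _ (pow_pos (by omega) 2)
  haveI := Fact.mk hℓ
  have hord : orderOf bq = ℓ := orderOf_eq_prime hbqℓ hb1
  let H := Subgroup.zpowers bq
  haveI : Fintype H := Fintype.ofFinite _
  let Y := Quotient (MulAction.orbitRel H (S ⧸ R))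
  haveI : Fintype Y := Fintype.ofFinite _
  -- orbit count
  have hcount : ℓ * Fintype.card Y ≤ Fintype.card (S ⧸ R) + (ℓ - 1) * Nat.card {y : S ⧸ R // bq y = y} := by
    have hH : Fintype.card H = ℓ := by rw [← Nat.card_eq_fintype_card, Nat.card_zpowers, hord]
    have hcong := MulAction.sum_card_fixedBy_eq_card_orbits_mul_card_group H (S ⧸ R)
    rw [hH, mul_comm] at hcong
    rw [← hcong, ← Finset.add_sum_erase _ _ (Finset.mem_univ (1 : H))]
    refine Nat.add_le_add ?_ ?_
    · exact Fintype.card_subtype_le _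
    · refine (Finset.sum_le_card_nsmul _ _ (Nat.card {y : S ⧸ R // bq y = y}) fun g hg => ?_).trans ?_
      · rw [← Nat.card_eq_fintype_card]
        refine Nat.card_le_card_of_injective (fun y => ⟨y.1, ?_⟩) fun y z h => Subtype.ext (congrArg Subtype.val h :)
        have hg1 : g ≠ 1 := (Finset.mem_erase.1 hg).1
        haveI : IsCyclic H := inferInstance
        have hgen : bq ∈ Subgroup.zpowers (g : Equiv.Perm (S ⧸ R)) := by
          have hle : Subgroup.zpowers (g : Equiv.Perm (S ⧸ R)) ≤ H := Subgroup.zpowers_le.2 g.2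
          have h1 : orderOf (g : Equiv.Perm (S ⧸ R)) = ℓ := orderOf_eq_prime
            (by rw [← Subgroup.coe_pow, ← hH, pow_card_eq_one]; rfl) fun h => hg1 (Subtype.ext h)
          exact (Subgroup.eq_of_le_of_card_ge hle (by rw [Nat.card_zpowers, Nat.card_zpowers, h1, hord])).ge
            (Subgroup.mem_zpowers bq)
        have hfix : Subgroup.zpowers (g : Equiv.Perm (S ⧸ R)) ≤ MulAction.stabilizer (Equiv.Perm (S ⧸ R)) y.1 :=
          Subgroup.zpowers_le.2 y.2
        exact hfix hgen
      · rw [Finset.card_erase_of_mem (Finset.mem_univ _), Finset.card_univ, hH, smul_eq_mul]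
  -- the centraliser of `B`
  let Z : Submodule k (Module.End k W) :=
    { carrier := {T | B * T = T * B}
      add_mem' := fun {T U} hT hU => by simp only [Set.mem_ofPred_eq] at hT hU ⊢; rw [mul_add, add_mul, hT, hU]
      zero_mem' := by simp
      smul_mem' := fun c T hT => by simp only [Set.mem_ofPred_eq] at hT ⊢; rw [mul_smul_comm, smul_mul_assoc, hT] }
  have hstep : ∀ T ∈ Z, ∀ y : S ⧸ R, F.coeff y T = 0 → F.coeff (bq y) T = 0 := by
    intro T hT y hy
    have hBi : B * B ^ (ℓ - 1) = 1 := by rw [← pow_succ', Nat.sub_add_cancel hℓ.one_lt.le, hB]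
    have hu : (b y.out)⁻¹ * (bq y).out ∈ R := by
      rw [← QuotientGroup.eq, QuotientGroup.out_eq', ← hbq, QuotientGroup.out_eq']
    set u := (b y.out)⁻¹ * (bq y).out with hu'
    obtain ⟨c, hc⟩ := F.scalar u⁻¹ (R.inv_mem hu)
    have h : B * F.coeff y T = F.avg (π (b y.out)⁻¹ * T) * B := by
      simp only [FormRep.coeff, LinearMap.coe_mk, AddHom.coe_mk, FormRep.avg, Finset.mul_sum, Finset.sum_mul]
      refine Fintype.sum_equiv bq _ _ fun z => ?_
      have hz : (b z.out)⁻¹ * (bq z).out ∈ R := by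
        rw [← QuotientGroup.eq, QuotientGroup.out_eq', ← hbq, QuotientGroup.out_eq']
      rw [← F.conj_congr hz]
      have hTB : B * T = T * B := hT
      rw [show B * (π z.out * (π y.out⁻¹ * T) * π z.out⁻¹) = B * π z.out * π y.out⁻¹ * T * π z.out⁻¹ by
        simp only [mul_assoc], hcompat, mul_assoc (π (b z.out)) B, hcompat, map_inv b,
        show π (b z.out) * (π (b y.out)⁻¹ * B) * T * π z.out⁻¹ =
          π (b z.out) * π (b y.out)⁻¹ * (B * T) * π z.out⁻¹ by simp only [mul_assoc], hTB]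
      simp only [mul_assoc]
      rw [hcompat, map_inv b]
    rw [hy, mul_zero] at h
    have h2 := congrArg (· * B ^ (ℓ - 1)) h
    simp only [zero_mul, mul_assoc, hBi, mul_one] at h2
    show F.avg (π (bq y).out⁻¹ * T) = 0
    rw [show (bq y).out⁻¹ = u⁻¹ * (b y.out)⁻¹ by rw [hu']; group, map_mul, hc, smul_mul_assoc, one_mul,
      smul_mul_assoc]
    simp only [FormRep.avg, mul_smul_comm, smul_mul_assoc, ← Finset.smul_sum]
    rw [show (∑ z : S ⧸ R, π z.out * (π (b y.out)⁻¹ * T) * π z.out⁻¹) = 0 by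
      simpa only [FormRep.avg] using h2.symm, smul_zero]
  have hZ : finrank k Z ≤ Fintype.card Y * finrank k F.comm := by
    let Φ : Z →ₗ[k] (Y → F.comm) := LinearMap.pi fun y =>
      ((F.coeff (y : Y).out).comp Z.subtype).codRestrict F.comm fun T => F.coeff_mem _ _
    have hΦ : Function.Injective Φ := (injective_iff_map_eq_zero Φ).2 fun T hT => by
      have hall : ∀ y : S ⧸ R, F.coeff y (T : Module.End k W) = 0 := by
        intro y
        have h0 : F.coeff (Quotient.mk (MulAction.orbitRel H (S ⧸ R)) y : Y).out (T : Module.End k W) = 0 :=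
          congrArg Subtype.val (congrFun hT _)
        obtain ⟨g, hg⟩ := (MulAction.orbitRel_apply.1 (Quotient.mk_out (s := MulAction.orbitRel H (S ⧸ R)) y))
        have h1 : ∀ n : ℕ, F.coeff ((bq ^ n) (Quotient.mk (MulAction.orbitRel H (S ⧸ R)) y : Y).out)
            (T : Module.End k W) = 0 := fun n => by
          induction n with
          | zero => exact h0
          | succ n ih => rw [pow_succ', Equiv.Perm.mul_apply]; exact hstep _ T.2 _ ih
        obtain ⟨n, hn⟩ := (Submonoid.mem_powers_iff _ _).1 (mem_powers_iff_mem_zpowers.2 (H.inv_mem g.2))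
        have h2 := h1 n
        rw [← hg, hn] at h2
        simpa [Subgroup.smul_def, Equiv.Perm.smul_def] using h2
      have h := F.sum_coeff (T : Module.End k W)
      rw [Finset.sum_eq_zero fun y _ => by rw [hall y, mul_zero]] at h
      exact Subtype.ext ((smul_eq_zero.1 h.symm).resolve_left hm)
    refine (LinearMap.finrank_le_finrank_of_injective hΦ).trans_eq ?_
    rw [Module.finrank_pi_fintype k (M := fun _ : Y => F.comm), Finset.sum_const, Finset.card_univ, smul_eq_mul]
  -- eigenspaces of `B`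
  haveI : NeZero (ℓ : k) := ⟨hℓk⟩
  obtain ⟨ζ, hζ⟩ := HasEnoughRootsOfUnity.exists_primitiveRoot k ℓ
  have hζ0 : ζ ≠ 0 := hζ.ne_zero hℓ.ne_zero
  let P : Fin ℓ → Module.End k W := fun j => (ℓ : k)⁻¹ • ∑ i : Fin ℓ, (ζ ^ (j : ℕ)) ^ (i : ℕ) • B ^ (i : ℕ)
  have hBP : ∀ j, B * P j = ((ζ ^ (j : ℕ))⁻¹) • P j := by
    intro j
    have hzℓ : (ζ ^ (j : ℕ)) ^ ℓ = 1 := by rw [← pow_mul, mul_comm, pow_mul, hζ.pow_eq_one, one_pow]
    simp only [P, mul_smul_comm, Finset.mul_sum, Finset.smul_sum, smul_smul, ← pow_succ']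
    haveI : NeZero ℓ := ⟨hℓ.ne_zero⟩
    refine Fintype.sum_equiv (Equiv.addRight (1 : Fin ℓ)) _ _ fun i => ?_
    rw [Equiv.coe_addRight, Fin.val_add, Fin.val_one', ← pow_mod_mul_eq hℓ.one_lt i hzℓ,
      ← pow_mod_mul_eq hℓ.one_lt i hB]
    congr 1
    rw [pow_succ]
    field_simp
  have hPB : ∀ j, P j * B = ((ζ ^ (j : ℕ))⁻¹) • P j := fun j => by
    rw [← hBP j]
    show ((ℓ : k)⁻¹ • ∑ i : Fin ℓ, (ζ ^ (j : ℕ)) ^ (i : ℕ) • B ^ (i : ℕ)) * B = B * _
    have h : Commute (∑ i : Fin ℓ, (ζ ^ (j : ℕ)) ^ (i : ℕ) • B ^ (i : ℕ)) B :=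
      Commute.sum_left _ _ _ fun i _ => (Commute.pow_self B (i : ℕ)).smul_left ((ζ ^ (j : ℕ)) ^ (i : ℕ))
    exact (h.smul_left (ℓ : k)⁻¹).eq
  have hgeom : ∀ x : k, x ^ ℓ = 1 → x ≠ 1 → ∑ i : Fin ℓ, x ^ (i : ℕ) = 0 := fun x h1 h2 => by
    have h3 := geom_sum_mul x ℓ
    rw [h1, sub_self, mul_eq_zero] at h3
    rw [Fin.sum_univ_eq_sum_range fun i => x ^ i]
    exact h3.resolve_right (sub_ne_zero.2 h2)
  have hBpow : ∀ (n : ℕ) j, B ^ n * P j = ((ζ ^ (j : ℕ))⁻¹) ^ n • P j := fun n j => by
    induction n with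
    | zero => rw [pow_zero, pow_zero, one_mul, one_smul]
    | succ n ih => rw [pow_succ', mul_assoc, ih, mul_smul_comm, hBP, smul_smul, ← pow_succ]
  have hPP : ∀ i j, P i * P j = if i = j then P j else 0 := by
    intro i j
    conv_lhs => rw [show P i = (ℓ : k)⁻¹ • ∑ n : Fin ℓ, (ζ ^ (i : ℕ)) ^ (n : ℕ) • B ^ (n : ℕ) from rfl]
    simp only [smul_mul_assoc, Finset.sum_mul, hBpow, smul_smul, ← mul_pow, ← Finset.sum_smul]
    split_ifs with hij
    · subst hij
      simp only [mul_inv_cancel₀ (pow_ne_zero _ hζ0), one_pow, Finset.sum_const, Finset.card_univ, Fintype.card_fin,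
        nsmul_eq_mul, mul_one, inv_mul_cancel₀ hℓk, one_smul]
    · rw [hgeom, mul_zero, zero_smul]
      · rw [mul_pow, inv_pow, ← pow_mul, ← pow_mul, mul_comm (i : ℕ), mul_comm (j : ℕ), pow_mul, pow_mul,
          hζ.pow_eq_one, one_pow, one_pow, inv_one, mul_one]
      · intro h
        exact hij (Fin.ext (hζ.pow_inj i.2 j.2 ((mul_inv_eq_one₀ (pow_ne_zero _ hζ0)).1 h)))
  have hsumP : ∑ j, P j = 1 := by
    simp only [P, ← Finset.smul_sum]
    rw [Finset.sum_comm]
    simp only [← Finset.sum_smul, ← pow_mul]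
    haveI : NeZero ℓ := ⟨hℓ.ne_zero⟩
    rw [Finset.sum_eq_single (0 : Fin ℓ)]
    · simp [smul_smul, inv_mul_cancel₀ hℓk]
    · intro i _ hi
      rw [show ∑ j : Fin ℓ, ζ ^ ((j : ℕ) * (i : ℕ)) = ∑ j : Fin ℓ, (ζ ^ (i : ℕ)) ^ (j : ℕ) from
        Finset.sum_congr rfl fun j _ => by rw [← pow_mul, mul_comm], hgeom _ (by
          rw [← pow_mul, mul_comm, pow_mul, hζ.pow_eq_one, one_pow])
        (hζ.pow_ne_one_of_pos_of_lt (fun h => hi (Fin.ext h)) i.2), zero_smul]
    · simp
  let E : Fin ℓ → Submodule k W := fun j => LinearMap.range (P j)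
  have hPfix : ∀ j, ∀ w ∈ E j, ∀ i, P i w = if i = j then w else 0 := by
    rintro j _ ⟨w, rfl⟩ i
    rw [← Module.End.mul_apply, hPP]
    split_ifs <;> rfl
  let eqv : W ≃ₗ[k] ((j : Fin ℓ) → E j) :=
    { toFun := fun w j => ⟨P j w, w, rfl⟩
      map_add' := fun v w => funext fun j => Subtype.ext (map_add (P j) v w)
      map_smul' := fun c w => funext fun j => Subtype.ext (map_smul (P j) c w)
      invFun := fun f => ∑ j, (f j : W)
      left_inv := fun w => by
        show ∑ j, P j w = w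
        rw [← LinearMap.sum_apply, hsumP]; rfl
      right_inv := fun f => funext fun j => Subtype.ext (by
        show P j (∑ i, (f i : W)) = f j
        rw [map_sum, Finset.sum_eq_single j]
        · rw [hPfix j _ (f j).2, if_pos rfl]
        · intro i _ hi; rw [hPfix i _ (f i).2, if_neg (Ne.symm hi)]
        · simp) }
  haveI : NeZero ℓ := ⟨hℓ.ne_zero⟩
  have hd : finrank k W = ∑ j ∈ Finset.univ.erase (0 : Fin ℓ), finrank k (E j) := by
    rw [eqv.finrank_eq, Module.finrank_pi_fintype k, ← Finset.add_sum_erase _ _ (Finset.mem_univ (0 : Fin ℓ)),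
      show finrank k (E 0) = 0 from ?_, zero_add]
    rw [Submodule.finrank_eq_zero]
    show LinearMap.range (P 0) = ⊥
    rw [LinearMap.range_eq_bot]
    simp only [P, Fin.val_zero, pow_zero, one_pow, one_smul, hsum, smul_zero]
  have hlow : ∑ j ∈ Finset.univ.erase (0 : Fin ℓ), finrank k (E j) ^ 2 ≤ finrank k Z := by
    refine (Finset.sum_le_univ_sum_of_nonneg (fun j => Nat.zero_le _)).trans ?_
    rw [show ∑ j, finrank k (E j) ^ 2 = finrank k ((j : Fin ℓ) → (E j →ₗ[k] E j)) by
      rw [Module.finrank_pi_fintype k]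
      exact Finset.sum_congr rfl fun j _ => by rw [Module.finrank_linearMap, sq]]
    let Ψ : ((j : Fin ℓ) → (E j →ₗ[k] E j)) →ₗ[k] Z :=
      { toFun := fun f => ⟨∑ j, (E j).subtype ∘ₗ f j ∘ₗ (P j).rangeRestrict, by
          show B * _ = _ * B
          rw [Finset.mul_sum, Finset.sum_mul]
          refine Finset.sum_congr rfl fun j _ => LinearMap.ext fun w => ?_
          obtain ⟨v, hv⟩ := (f j ((P j).rangeRestrict w)).2
          simp only [Module.End.mul_apply, LinearMap.coe_comp, Function.comp_apply, Submodule.coe_subtype]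
          rw [show (P j).rangeRestrict (B w) = ((ζ ^ (j : ℕ))⁻¹) • (P j).rangeRestrict w from
            Subtype.ext (LinearMap.congr_fun (hPB j) w), map_smul, Submodule.coe_smul, ← hv,
            ← Module.End.mul_apply, hBP, LinearMap.smul_apply]⟩
        map_add' := fun f g => Subtype.ext (by
          simp [LinearMap.add_comp, LinearMap.comp_add, Finset.sum_add_distrib])
        map_smul' := fun c f => Subtype.ext (by
          simp [LinearMap.smul_comp, LinearMap.comp_smul, Finset.smul_sum]) }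
    refine LinearMap.finrank_le_finrank_of_injective (f := Ψ) ((injective_iff_map_eq_zero Ψ).2 fun f hf => ?_)
    funext j
    refine LinearMap.ext fun v => Subtype.ext ?_
    have h := LinearMap.congr_fun (congrArg Subtype.val hf) (v : W)
    simp only [Ψ, LinearMap.coe_mk, AddHom.coe_mk, LinearMap.sum_apply, LinearMap.coe_comp, Function.comp_apply,
      Submodule.coe_subtype] at h
    rw [Finset.sum_eq_single j] at h
    · rw [show (P j).rangeRestrict (v : W) = v from Subtype.ext (by
        show P j v = v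
        rw [hPfix j _ v.2, if_pos rfl])] at h
      exact h
    · intro i _ hi
      rw [show (P i).rangeRestrict (v : W) = 0 from Subtype.ext (by
        show P i v = 0
        rw [hPfix j _ v.2, if_neg hi]), map_zero]
      rfl
    · simp
  -- Cauchy–Schwarz
  have hcs := sq_sum_le_card_mul_sum_sq (s := Finset.univ.erase (0 : Fin ℓ)) (f := fun j => finrank k (E j))
  rw [← hd, Finset.card_erase_of_mem (Finset.mem_univ _), Finset.card_univ, Fintype.card_fin, sq,
    F.finrank_sq hm] at hcs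
  have h1 : Fintype.card (S ⧸ R) * finrank k F.comm ≤ ((ℓ - 1) * Fintype.card Y) * finrank k F.comm := by
    rw [mul_assoc]
    exact hcs.trans (Nat.mul_le_mul_left _ (hlow.trans hZ))
  have h2 := Nat.le_of_mul_le_mul_right h1 (Nat.pos_of_ne_zero F.comm_ne_zero)
  set m := Fintype.card (S ⧸ R)
  set c := Nat.card {y : S ⧸ R // bq y = y}
  have h3 : ℓ * m ≤ (ℓ - 1) * (m + (ℓ - 1) * c) :=
    calc ℓ * m ≤ ℓ * ((ℓ - 1) * Fintype.card Y) := Nat.mul_le_mul_left _ h2
      _ = (ℓ - 1) * (ℓ * Fintype.card Y) := by ring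
      _ ≤ _ := Nat.mul_le_mul_left _ hcount
  obtain ⟨l, rfl⟩ : ∃ l, ℓ = l + 1 := ⟨ℓ - 1, (Nat.sub_add_cancel hℓ.one_lt.le).symm⟩
  simp only [Nat.add_sub_cancel] at h3 ⊢
  rw [Nat.add_mul, one_mul, Nat.mul_add, ← mul_assoc, ← sq] at h3
  exact Nat.le_of_add_le_add_left h3

end CfsgLib.PQFpf
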