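import Cfsg.Agent.PQFpf.Reduction

/-!
A non-commutative group of order `p * q` acting fixed-point-freely forces Fitting height at most two.
-/

set_option autoImplicit false
set_option linter.style.haveILetI false
set_option linter.unusedSectionVars false
set_option maxHeartbeats 1000000

namespace CfsgLib.PQFpf

open scoped commutatorElement

universe u

variable {A : Type*} [Group A] [Fintype A]

/-- The action on the quotient by an invariant normal subgroup. -/
@[reducible] def quotAction {G : Type*} [Group G] [MulDistribMulAction A G] (K : Subgroup G) [K.Normal]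
    (hK : Coprime.IsInvariant A K) : MulDistribMulAction A (G ⧸ K) where
  smul a := QuotientGroup.map K K (MulDistribMulAction.toMonoidHom G a) (fun k hk => hK a k hk)
  one_smul q := by
    induction q using QuotientGroup.induction_on with
    | _ g => exact congrArg (QuotientGroup.mk (s := K)) (one_smul A g)
  mul_smul a b q := by
    induction q using QuotientGroup.induction_on with
    | _ g => exact congrArg (QuotientGroup.mk (s := K)) (mul_smul a b g)
  smul_one a := map_one (QuotientGroup.map K K (MulDistribMulAction.toMonoidHom G a) (fun k hk => hK a k hk))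
  smul_mul a x y := map_mul (QuotientGroup.map K K (MulDistribMulAction.toMonoidHom G a) (fun k hk => hK a k hk)) x y

theorem exists_minimal {G : Type u} [Group G] [Finite G] [MulDistribMulAction A G] [Nontrivial G]
    (hG : Group.IsSolvable G) :
    ∃ (V : Subgroup G) (r : ℕ), r.Prime ∧ V ≠ ⊥ ∧ V.Normal ∧ Coprime.IsInvariant A V ∧
      (∀ a ∈ V, ∀ b ∈ V, a * b = b * a) ∧ (∀ v ∈ V, v ^ r = 1) ∧
      ∀ U : Subgroup G, U ≤ V → U.Normal → Coprime.IsInvariant A U → U = ⊥ ∨ U = V := by
  classical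
  obtain ⟨V, hV⟩ := (Set.toFinite {U : Subgroup G | U ≠ ⊥ ∧ U.Normal ∧ Coprime.IsInvariant A U}).exists_minimal
    ⟨⊤, top_ne_bot, inferInstance, Coprime.IsInvariant.top A⟩
  obtain ⟨hne, hn, hst⟩ := hV.1
  haveI := hn
  have hmin : ∀ U : Subgroup G, U ≤ V → U.Normal → Coprime.IsInvariant A U → U = ⊥ ∨ U = V := by
    intro U hU hUn hUs
    by_contra hc
    push Not at hc
    exact hc.2 (le_antisymm hU (hV.2 ⟨hc.1, hUn, hUs⟩ hU))
  have hcomm : ⁅V, V⁆ = ⊥ := by
    refine (hmin _ (Subgroup.commutator_le_self V) inferInstance ?_).resolve_right fun he => ?_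
    · intro a x hx
      have h1 : (⁅V, V⁆).map (MulDistribMulAction.toMonoidHom G a) ≤ ⁅V, V⁆ := by
        rw [Subgroup.map_commutator]
        exact Subgroup.commutator_mono (Subgroup.map_le_iff_le_comap.2 (hst a)) (Subgroup.map_le_iff_le_comap.2 (hst a))
      exact h1 ⟨x, hx, rfl⟩
    · haveI := hG
      haveI : Nontrivial V := V.nontrivial_iff_ne_bot.2 hne
      refine (Group.IsSolvable.commutator_lt_top_of_nontrivial (G := V)).ne ?_
      apply Subgroup.map_injective V.subtype_injective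
      rw [Subgroup.map_subtype_commutator, he, ← MonoidHom.range_eq_map, Subgroup.range_subtype]
  have hc : ∀ a ∈ V, ∀ b ∈ V, a * b = b * a := fun a ha b hb =>
    commutatorElement_eq_one_iff_mul_comm.1 (Subgroup.mem_bot.1 (hcomm ▸ Subgroup.commutator_mem_commutator ha hb))
  haveI : Nontrivial V := V.nontrivial_iff_ne_bot.2 hne
  obtain ⟨r, hr, hdvd⟩ := Nat.exists_prime_and_dvd (Finite.one_lt_card (α := V)).ne'
  haveI := Fact.mk hr
  obtain ⟨z, hz⟩ := exists_prime_orderOf_dvd_card' r hdvd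
  let U : Subgroup G :=
    { carrier := {v | v ∈ V ∧ v ^ r = 1}
      one_mem' := ⟨V.one_mem, one_pow r⟩
      mul_mem' := fun {a b} ha hb => ⟨V.mul_mem ha.1 hb.1, by
        rw [(show Commute a b from hc a ha.1 b hb.1).mul_pow, ha.2, hb.2, one_mul]⟩
      inv_mem' := fun {a} ha => ⟨V.inv_mem ha.1, by rw [inv_pow, ha.2, inv_one]⟩ }
  have hU : U = V := by
    refine (hmin U (fun v hv => hv.1) ⟨fun v hv g => ⟨hn.conj_mem v hv.1 g, by
      rw [conj_pow, hv.2, mul_one, mul_inv_cancel]⟩⟩
      (fun a v hv => ⟨hst a v hv.1, by rw [← smul_pow', hv.2, smul_one]⟩)).resolve_left fun h0 => ?_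
    have hzU : (z : G) ∈ U := ⟨z.2, by rw [← Subgroup.coe_pow, ← hz, pow_orderOf_eq_one]; rfl⟩
    rw [h0, Subgroup.mem_bot, OneMemClass.coe_eq_one] at hzU
    rw [hzU, orderOf_one] at hz
    exact hr.one_lt.ne hz
  exact ⟨V, r, hr, hne, hn, hst, hc, fun v hv => (hU.ge hv).2, hmin⟩

theorem fitting_height_two (F : Acting A) : ∀ (n : ℕ) (G : Type u) [Group G] [Finite G] [MulDistribMulAction A G],
    Nat.card G = n → Group.IsSolvable G → (Nat.card G).Coprime (Nat.card A) →
    (∀ g : G, (∀ a : A, a • g = g) → g = 1) →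
    ∃ N : Subgroup G, ∃ _ : N.Normal, Coprime.IsInvariant A N ∧ Group.IsNilpotent N ∧ Group.IsNilpotent (G ⧸ N) := by
  intro n
  induction n using Nat.strong_induction_on with
  | _ n ih =>
  intro G _ _ _ hn hG hcop hfpf
  subst hn
  rcases subsingleton_or_nontrivial G with hG1 | hG1
  · haveI : Subsingleton (G ⧸ (⊤ : Subgroup G)) := QuotientGroup.subsingleton_quotient_top
    exact ⟨⊤, inferInstance, Coprime.IsInvariant.top A, inferInstance, inferInstance⟩
  haveI := F.isSolvable
  obtain ⟨V, r, hr, hV0, hVn, hVi, hVc, hVexp, hVmin⟩ := exists_minimal (A := A) hG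
  haveI := hVn
  haveI := hG
  haveI := Fact.mk hr
  haveI : Nontrivial V := V.nontrivial_iff_ne_bot.2 hV0
  letI : CommGroup V :=
    { (inferInstance : Group V) with mul_comm := fun a b => Subtype.ext (hVc a a.2 b b.2) }
  have hVp : IsPGroup r V := fun v => ⟨1, Subtype.ext (by rw [pow_one, Subgroup.coe_pow]; exact hVexp v v.2)⟩
  have hrG : r ∣ Nat.card G := by
    obtain ⟨v, hv⟩ := exists_ne (1 : V)
    have h1 : orderOf (v : G) = r := orderOf_eq_prime (hVexp v v.2) fun h => hv (Subtype.ext h)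
    exact h1 ▸ orderOf_dvd_natCard _
  have hrA : ¬ r ∣ Nat.card A := fun h => hr.ne_one (Nat.eq_one_of_dvd_coprimes hcop hrG h)
  let ρ₀ : G →* MulAut V := MulAut.conjNormal
  have hρ : ∀ (g : G) (v : V), ((ρ₀ g v : V) : G) = g * v * g⁻¹ := fun g v => rfl
  have hVle : V ≤ ρ₀.ker := fun x hx => by
    rw [MonoidHom.mem_ker]
    ext v
    rw [hρ, MulAut.one_apply, hVc x hx v v.2, mul_inv_cancel_right]
  letI : MulDistribMulAction A V := subAction V hVi
  let αV : A →* MulAut V := MulDistribMulAction.toMulAut A V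
  have hcompat : ∀ (a : A) g v, ρ₀ (a • g) (αV a v) = αV a (ρ₀ g v) := fun a g v => Subtype.ext (by
    rw [hρ]
    show a • g * a • (v : G) * (a • g)⁻¹ = a • ((ρ₀ g v : V) : G)
    rw [hρ, smul_mul', smul_mul', smul_inv'])
  have hKi : Coprime.IsInvariant A ρ₀.ker := fun a g hg => by
    rw [MonoidHom.mem_ker] at hg ⊢
    ext v
    obtain ⟨w, rfl⟩ := (αV a).surjective v
    rw [hcompat, hg]
    rfl
  letI : MulDistribMulAction A (G ⧸ ρ₀.ker) := quotAction ρ₀.ker hKi
  let ρ : G ⧸ ρ₀.ker →* MulAut V := QuotientGroup.kerLift ρ₀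
  have hρinj : Function.Injective ρ := QuotientGroup.kerLift_injective ρ₀
  have hcopK : (Nat.card (G ⧸ ρ₀.ker)).Coprime (Nat.card A) :=
    hcop.coprime_dvd_left ρ₀.ker.card_quotient_dvd_card
  have hfpfq : ∀ (K : Subgroup G) [K.Normal] (hK : Coprime.IsInvariant A K),
      letI := quotAction K hK; ∀ x : G ⧸ K, (∀ a : A, a • x = x) → x = 1 := by
    intro K _ hK x hx
    induction x using QuotientGroup.induction_on with
    | _ g =>
      obtain ⟨c, hc, hce⟩ := Coprime.exists_fixed_mk_eq (A := A) hcop.symm K hK g hx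
      rw [hfpf c hc] at hce
      exact hce.symm
  have hltK : Nat.card (G ⧸ ρ₀.ker) < Nat.card G := by
    rw [Subgroup.card_eq_card_quotient_mul_card_subgroup ρ₀.ker]
    exact lt_mul_right Nat.card_pos (lt_of_lt_of_le Finite.one_lt_card (Subgroup.card_le_of_le hVle))
  obtain ⟨N, hNn, hNi, hNnil, hQnil⟩ := ih _ hltK (G ⧸ ρ₀.ker) rfl inferInstance hcopK (hfpfq ρ₀.ker hKi)
  haveI := hNn
  -- no `r`-part in the invariant nilpotent normal subgroup
  have hrN : ¬ r ∣ Nat.card N := by
    intro hd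
    haveI := hNnil
    let P : Sylow r N := default
    haveI : (P : Subgroup N).Normal :=
      P.normal_of_normalizerCondition (Group.normalizerCondition_of_isNilpotent (G := N))
    haveI : (P : Subgroup N).Characteristic := P.characteristic_of_normal inferInstance
    set R := (P : Subgroup N).map N.subtype with hR
    haveI hRn : R.Normal := ConjAct.normal_of_characteristic_of_normal
    have hRi : Coprime.IsInvariant A R := by
      letI : MulDistribMulAction A N := subAction N hNi
      rintro a _ ⟨x, hx, rfl⟩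
      exact ⟨a • x, (Coprime.IsInvariant.of_characteristic (A := A) (P : Subgroup N)) a x hx, rfl⟩
    have hRp : IsPGroup r R := P.2.map _
    obtain ⟨v, hv1, hvfix⟩ := S3Fpf.fixed_ne_bot hVp ρ R hRp
    let W : Subgroup G :=
      { carrier := {x | ∃ hx : x ∈ V, ∀ g ∈ R, ρ g ⟨x, hx⟩ = ⟨x, hx⟩}
        one_mem' := ⟨V.one_mem, fun g _ => map_one (ρ g)⟩
        mul_mem' := fun {x y} ⟨hx, hx'⟩ ⟨hy, hy'⟩ => ⟨V.mul_mem hx hy, fun g hg => by
          have := map_mul (ρ g) ⟨x, hx⟩ ⟨y, hy⟩
          rw [hx' g hg, hy' g hg] at this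
          exact this⟩
        inv_mem' := fun {x} ⟨hx, hx'⟩ => ⟨V.inv_mem hx, fun g hg => by
          have := map_inv (ρ g) ⟨x, hx⟩
          rw [hx' g hg] at this
          exact this⟩ }
    have hWn : W.Normal := ⟨fun x hxW g => ⟨hVn.conj_mem x hxW.1 g, fun c hc => by
      obtain ⟨hx, hx'⟩ := hxW
      have e : (⟨g * x * g⁻¹, hVn.conj_mem x hx g⟩ : V) = ρ (g : G ⧸ ρ₀.ker) ⟨x, hx⟩ := Subtype.ext (hρ g ⟨x, hx⟩).symm
      rw [e, ← MulAut.mul_apply, ← map_mul,
        show c * (g : G ⧸ ρ₀.ker) = (g : G ⧸ ρ₀.ker) * ((g : G ⧸ ρ₀.ker)⁻¹ * c * g) by group,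
        map_mul, MulAut.mul_apply, hx' _ (hRn.conj_mem' c hc _)]⟩⟩
    have hWi : Coprime.IsInvariant A W := by
      rintro a x ⟨hx, hx'⟩
      refine ⟨hVi a x hx, fun c hc => ?_⟩
      obtain ⟨c', hc', rfl⟩ : ∃ c' ∈ R, a • c' = c := ⟨a⁻¹ • c, hRi _ c hc, smul_inv_smul a c⟩
      induction c' using QuotientGroup.induction_on with
      | _ g =>
        show ρ₀ (a • g) (αV a ⟨x, hx⟩) = αV a ⟨x, hx⟩
        rw [hcompat]
        exact congrArg _ (hx' _ hc')
    rcases hVmin W (fun x hx => hx.1) hWn hWi with hW | hW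
    · exact hv1 (Subtype.ext (Subgroup.mem_bot.1 (hW ▸ (⟨v.2, hvfix⟩ : (v : G) ∈ W))))
    · have hbot : R = ⊥ := by
        rw [eq_bot_iff]
        intro c hc
        rw [Subgroup.mem_bot]
        refine hρinj ?_
        rw [map_one]
        ext w
        obtain ⟨_, hw⟩ := hW.ge w.2
        exact congrArg Subtype.val (hw c hc)
      have hP := (Subgroup.map_eq_bot_iff_of_injective _ N.subtype_injective).1 hbot
      have := P.dvd_card_of_dvd_card hd
      rw [hP, Subgroup.card_bot, Nat.dvd_one] at this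
      exact hr.ne_one this
  have hKnil : Group.IsNilpotent (G ⧸ ρ₀.ker) := by
    refine quot_nilpotent F hcopK (hfpfq ρ₀.ker hKi) r (fun v => Subtype.ext (by
      rw [Subgroup.coe_pow]; exact hVexp v v.2)) hrA ρ hρinj αV (fun a q v => ?_)
      (fun v hv => Subtype.ext (hfpf _ fun a => congrArg Subtype.val (hv a))) N hNnil hNi hQnil hrN
    induction q using QuotientGroup.induction_on with
    | _ g => exact (hcompat a g v).symm
  -- the quotient by the minimal subgroup
  letI : MulDistribMulAction A (G ⧸ V) := quotAction V hVi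
  have hltV : Nat.card (G ⧸ V) < Nat.card G := by
    rw [Subgroup.card_eq_card_quotient_mul_card_subgroup V]
    exact lt_mul_right Nat.card_pos Finite.one_lt_card
  obtain ⟨M, hMn, hMi, hMnil, hMq⟩ := ih _ hltV (G ⧸ V) rfl inferInstance
    (hcop.coprime_dvd_left V.card_quotient_dvd_card) (hfpfq V hVi)
  haveI := hMn
  haveI := hMnil
  haveI := hMq
  haveI := hKnil
  let M' : Subgroup G := M.comap (QuotientGroup.mk' V) ⊓ ρ₀.ker
  refine ⟨M', inferInstance, Coprime.IsInvariant.inf (fun a x hx => hMi a (x : G ⧸ V) hx) hKi, ?_, ?_⟩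
  · let f : M' →* M := ((QuotientGroup.mk' V).comp M'.subtype).codRestrict M fun x => x.2.1
    refine Subgroup.isNilpotent_of_ker_le_center f fun x hx => ?_
    rw [Subgroup.mem_center_iff]
    intro g
    have hxV : (x : G) ∈ V := (QuotientGroup.eq_one_iff (x : G)).1 (congrArg Subtype.val (MonoidHom.mem_ker.1 hx))
    have hg : ρ₀ g = 1 := MonoidHom.mem_ker.1 g.2.2
    have h2 : ((ρ₀ g ⟨x, hxV⟩ : V) : G) = x := by rw [hg]; rfl
    rw [hρ, mul_inv_eq_iff_eq_mul] at h2
    exact Subtype.ext h2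
  · let f : G →* ((G ⧸ V) ⧸ M) × (G ⧸ ρ₀.ker) :=
      ((QuotientGroup.mk' M).comp (QuotientGroup.mk' V)).prod (QuotientGroup.mk' ρ₀.ker)
    have hker : ∀ x, x ∈ M' ↔ f x = 1 := fun x => by
      rw [Prod.ext_iff]
      exact and_congr (QuotientGroup.eq_one_iff (x : G ⧸ V)).symm (QuotientGroup.eq_one_iff x).symm
    refine Subgroup.isNilpotent_of_ker_le_center (QuotientGroup.lift M' f fun x hx => MonoidHom.mem_ker.2 ((hker x).1 hx))
      fun q hq => ?_
    induction q using QuotientGroup.induction_on with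
    | _ x =>
      rw [(QuotientGroup.eq_one_iff x).2 ((hker x).2 (MonoidHom.mem_ker.1 hq))]
      exact Subgroup.one_mem _

end CfsgLib.PQFpf
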