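import Cfsg.Agent.PQFpf.HallHigmanPrime

/-!
Operators of prime order inside a group.
-/

set_option autoImplicit false
set_option linter.style.haveILetI false
set_option linter.unusedSectionVars false

namespace CfsgLib.PQFpf

open scoped IsMulCommutative

variable {G : Type*} [Group G] [Finite G] {p q r : ℕ}

/-- The pair of operators given by an element. -/
noncomputable def subOp (Q V : Subgroup G) [IsMulCommutative V] (x : G) (hpq : p ≠ q) (hpr : p ≠ r) (hqr : q ≠ r)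
    (hr : r.Prime) (hx : x ^ r = 1) (hQ : IsPGroup q Q) (hV : ∀ v ∈ V, v ^ p = 1)
    (hxQ : x ∈ Subgroup.normalizer (Q : Set G)) (hxV : x ∈ Subgroup.normalizer (V : Set G))
    (hQV : Q ≤ Subgroup.normalizer (V : Set G)) (hfaith : Q ⊓ Subgroup.centralizer (V : Set G) = ⊥)
    (hfix : V ⊓ Subgroup.centralizer ({x} : Set G) = ⊥) (hmove : ∃ y ∈ Q, ¬ x * y = y * x) :
    PrimeOp Q V p q r where
  ρ := V.normalizerMonoidHom.comp (Subgroup.inclusion hQV)
  inj := (injective_iff_map_eq_one _).2 fun g hg => by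
    have h : (g : G) ∈ Q ⊓ Subgroup.centralizer (V : Set G) := ⟨g.2, Subgroup.mem_centralizer_iff.2 fun v hv => by
      have h1 : (g : G) * v * (g : G)⁻¹ = v := congrArg (fun e : MulAut V => ((e ⟨v, hv⟩ : V) : G)) hg
      exact (mul_inv_eq_iff_eq_mul.1 h1).symm⟩
    rw [hfaith, Subgroup.mem_bot] at h
    exact Subtype.ext h
  b := Q.normalizerMonoidHom ⟨x, hxQ⟩
  c := V.normalizerMonoidHom ⟨x, hxV⟩
  hS := hQ
  hV v := Subtype.ext (by simpa using hV v v.2)
  hb := by rw [← map_pow, show (⟨x, hxQ⟩ : Subgroup.normalizer (Q : Set G)) ^ r = 1 from Subtype.ext hx, map_one]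
  hc := by rw [← map_pow, show (⟨x, hxV⟩ : Subgroup.normalizer (V : Set G)) ^ r = 1 from Subtype.ext hx, map_one]
  hb1 h := by
    obtain ⟨y, hy, hxy⟩ := hmove
    have h1 : x * y * x⁻¹ = y := congrArg (fun e : MulAut Q => ((e ⟨y, hy⟩ : Q) : G)) h
    exact hxy (mul_inv_eq_iff_eq_mul.1 h1)
  compat u v := Subtype.ext (by
    show x * ((u : G) * v * (u : G)⁻¹) * x⁻¹ = x * (u : G) * x⁻¹ * (x * v * x⁻¹) * (x * (u : G) * x⁻¹)⁻¹
    group)
  fixFree v hv := by
    have h1 : x * (v : G) * x⁻¹ = v := congrArg Subtype.val hv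
    have h : (v : G) ∈ V ⊓ Subgroup.centralizer ({x} : Set G) :=
      ⟨v.2, Subgroup.mem_centralizer_singleton_iff.2 (mul_inv_eq_iff_eq_mul.1 h1).symm⟩
    rw [hfix, Subgroup.mem_bot] at h
    exact Subtype.ext h
  hr := hr
  hqr := hqr
  hpq := hpq
  hpr := hpr

theorem subOp_b {Q V : Subgroup G} [IsMulCommutative V] {x : G} {hpq : p ≠ q} {hpr : p ≠ r} {hqr : q ≠ r}
    {hr : r.Prime} {hx : x ^ r = 1} {hQ : IsPGroup q Q} {hV : ∀ v ∈ V, v ^ p = 1}
    {hxQ : x ∈ Subgroup.normalizer (Q : Set G)} {hxV : x ∈ Subgroup.normalizer (V : Set G)}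
    {hQV : Q ≤ Subgroup.normalizer (V : Set G)} {hfaith : Q ⊓ Subgroup.centralizer (V : Set G) = ⊥}
    {hfix : V ⊓ Subgroup.centralizer ({x} : Set G) = ⊥} {hmove : ∃ y ∈ Q, ¬ x * y = y * x} (y : Q) :
    (((subOp Q V x hpq hpr hqr hr hx hQ hV hxQ hxV hQV hfaith hfix hmove).b y : Q) : G) = x * y * x⁻¹ := rfl

theorem centralizer_eq_singleton {X : Subgroup G} (x : G) (hx : Subgroup.zpowers x = X) :
    Subgroup.centralizer (X : Set G) = Subgroup.centralizer ({x} : Set G) := by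
  rw [← hx, Subgroup.zpowers_eq_closure, Subgroup.centralizer_closure]

end CfsgLib.PQFpf
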