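import Mathlib.GroupTheory.Sylow
import Mathlib.GroupTheory.Solvable
import Mathlib.GroupTheory.Index
import Mathlib.GroupTheory.IndexNormal
import Mathlib.Data.Int.GCD
import Mathlib.GroupTheory.SpecificGroups.Cyclic
import Mathlib.FieldTheory.Finite.Basic

/-!
Non-commutative groups whose order is a product of two primes.
-/

set_option autoImplicit false
set_option linter.style.haveILetI false
set_option linter.unusedSectionVars false

namespace CfsgLib.PQFpf

/-- A non-commutative group of order `p * q`, where `q < p`, with a chosen element of order `p`. -/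
structure Acting (A : Type*) [Group A] where
  p : ℕ
  q : ℕ
  σ : A
  hp : p.Prime
  hq : q.Prime
  lt : q < p
  card : Nat.card A = p * q
  hσ : orderOf σ = p
  hna : ∃ a b : A, a * b ≠ b * a

namespace Acting

variable {A : Type*} [Group A] [Finite A] (F : Acting A)

theorem index_zpowers : (Subgroup.zpowers F.σ).index = F.q := by
  have h := (Subgroup.zpowers F.σ).card_mul_index
  rw [Nat.card_zpowers, F.hσ, F.card] at h
  exact Nat.eq_of_mul_eq_mul_left F.hp.pos h

theorem minFac_card : (Nat.card A).minFac = F.q := by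
  rw [F.card]
  have h1 : (F.p * F.q).minFac ≤ F.q := Nat.minFac_le_of_dvd F.hq.two_le (Dvd.intro_left _ rfl)
  have h2 : (F.p * F.q).minFac.Prime := Nat.minFac_prime (by
    have := Nat.mul_le_mul F.hp.two_le F.hq.two_le; omega)
  rcases (Nat.Prime.dvd_mul h2).1 (Nat.minFac_dvd _) with h | h
  · have := (Nat.prime_dvd_prime_iff_eq h2 F.hp).1 h
    have := F.lt
    omega
  · exact (Nat.prime_dvd_prime_iff_eq h2 F.hq).1 h

theorem normal : (Subgroup.zpowers F.σ).Normal :=
  Subgroup.normal_of_index_eq_minFac_card (F.index_zpowers.trans F.minFac_card.symm)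

theorem conj_mem (a : A) {x : A} (hx : x ∈ Subgroup.zpowers F.σ) :
    a * x * a⁻¹ ∈ Subgroup.zpowers F.σ := F.normal.conj_mem x hx a

theorem σ_pow : F.σ ^ F.p = 1 := F.hσ ▸ pow_orderOf_eq_one F.σ

theorem mem_zpowers_of_pow {c : A} (hc : c ^ F.p = 1) : c ∈ Subgroup.zpowers F.σ := by
  haveI := F.normal
  have h1 : (c : A ⧸ Subgroup.zpowers F.σ) ^ F.p = 1 := by rw [← QuotientGroup.mk_pow, hc]; rfl
  have h2 : (c : A ⧸ Subgroup.zpowers F.σ) ^ F.q = 1 := by
    rw [← F.index_zpowers, Subgroup.index_eq_card]; exact pow_card_eq_one'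
  have hco : F.p.Coprime F.q := (Nat.coprime_primes F.hp F.hq).2 F.lt.ne'
  have h3 : (c : A ⧸ Subgroup.zpowers F.σ) ^ F.p.gcd F.q = 1 := pow_gcd_eq_one.2 ⟨h1, h2⟩
  rw [hco.gcd_eq_one, pow_one] at h3
  exact (QuotientGroup.eq_one_iff c).1 h3

/-- A subgroup containing `σ` and an element of order `q` is everything. -/
theorem eq_top_of_mem {N : Subgroup A} (hσN : F.σ ∈ N) {b : A} (hb : orderOf b = F.q) (hbN : b ∈ N) :
    N = ⊤ := by
  refine Subgroup.eq_top_of_card_eq N (Nat.dvd_antisymm N.card_subgroup_dvd_card ?_)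
  rw [F.card]
  refine ((Nat.coprime_primes F.hp F.hq).2 F.lt.ne').mul_dvd_of_dvd_of_dvd ?_ ?_
  · exact F.hσ ▸ N.orderOf_dvd_natCard hσN
  · exact hb ▸ N.orderOf_dvd_natCard hbN

/-- A proper subgroup containing an element of order `q` is generated by it. -/
theorem eq_zpowers {N : Subgroup A} {b : A} (hb : orderOf b = F.q) (hbN : b ∈ N) (hN : N ≠ ⊤) :
    N = Subgroup.zpowers b := by
  refine (Subgroup.eq_of_le_of_card_ge (Subgroup.zpowers_le.2 hbN) ?_).symm
  rw [Nat.card_zpowers, hb]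
  obtain ⟨m, hm⟩ : F.q ∣ Nat.card N := hb ▸ N.orderOf_dvd_natCard hbN
  have h := N.card_subgroup_dvd_card
  rw [hm, F.card, Nat.mul_comm F.p] at h
  rcases (Nat.dvd_prime F.hp).1 ((Nat.mul_dvd_mul_iff_left F.hq.pos).1 h) with h1 | h1
  · rw [hm, h1, mul_one]
  · exact absurd (Subgroup.eq_top_of_card_eq N (by rw [hm, h1, F.card, mul_comm])) hN

theorem stab_cases {N : Subgroup A} (hN : N ≠ ⊥) : F.σ ∈ N ∨ ∃ b ∈ N, orderOf b = F.q := by
  have h1 : Nat.card N ≠ 1 := fun h => hN (Subgroup.card_eq_one.1 h)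
  obtain ⟨l, hl, hdvd⟩ := Nat.exists_prime_and_dvd h1
  haveI := Fact.mk hl
  obtain ⟨c, hc⟩ := exists_prime_orderOf_dvd_card' l hdvd
  have hcA : orderOf (c : A) = l := by rw [Subgroup.orderOf_coe, hc]
  have hl2 : l ∣ F.p * F.q := F.card ▸ hdvd.trans N.card_subgroup_dvd_card
  rcases (Nat.Prime.dvd_mul hl).1 hl2 with h | h
  · left
    have hlp := (Nat.prime_dvd_prime_iff_eq hl F.hp).1 h
    have hmem := F.mem_zpowers_of_pow (c := (c : A)) (by rw [← hlp, ← hcA, pow_orderOf_eq_one])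
    have heq : Subgroup.zpowers (c : A) = Subgroup.zpowers F.σ :=
      Subgroup.eq_of_le_of_card_ge (Subgroup.zpowers_le.2 hmem)
        (by rw [Nat.card_zpowers, Nat.card_zpowers, hcA, F.hσ, hlp])
    exact Subgroup.zpowers_le.2 c.2 (heq.ge (Subgroup.mem_zpowers F.σ))
  · exact Or.inr ⟨c, c.2, hcA.trans ((Nat.prime_dvd_prime_iff_eq hl F.hq).1 h)⟩

theorem exists_orderOf_q : ∃ b : A, orderOf b = F.q := by
  haveI := Fact.mk F.hq
  exact exists_prime_orderOf_dvd_card' F.q (by rw [F.card]; exact Dvd.intro_left _ rfl)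

theorem not_commute {b : A} (hb : orderOf b = F.q) : F.σ * b ≠ b * F.σ := by
  intro h
  obtain ⟨x, y, hxy⟩ := F.hna
  have hC : Subgroup.centralizer ({F.σ} : Set A) = ⊤ := F.eq_top_of_mem
    (Subgroup.mem_centralizer_singleton_iff.2 rfl) hb (Subgroup.mem_centralizer_singleton_iff.2 h.symm)
  have hD : Subgroup.centralizer ({b} : Set A) = ⊤ := F.eq_top_of_mem
    (Subgroup.mem_centralizer_singleton_iff.2 h) hb (Subgroup.mem_centralizer_singleton_iff.2 rfl)
  have hcen : Subgroup.center A = ⊤ := F.eq_top_of_mem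
    (Subgroup.mem_center_iff.2 fun g => Subgroup.mem_centralizer_singleton_iff.1 (hC.ge (Subgroup.mem_top g))) hb
    (Subgroup.mem_center_iff.2 fun g => Subgroup.mem_centralizer_singleton_iff.1 (hD.ge (Subgroup.mem_top g)))
  exact hxy ((Subgroup.mem_center_iff.1 (hcen.ge (Subgroup.mem_top y))) x)

/-- Two distinct conjugates of an element of order `q` generate everything. -/
theorem eq_top_of_conj_mem {N : Subgroup A} {b : A} (hb : orderOf b = F.q) {j : ℕ} (hj : ¬ F.p ∣ j)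
    (hbN : b ∈ N) (hcN : F.σ ^ j * b * (F.σ ^ j)⁻¹ ∈ N) : N = ⊤ := by
  by_contra hN
  have hNb := F.eq_zpowers hb hbN hN
  haveI := F.normal
  have h1 : F.σ ^ j * b * (F.σ ^ j)⁻¹ * b⁻¹ ∈ Subgroup.zpowers F.σ ⊓ Subgroup.zpowers b := by
    refine Subgroup.mem_inf.2 ⟨?_, hNb.le (N.mul_mem hcN (N.inv_mem hbN))⟩
    have hs := pow_mem (Subgroup.mem_zpowers F.σ) j
    have h2 := F.conj_mem b (inv_mem hs)
    have h3 := mul_mem hs h2
    rw [show F.σ ^ j * b * (F.σ ^ j)⁻¹ * b⁻¹ = F.σ ^ j * (b * (F.σ ^ j)⁻¹ * b⁻¹) by group]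
    exact h3
  rw [Subgroup.inf_eq_bot_of_coprime (by
    rw [Nat.card_zpowers, Nat.card_zpowers, F.hσ, hb]; exact (Nat.coprime_primes F.hp F.hq).2 F.lt.ne'),
    Subgroup.mem_bot, mul_inv_eq_one, mul_inv_eq_iff_eq_mul] at h1
  have hco : (orderOf F.σ).Coprime j := by rw [F.hσ]; exact (Nat.Prime.coprime_iff_not_dvd F.hp).2 hj
  obtain ⟨m, hm⟩ := exists_pow_eq_self_of_coprime (x := F.σ) (n := j) hco.symm
  have h4 : Commute (F.σ ^ j) b := h1
  have h5 := h4.pow_left m
  rw [hm] at h5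
  exact F.not_commute hb h5

theorem q_dvd : F.q ∣ F.p - 1 := by
  haveI := Fact.mk F.hp
  obtain ⟨b, hb⟩ := F.exists_orderOf_q
  obtain ⟨i, hi⟩ := Subgroup.mem_zpowers_iff.1 (F.conj_mem b (Subgroup.mem_zpowers F.σ))
  have hn : ∀ n : ℕ, b ^ n * F.σ * (b ^ n)⁻¹ = F.σ ^ (i ^ n) := by
    intro n
    induction n with
    | zero => simp
    | succ n ih =>
      rw [pow_succ', show b * b ^ n * F.σ * (b * b ^ n)⁻¹ = b * (b ^ n * F.σ * (b ^ n)⁻¹) * b⁻¹ by group,
        ih, ← conj_zpow, ← hi, ← zpow_mul, pow_succ']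
  have h1 := hn F.q
  rw [← hb, pow_orderOf_eq_one, hb, one_mul, inv_one, mul_one] at h1
  have h2 : F.σ ^ (i ^ F.q - 1) = 1 := by rw [zpow_sub, ← h1, zpow_one, mul_inv_cancel]
  rw [← orderOf_dvd_iff_zpow_eq_one, F.hσ] at h2
  have h3 : (i : ZMod F.p) ^ F.q = 1 := by
    have h4 := (ZMod.intCast_zmod_eq_zero_iff_dvd _ F.p).2 h2
    push_cast at h4
    exact sub_eq_zero.1 h4
  have h5 : (i : ZMod F.p) ≠ 1 := by
    intro h
    have h6 : ((i - 1 : ℤ) : ZMod F.p) = 0 := by push_cast; rw [h, sub_self]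
    have h7 := (ZMod.intCast_zmod_eq_zero_iff_dvd _ F.p).1 h6
    rw [← F.hσ, orderOf_dvd_iff_zpow_eq_one, zpow_sub, zpow_one, hi] at h7
    refine F.not_commute hb ?_
    rw [mul_inv_eq_one, mul_inv_eq_iff_eq_mul] at h7
    exact h7.symm
  have h0 : (i : ZMod F.p) ≠ 0 := fun h => by
    rw [h, zero_pow F.hq.ne_zero] at h3; exact zero_ne_one h3
  haveI := Fact.mk F.hq
  rw [← orderOf_eq_prime h3 h5]
  exact ZMod.orderOf_dvd_card_sub_one h0

theorem isSolvable (F : Acting A) : Group.IsSolvable A := by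
  haveI := F.normal
  haveI := Fact.mk F.hq
  haveI : IsCyclic (A ⧸ Subgroup.zpowers F.σ) := isCyclic_of_prime_card (p := F.q)
    (by rw [← Subgroup.index_eq_card, F.index_zpowers])
  letI := IsCyclic.commGroup (α := A ⧸ Subgroup.zpowers F.σ)
  haveI : Group.IsSolvable (Subgroup.zpowers F.σ) := Group.isSolvable_of_comm fun a b => mul_comm' a b
  exact Group.isSolvable_of_ker_le_range (Subgroup.zpowers F.σ).subtype (QuotientGroup.mk' (Subgroup.zpowers F.σ))
    (by simp)

end Acting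

end CfsgLib.PQFpf
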