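import Cfsg.Agent.PQFpf.Step
import Cfsg.Agent.Coprime.Sylow

/-!
The minimal configuration does not exist.
-/

set_option autoImplicit false
set_option linter.style.haveILetI false
set_option linter.unusedSectionVars false

namespace CfsgLib.PQFpf

open scoped commutatorElement IsMulCommutative

variable {A : Type*} [Group A] [Fintype A] {k : Type*} [Field k] [IsAlgClosed k] {W : Type*} [AddCommGroup W]
  [Module k W] [FiniteDimensional k W] {S : Type*} [Group S] [Finite S] [MulDistribMulAction A S]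

namespace Setup

variable (D : Setup A k W S)

theorem sigma_fix_comm (hne : D.Q ≠ ⊥) (hab : ∀ x y : S, x * y = y * x)
    (hweights : ∀ h ∈ D.Q, ∀ (χ : S →* kˣ), (∃ v, IsWeight D.π χ v ∧ v ≠ 0) →
      ∃ v, IsWeight D.π (χ.comp (h : MulAut S).toMonoidHom) v ∧ v ≠ 0)
    (x : S) : D.F.σ • x = x := by
  classical
  have hcz : ∀ y : S, y ∈ Subgroup.center S := fun y => Subgroup.mem_center_iff.2 fun g => hab g y
  refine (inv_mul_eq_one.1 (D.inj ?_)).symm
  rw [map_one]
  refine eq_one_of_weights D.π (fun a b => by rw [hab]) D.hkS (x⁻¹ * D.F.σ • x) fun χ v hv hv0 => ?_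
  suffices hgoal : ∀ y, χ (D.F.σ • y) = χ y by rw [map_mul, map_inv, hgoal, inv_mul_cancel]
  have hstab : ∀ (ξ : S →* kˣ), (∃ w, IsWeight D.π ξ w ∧ w ≠ 0) → (wstab ξ : Subgroup A) ≠ ⊥ :=
    fun ξ ⟨w, hw, hw0⟩ => wstab_ne_bot D.compat D.hsum D.hkS D.hkA hw hw0
  have htriv : ∀ ξ : S →* kˣ, (∀ a : A, ∀ y, ξ (a • y) = ξ y) → ξ = 1 := fun ξ hξ => by
    have h := D.eq_one_of_invariant (ξ.comp (Subgroup.center S).subtype) fun a z z' hz => by
      show ξ (z' : S) = ξ (z : S)
      rw [hz, hξ]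
    exact MonoidHom.ext fun y => DFunLike.congr_fun h ⟨y, hcz y⟩
  by_cases hσ : D.F.σ ∈ (wstab χ : Subgroup A)
  · exact fun y => hσ y
  obtain ⟨b, hbB, hb⟩ := (D.F.stab_cases (hstab χ ⟨v, hv, hv0⟩)).resolve_left hσ
  letI : CommGroup D.Q :=
    { (inferInstance : Group D.Q) with mul_comm := fun u w => Subtype.ext (D.hQc u u.2 w w.2) }
  -- the stabiliser of the orbit under `Q`
  let B₀ : Subgroup A :=
    { carrier := {a | ∃ g ∈ D.Q, ∀ y, χ (a • y) = χ (g y)}
      one_mem' := ⟨1, D.Q.one_mem, fun y => by rw [one_smul]; rfl⟩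
      mul_mem' := fun {a a'} ⟨g, hg, hg'⟩ ⟨g', hg₁, hg₁'⟩ => by
        -- `χ (a • a' • y) = χ (g (a' • y))` and `g` moves past `a'`
        refine ⟨g' * D.c a'⁻¹ g, D.Q.mul_mem hg₁ (D.c_mem _ hg), fun y => ?_⟩
        have h : g (a' • y) = a' • D.c a'⁻¹ g y := by
          rw [D.smul_apply, ← D.c_mul, mul_inv_cancel, D.c_one]
        rw [mul_smul, hg', h, hg₁', MulAut.mul_apply]
      inv_mem' := fun {a} ⟨g, hg, hg'⟩ => by
        refine ⟨(D.c a g)⁻¹, D.Q.inv_mem (D.c_mem a hg), fun y => ?_⟩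
        obtain ⟨y', rfl⟩ : ∃ y', a • g y' = y := ⟨g⁻¹ (a⁻¹ • y), by rw [MulAut.apply_inv_self, smul_inv_smul]⟩
        rw [inv_smul_smul, ← hg', D.smul_apply, MulAut.inv_apply_self] }
  have hbB₀ : b ∈ B₀ := ⟨1, D.Q.one_mem, fun y => hbB y⟩
  have hB₀ : B₀ ≠ ⊤ := by
    intro htop
    have hmem : ∀ a : A, a ∈ B₀ := fun a => htop.ge (Subgroup.mem_top a)
    choose g hg hg' using hmem
    -- a fixed point of the orbit
    let act : A → (D.Q →* D.Q) := fun a => MonoidHom.mk' (fun u => ⟨D.c a u, D.c_mem a u.2⟩)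
      fun u w => Subtype.ext (map_mul (D.c a) (u : MulAut S) w)
    have hact : ∀ a a' u, act a (act a' u) = act (a * a') u := fun a a' u => Subtype.ext (D.c_mul a a' u).symm
    let P : D.Q := ∏ a : A, ⟨g a, hg a⟩
    have hker : ∀ (a a' : A) (y : S), χ (g (a * a') y) = χ (((⟨g a', hg a'⟩ : D.Q) * act a'⁻¹ ⟨g a, hg a⟩ : D.Q).1 y) := by
      intro a a' y
      rw [← hg', mul_smul, hg']
      have h : g a (a' • y) = a' • D.c a'⁻¹ (g a) y := by
        rw [D.smul_apply, ← D.c_mul, mul_inv_cancel, D.c_one]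
      rw [h, hg']
      rfl
    let U : Subgroup D.Q :=
      { carrier := {u | ∀ y, χ ((u : MulAut S) y) = χ y}
        one_mem' := fun y => rfl
        mul_mem' := fun {u w} hu hw y => by rw [Subgroup.coe_mul, MulAut.mul_apply, hu, hw]
        inv_mem' := fun {u} hu y => by
          rw [Subgroup.coe_inv, ← hu ((u : MulAut S)⁻¹ y), MulAut.apply_inv_self] }
    have hU : ∀ u w : D.Q, (∀ y, χ ((u : MulAut S) y) = χ ((w : MulAut S) y)) → w⁻¹ * u ∈ U := fun u w h y => by
      rw [mul_comm, Subgroup.coe_mul, MulAut.mul_apply, h, Subgroup.coe_inv, MulAut.apply_inv_self]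
    have hmod : ∀ a : A, ((⟨g a, hg a⟩ : D.Q) ^ Fintype.card A * act a⁻¹ P)⁻¹ * P ∈ U := by
      intro a
      have h1 : ∏ a' : A, (((⟨g a, hg a⟩ : D.Q) * act a⁻¹ ⟨g a', hg a'⟩)⁻¹ * ⟨g (a' * a), hg _⟩) ∈ U :=
        U.prod_mem fun a' _ => hU _ _ (hker a' a)
      rw [Finset.prod_mul_distrib, Finset.prod_inv_distrib, Finset.prod_mul_distrib, Finset.prod_const,
        Finset.card_univ, ← map_prod] at h1
      rwa [show ∏ a' : A, (⟨g (a' * a), hg _⟩ : D.Q) = P from
        Fintype.prod_equiv (Equiv.mulRight a) _ _ fun a' => rfl] at h1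
    have hco : (Nat.card D.Q).Coprime (Fintype.card A) := by rw [← Nat.card_eq_fintype_card]; exact D.hQAcop
    let h₀ : D.Q := (powCoprime hco).symm P
    have hh₀ : h₀ ^ Fintype.card A = P := (powCoprime hco).apply_symm_apply P
    have hfix : ∀ a : A, ((⟨g a, hg a⟩ : D.Q) * act a⁻¹ h₀)⁻¹ * h₀ ∈ U := by
      intro a
      have h1 := hmod a
      rw [← hh₀, map_pow, ← mul_pow, ← inv_pow, ← mul_pow] at h1
      obtain ⟨m, hm⟩ := exists_pow_eq_self_of_coprime (x := ((⟨g a, hg a⟩ : D.Q) * act a⁻¹ h₀)⁻¹ * h₀)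
        (n := Fintype.card A) ((hco.coprime_dvd_left (orderOf_dvd_natCard _)).symm)
      rw [← hm]
      exact U.pow_mem h1 m
    have hξ := htriv (χ.comp (h₀ : MulAut S).toMonoidHom) fun a y => by
      show χ ((h₀ : MulAut S) (a • y)) = χ ((h₀ : MulAut S) y)
      have h1 : (h₀ : MulAut S) (a • y) = a • D.c a⁻¹ h₀ y := by
        rw [D.smul_apply, ← D.c_mul, mul_inv_cancel, D.c_one]
      rw [h1, hg']
      set u := (⟨g a, hg a⟩ : D.Q) * act a⁻¹ h₀
      have h2 := hfix a ((u : MulAut S) y)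
      rw [mul_comm u⁻¹, Subgroup.coe_mul, MulAut.mul_apply, Subgroup.coe_inv, MulAut.inv_apply_self] at h2
      exact h2.symm
    have hχ1 : χ = 1 := MonoidHom.ext fun y => by
      obtain ⟨y', rfl⟩ := (h₀ : MulAut S).surjective y
      exact DFunLike.congr_fun hξ y'
    exact hσ fun y => by rw [hχ1]; rfl
  have hB₀b := D.F.eq_zpowers hb hbB₀ hB₀
  have hbfix : ∀ h ∈ D.Q, ∀ y, χ (h (b • y)) = χ (h y) := by
    intro h hh y
    have hB' : (wstab (χ.comp h.toMonoidHom) : Subgroup A) ≤ B₀ := fun a ha => by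
      refine ⟨h * (D.c a⁻¹ h)⁻¹, D.Q.mul_mem hh (D.Q.inv_mem (D.c_mem _ hh)), fun z => ?_⟩
      obtain ⟨z', rfl⟩ : ∃ z', D.c a⁻¹ h z' = z := ⟨(D.c a⁻¹ h)⁻¹ z, MulAut.apply_inv_self _ _ _⟩
      rw [MulAut.mul_apply, MulAut.inv_apply_self, D.smul_apply, ← D.c_mul, mul_inv_cancel, D.c_one]
      exact ha z'
    have hne' := hstab _ (hweights h hh χ ⟨v, hv, hv0⟩)
    rw [hB₀b] at hB'
    haveI : Fact (Nat.card (Subgroup.zpowers b)).Prime := ⟨by rw [Nat.card_zpowers, hb]; exact D.F.hq⟩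
    have heq : (wstab (χ.comp h.toMonoidHom) : Subgroup A) = Subgroup.zpowers b := by
      refine le_antisymm hB' (Subgroup.zpowers_le.2 ?_)
      rcases ((wstab (χ.comp h.toMonoidHom) : Subgroup A).subgroupOf (Subgroup.zpowers b)).eq_bot_or_eq_top_of_prime_card with h1 | h1
      · exact absurd (by rwa [Subgroup.subgroupOf_eq_bot, disjoint_iff, inf_eq_left.2 hB'] at h1) hne'
      · exact (Subgroup.subgroupOf_eq_top.1 h1) (Subgroup.mem_zpowers b)
    exact (heq.ge (Subgroup.mem_zpowers b) : b ∈ wstab _) y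
  let K₀ : Subgroup (MulAut S) :=
    { carrier := {h | h ∈ D.Q ∧ ∀ y, χ (h y) = χ y}
      one_mem' := ⟨D.Q.one_mem, fun y => rfl⟩
      mul_mem' := fun {g g'} hg hg' => ⟨D.Q.mul_mem hg.1 hg'.1, fun y => by rw [MulAut.mul_apply, hg.2, hg'.2]⟩
      inv_mem' := fun {g} hg => ⟨D.Q.inv_mem hg.1, fun y => by rw [← hg.2 (g⁻¹ y), MulAut.apply_inv_self]⟩ }
  have hgen0 : ∀ h ∈ D.Q, h⁻¹ * D.c b h ∈ K₀ := by
    intro h hh
    refine ⟨D.Q.mul_mem (D.Q.inv_mem hh) (D.c_mem b hh), fun y => ?_⟩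
    obtain ⟨z, rfl⟩ : ∃ z, b • z = y := ⟨b⁻¹ • y, smul_inv_smul b y⟩
    rw [MulAut.mul_apply, D.c_apply, hbfix _ (D.Q.inv_mem hh), MulAut.inv_apply_self, hbB z]
  let f : ℕ → S →* kˣ := fun j => χ.comp (MulDistribMulAction.toMonoidHom S (D.F.σ ^ j))
  have h0 := D.separated hne hb K₀ (fun g hg => hg.1) hgen0 f (fun j g hg hgK a => ?_) (MonoidHom.ext fun a => ?_)
  · have hχ : χ = 1 := MonoidHom.ext fun y => by
      have h1 := DFunLike.congr_fun h0 y
      simp only [f, pow_zero, MonoidHom.comp_apply] at h1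
      rw [show (MulDistribMulAction.toMonoidHom S (1 : A)) y = y from one_smul A y] at h1
      exact h1
    intro y
    rw [hχ]; rfl
  · show χ (D.F.σ ^ j • g a) = χ (D.F.σ ^ j • a)
    rw [D.smul_apply]
    exact hgK.2 _
  · rw [MonoidHom.finsetProd_apply, MonoidHom.one_apply]
    refine Eq.trans (Finset.prod_congr rfl fun j _ => ?_) (D.prod_translates hb (χ.comp (Subgroup.center S).subtype)
      (fun z z' hz => by show χ (z' : S) = χ (z : S); rw [hz]; exact hbB z) a (hcz a) (fun j => hcz _))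
    rfl

/-- The minimal configuration does not exist. -/
theorem contradiction (hne : D.Q ≠ ⊥)
    (hweights : (∀ x y : S, x * y = y * x) → ∀ h ∈ D.Q, ∀ (χ : S →* kˣ), (∃ v, IsWeight D.π χ v ∧ v ≠ 0) →
      ∃ v, IsWeight D.π (χ.comp (h : MulAut S).toMonoidHom) v ∧ v ≠ 0) : False := by
  classical
  haveI := Fact.mk D.hs
  -- `σ` moves every point by a central point
  have hcen : ∀ x : S, x⁻¹ * D.F.σ • x ∈ Subgroup.center S := by
    by_cases hab : ∀ x y : S, x * y = y * x
    · intro x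
      rw [D.sigma_fix_comm hne hab (hweights hab) x, inv_mul_cancel]
      exact Subgroup.one_mem _
    · exact D.sigma_central hne hab
  -- `σ` acts trivially on `S`
  have hσS : ∀ x : S, D.F.σ • x = x := by
    by_cases hab : ∀ x y : S, x * y = y * x
    · exact D.sigma_fix_comm hne hab (hweights hab)
    have hZfix := D.center_fixed hab
    have hsame : ∀ h ∈ D.Q, D.c D.F.σ h = h := by
      intro h hh
      set g := h⁻¹ * D.c D.F.σ h with hg
      have hgQ : g ∈ D.Q := D.Q.mul_mem (D.Q.inv_mem hh) (D.c_mem _ hh)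
      have hmove : ∀ y, y⁻¹ * g y ∈ Subgroup.center S := by
        intro y
        obtain ⟨z, rfl⟩ : ∃ z, D.F.σ • z = y := ⟨D.F.σ⁻¹ • y, smul_inv_smul _ y⟩
        rw [hg, MulAut.mul_apply, D.c_apply]
        have h1 := hcen (h z)
        have e : D.F.σ • h z = h z * ((h z)⁻¹ * D.F.σ • h z) := by group
        have e' : D.F.σ • z = z * (z⁻¹ * D.F.σ • z) := by group
        rw [e, map_mul, MulAut.inv_apply_self, hZfix _ (D.Q.inv_mem hh) _ h1]
        conv => arg 2; arg 1; rw [e']
        rw [mul_inv_rev, mul_assoc, inv_mul_cancel_left]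
        exact Subgroup.mul_mem _ (Subgroup.inv_mem _ (hcen z)) h1
      have hg1 : g = 1 := MulEquiv.ext fun y => D.eq_of_fixed_diff hgQ (fun z => hZfix g hgQ _ (hmove z)) y
      rwa [hg, inv_mul_eq_one, eq_comm] at hg1
    let d : S →* Subgroup.center S := MonoidHom.mk' (fun x => ⟨x⁻¹ * D.F.σ • x, hcen x⟩) fun x y => Subtype.ext (by
      show (x * y)⁻¹ * D.F.σ • (x * y) = x⁻¹ * D.F.σ • x * (y⁻¹ * D.F.σ • y)
      rw [smul_mul', mul_inv_rev, mul_assoc, ← mul_assoc x⁻¹, ← mul_assoc y⁻¹,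
        Subgroup.mem_center_iff.1 (hcen x) y⁻¹, mul_assoc])
    have hd : d = 1 := D.inv_hom_trivial hne d fun h hh x => Subtype.ext (by
      show (h x)⁻¹ * D.F.σ • h x = x⁻¹ * D.F.σ • x
      rw [D.smul_apply, hsame h hh, ← map_inv, ← map_mul]
      exact hZfix h hh _ (hcen x))
    exact fun x => (inv_mul_eq_one.1 (congrArg Subtype.val (DFunLike.congr_fun hd x))).symm
  obtain ⟨b, hb⟩ := D.F.exists_orderOf_q
  have hall : ∀ (P : A → Prop), (P 1) → (∀ a a', P a → P a' → P (a * a')) → (∀ a, P a → P a⁻¹) → P D.F.σ → P b →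
      ∀ a, P a := by
    intro P h1 hm hi hσ hbP a
    let N : Subgroup A := { carrier := {a | P a}, one_mem' := h1, mul_mem' := fun {u v} hu hv => hm u v hu hv, inv_mem' := fun {u} hu => hi u hu }
    exact (D.F.eq_top_of_mem (N := N) hσ hb hbP).ge (Subgroup.mem_top a)
  have hQσ : ∀ h ∈ D.Q, D.c D.F.σ h = h := fun h _ => by
    refine MulEquiv.ext fun y => ?_
    conv_lhs => rw [← hσS y]
    rw [D.c_apply, hσS]
  have hSb : ∀ x : S, b • x = x → x = 1 := fun x hx => D.hSfpf x (hall (fun a => a • x = x) (one_smul A x)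
    (fun a a' ha ha' => by rw [mul_smul, ha', ha]) (fun a ha => by rw [inv_smul_eq_iff, ha]) (hσS x) hx)
  have hQb : ∀ h ∈ D.Q, D.c b h = h → h = 1 := fun h hh hc => D.hQfpf h hh (hall (fun a => D.c a h = h) (D.c_one h)
    (fun a a' ha ha' => by rw [D.c_mul, ha', ha])
    (fun a ha => by conv_lhs => rw [← ha]
                    rw [← D.c_mul, inv_mul_cancel, D.c_one]) (hQσ h hh) hc)
  -- the commutative quotient
  letI : Finite (Abelianization S) := Quotient.finite _
  let φ : D.Q →* MulAut (Abelianization S) := MonoidHom.mk' (fun h => (h : MulAut S).abelianizationCongr)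
    fun u w => MulEquiv.ext fun e => by
      induction e using QuotientGroup.induction_on with
      | _ e => rfl
  let τ : MulAut (Abelianization S) := (MulDistribMulAction.toMulAut A S b).abelianizationCongr
  let τQ : MulAut D.Q :=
    { toFun := fun g => ⟨D.c b g, D.c_mem b g.2⟩
      invFun := fun g => ⟨D.c b⁻¹ g, D.c_mem _ g.2⟩
      left_inv := fun g => Subtype.ext (by
        show D.c b⁻¹ (D.c b (g : MulAut S)) = g
        rw [← D.c_mul, inv_mul_cancel, D.c_one])
      right_inv := fun g => Subtype.ext (by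
        show D.c b (D.c b⁻¹ (g : MulAut S)) = g
        rw [← D.c_mul, mul_inv_cancel, D.c_one])
      map_mul' := fun g g' => Subtype.ext (map_mul (D.c b) (g : MulAut S) g') }
  have hτn : ∀ (n : ℕ) (x : S), (τ ^ n) (Abelianization.of x) = Abelianization.of (b ^ n • x) := fun n => by
    induction n with
    | zero => intro x; rw [pow_zero, pow_zero, one_smul]; rfl
    | succ n ih => intro x; rw [pow_succ', pow_succ', MulAut.mul_apply, ih, mul_smul]; rfl
  have hτQn : ∀ (n : ℕ) (g : D.Q), (((τQ ^ n) g : D.Q) : MulAut S) = D.c (b ^ n) g := fun n => by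
    induction n with
    | zero => intro g; rw [pow_zero, pow_zero, D.c_one]; rfl
    | succ n ih => intro g; rw [pow_succ', pow_succ', D.c_mul, ← ih]; rfl
  have hbq : b ^ D.F.q = 1 := hb ▸ pow_orderOf_eq_one b
  have hqS : ¬ D.F.q ∣ Nat.card S := fun hd => D.F.hq.ne_one (Nat.eq_one_of_dvd_coprimes D.hSA hd
    (by rw [D.F.card]; exact Dvd.intro_left _ rfl))
  have htriv := frobenius_trivial (V := Abelianization S) (Q := D.Q) (fun u w => Subtype.ext (D.hQc u u.2 w w.2))
    (D.cop_SQ.coprime_dvd_left (commutator S).card_quotient_dvd_card) φ τ τQ D.F.hq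
    (MulEquiv.ext fun e => by
      induction e using QuotientGroup.induction_on with
      | _ e => exact (hτn D.F.q e).trans (by rw [hbq, one_smul]; rfl))
    (MulEquiv.ext fun g => Subtype.ext (by rw [hτQn, hbq, D.c_one]; rfl))
    (fun h e => by
      induction e using QuotientGroup.induction_on with
      | _ e => exact congrArg Abelianization.of (D.smul_apply b (h : MulAut S) e))
    (fun e he => by
      induction e using QuotientGroup.induction_on with
      | _ e =>
        haveI := Fact.mk D.F.hq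
        have hinv : Coprime.IsInvariant (Subgroup.zpowers b) (commutator S) := Coprime.IsInvariant.of_characteristic _
        haveI : Group.IsSolvable (Subgroup.zpowers b) := Group.isSolvable_of_comm fun u w => mul_comm' u w
        obtain ⟨c, hc, hce⟩ := Coprime.exists_fixed_mk_eq (A := Subgroup.zpowers b) (G := S) (by
          rw [Nat.card_zpowers, hb]; exact (Nat.Prime.coprime_iff_not_dvd D.F.hq).2 hqS) (commutator S) hinv e (fun a => by
          obtain ⟨n, hn⟩ := (Submonoid.mem_powers_iff _ _).1 (mem_powers_iff_mem_zpowers.2 a.2)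
          show ((a : A) • e : S) = (_ : S ⧸ commutator S)
          rw [← hn]
          refine (hτn n e).symm.trans ?_
          clear hn
          induction n with
          | zero => rfl
          | succ n ih => rw [pow_succ', MulAut.mul_apply, ih]; exact he)
        rw [hSb c (hc ⟨b, Subgroup.mem_zpowers b⟩)] at hce
        exact hce.symm)
    (fun h hh => Subtype.ext (hQb h h.2 (congrArg Subtype.val hh)))
  have hS1 := D.inv_hom_trivial hne (Abelianization.of (G := S)) fun h hh x =>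
    htriv ⟨h, hh⟩ (Abelianization.of x)
  rcases subsingleton_or_nontrivial S with h1 | h1
  · exact hne ((Subgroup.eq_bot_iff_forall _).2 fun h _ => MulEquiv.ext fun x => Subsingleton.elim _ _)
  · haveI := D.isNilpotent
    refine (Group.IsSolvable.commutator_lt_top_of_nontrivial (G := S)).ne (eq_top_iff.2 fun x _ => ?_)
    exact (QuotientGroup.eq_one_iff x).1 (DFunLike.congr_fun hS1 x)

end Setup

end CfsgLib.PQFpf
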