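import Cfsg.Agent.PQFpf.Local
import Cfsg.Agent.PQFpf.Weights
import Cfsg.Agent.S3Fpf.Group
import Mathlib

/-!
An operator of prime order on a `q`-group represented coprimely without fixed vectors.
-/

set_option autoImplicit false
set_option linter.style.haveILetI false
set_option linter.unusedSectionVars false

namespace CfsgLib.PQFpf

open Module
open CfsgLib.S3Fpf (autLin autLin_injective autLin_apply)
open scoped commutatorElement TensorProduct

universe u

variable {S : Type*} [Group S] [Finite S] {V : Type u} [CommGroup V] [Finite V]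

/-- A compatible pair of operators of prime order, the one on the module fixing nothing. -/
structure PrimeOp (S : Type*) [Group S] (V : Type u) [CommGroup V] (p q r : ℕ) where
  ρ : S →* MulAut V
  inj : Function.Injective ρ
  b : MulAut S
  c : MulAut V
  hS : IsPGroup q S
  hV : ∀ v : V, v ^ p = 1
  hb : b ^ r = 1
  hc : c ^ r = 1
  hb1 : b ≠ 1
  compat : ∀ x v, c (ρ x v) = ρ (b x) (c v)
  fixFree : ∀ v : V, c v = v → v = 1
  hr : r.Prime
  hqr : q ≠ r
  hpq : p ≠ q
  hpr : p ≠ r

variable {p q r : ℕ} [hp : Fact p.Prime] [hq : Fact q.Prime] (D : PrimeOp S V p q r)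

/-- The representation over an algebraically closed field. -/
theorem PrimeOp.exists_linear :
    ∃ (k : Type) (_ : Field k) (_ : IsAlgClosed k) (_ : CharP k p) (W : Type u) (_ : AddCommGroup W)
      (_ : Module k W) (_ : FiniteDimensional k W) (π : S →* Module.End k W) (B : Module.End k W),
      Function.Injective π ∧ B ^ r = 1 ∧ (∀ x, B * π x = π (D.b x) * B) ∧
      ∑ i : Fin r, B ^ (i : ℕ) = 0 := by
  classical
  letI instM : Module (ZMod p) (Additive V) :=
    AddCommGroup.zmodModule (n := p) (G := Additive V) (fun v => by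
      show Additive.ofMul (Additive.toMul v ^ p) = _
      rw [D.hV]
      rfl)
  have hM : Module (ZMod p) (Additive V) := inferInstance
  let k := AlgebraicClosure (ZMod p)
  let lin : MulAut V →* Module.End (ZMod p) (Additive V) := autLin p
  let bc : Module.End (ZMod p) (Additive V) →* Module.End k (k ⊗[ZMod p] Additive V) :=
    (Module.End.baseChangeHom (ZMod p) k (Additive V)).toRingHom.toMonoidHom
  have hbc : Function.Injective bc := LinearMap.baseChangeHom_injective (ZMod p) (Additive V) k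
  let L : MulAut V →* Module.End k (k ⊗[ZMod p] Additive V) := bc.comp lin
  haveI hchar : CharP k p := charP_of_injective_algebraMap (algebraMap (ZMod p) k).injective p
  haveI : Module.Finite (ZMod p) (Additive V) := Module.Finite.of_finite
  refine ⟨k, inferInstance, inferInstance, hchar, k ⊗[ZMod p] Additive V, inferInstance, inferInstance,
    inferInstance, L.comp D.ρ, L D.c, ?_, ?_, ?_, ?_⟩
  · exact (hbc.comp (autLin_injective p)).comp D.inj
  · rw [← map_pow, D.hc, map_one]
  · intro x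
    show L D.c * L (D.ρ x) = L (D.ρ (D.b x)) * L D.c
    rw [← map_mul, ← map_mul]
    exact congrArg L (MulEquiv.ext fun v => D.compat x v)
  · haveI : NeZero r := ⟨D.hr.ne_zero⟩
    have h0 : ∑ i : Fin r, lin (D.c ^ (i : ℕ)) = 0 := by
      refine LinearMap.ext fun v => ?_
      obtain ⟨v, rfl⟩ := Additive.ofMul.surjective v
      rw [LinearMap.sum_apply, LinearMap.zero_apply]
      show ∑ i : Fin r, autLin p (D.c ^ (i : ℕ)) (Additive.ofMul v) = 0
      simp only [autLin_apply]
      rw [← ofMul_prod]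
      have h1 : ∏ i : Fin r, (D.c ^ (i : ℕ)) v = 1 := D.fixFree _ (by
        rw [map_prod]
        refine Fintype.prod_equiv (Equiv.addRight (1 : Fin r)) _ _ fun i => ?_
        rw [Equiv.coe_addRight, Fin.val_add, Fin.val_one', ← MulAut.mul_apply, ← pow_succ',
          Nat.mod_eq_of_lt D.hr.one_lt, ← pow_eq_pow_mod _ D.hc])
      rw [h1]
      rfl
    have h1 := congrArg (Module.End.baseChangeHom (ZMod p) k (Additive V)) h0
    rw [map_sum, map_zero] at h1
    rw [← h1]
    exact Finset.sum_congr rfl fun i _ => (map_pow L D.c i).symm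

include D
theorem PrimeOp.cast_ne_zero {k : Type*} [Field k] [CharP k p] : (Nat.card S : k) ≠ 0 := by
  intro h
  obtain ⟨n, hn⟩ := D.hS.exists_card_eq
  rw [CharP.cast_eq_zero_iff k p, hn] at h
  exact D.hpq ((Nat.prime_dvd_prime_iff_eq hp.out hq.out).1 (hp.out.dvd_of_dvd_pow h))

/-- The group is not commutative. -/
theorem PrimeOp.exists_noncomm : ∃ x y : S, x * y ≠ y * x := by
  classical
  by_contra! hab
  obtain ⟨k, _, _, _, W, _, _, _, π, B, hπ, hB, hcompat, hsum⟩ := D.exists_linear
  haveI := Fintype.ofFinite S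
  have hc : (Fintype.card S : k) ≠ 0 := Nat.card_eq_fintype_card (α := S) ▸ D.cast_ne_zero
  have hcomm : ∀ x y : S, π (x * y) = π (y * x) := fun x y => by rw [hab]
  -- every weight is invariant
  have hwt : ∀ (χ : S →* kˣ) (v : W), IsWeight π χ v → v ≠ 0 → ∀ u, χ (D.b u) = χ u := by
    intro χ v hv hv0
    by_contra hne
    obtain ⟨u₀, hu₀⟩ := not_forall.1 hne
    let St : Subgroup (MulAut S) :=
      { carrier := {e | ∀ u, χ (e u) = χ u}
        one_mem' := fun u => rfl
        mul_mem' := fun {a b} ha hb u => (ha (b u)).trans (hb u)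
        inv_mem' := fun {a} ha u => by rw [← ha (a⁻¹ u), MulAut.apply_inv_self] }
    have hb' : D.b ∉ St := fun h => hu₀ (h u₀)
    have hiw : ∀ (i : ℕ) (u : S), π ((D.b ^ i) u) ((B ^ i) v) = ((χ u : kˣ) : k) • (B ^ i) v := by
      intro i
      induction i with
      | zero => intro u; exact hv u
      | succ i ih =>
        intro u
        rw [pow_succ', pow_succ', MulAut.mul_apply, Module.End.mul_apply, ← Module.End.mul_apply, ← hcompat,
          Module.End.mul_apply, ih, map_smul]
    have h := congrArg (fun T : Module.End k W => wproj π χ (T v)) hsum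
    simp only [LinearMap.sum_apply, map_sum, LinearMap.zero_apply, map_zero] at h
    rw [Finset.sum_eq_single (⟨0, D.hr.pos⟩ : Fin r)] at h
    · rw [pow_zero, Module.End.one_apply, wproj_self hc hv] at h
      exact hv0 h
    · intro i _ hi
      refine wproj_other (ξ := χ.comp ((D.b ^ (i : ℕ))⁻¹ : MulAut S).toMonoidHom) (fun u => ?_) fun he => hb' ?_
      · have := hiw i ((D.b ^ (i : ℕ))⁻¹ u)
        rwa [MulAut.apply_inv_self] at this
      · have hmem : (D.b ^ (i : ℕ))⁻¹ ∈ St := fun u => (DFunLike.congr_fun he u).symm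
        have hbi := St.inv_mem hmem
        rw [inv_inv] at hbi
        have hi0 : (i : ℕ) ≠ 0 := fun h0 => hi (Fin.ext h0)
        have hco : (i : ℕ).Coprime r :=
          ((D.hr.coprime_iff_not_dvd).2 fun hd =>
            absurd (Nat.le_of_dvd (Nat.pos_of_ne_zero hi0) hd) (by omega)).symm
        have := Subgroup.zpow_mem St hbi (Nat.gcdA i r)
        have e : (D.b ^ (i : ℕ)) ^ Nat.gcdA i r = D.b := by
          have hg := Nat.gcd_eq_gcd_ab i r
          rw [hco] at hg
          have : D.b ^ ((1 : ℕ) : ℤ) = D.b ^ (((i : ℕ) : ℤ) * Nat.gcdA i r + (r : ℤ) * Nat.gcdB i r) := by rw [hg]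
          rw [zpow_add, zpow_mul, zpow_mul, zpow_natCast, zpow_natCast, zpow_natCast, D.hb, one_zpow, mul_one,
            pow_one] at this
          exact this.symm
        rwa [e] at this
    · simp
  refine D.hb1 (MulEquiv.ext fun u => hπ (sub_eq_zero.1 ?_))
  refine ext_weights π hcomm D.cast_ne_zero (π (D.b u) - π u) fun χ v hv => ?_
  rcases eq_or_ne v 0 with rfl | hv0
  · exact map_zero _
  · rw [LinearMap.sub_apply, hv, hv, hwt χ v hv hv0, sub_self]

/-- The dichotomy for groups of class two. -/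
theorem PrimeOp.class_two (hcen : ∀ x y : S, ⁅x, y⁆ ∈ Subgroup.center S)
    (hfixZ : ∀ z ∈ Subgroup.center S, D.b z = z)
    (hmin : ∀ R : Subgroup S, Subgroup.center S ≤ R → R ≠ ⊤ → (∀ u ∈ R, D.b u ∈ R) →
      (∃ N : Subgroup S, N ≤ Subgroup.center S ∧ ¬ (∀ x y : S, ⁅x, y⁆ ∈ N) ∧ ∀ u ∈ R, ∀ y, ⁅u, y⁆ ∈ N) →
      ∀ u ∈ R, D.b u = u) :
    ∃ R : Subgroup S, ∃ _ : R.Normal, Subgroup.center S ≤ R ∧ R ≠ ⊤ ∧ (∀ u ∈ R, D.b u = u) ∧
      ((∀ x : S, x⁻¹ * D.b x ∈ R) ∨ (q = 2 ∧ ∃ d, 0 < d ∧ 2 ^ d + 1 = r)) ∧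
      (∃ d, Nat.card (S ⧸ R) = d * d) ∧
      Nat.card (S ⧸ R) ≤ (r - 1) ^ 2 * Nat.card {y : S ⧸ R // ∀ x : S, (x : S ⧸ R) = y → x⁻¹ * D.b x ∈ R} := by
  classical
  obtain ⟨k, _, _, _, W, _, _, _, π, B, hπ, hB, hcompat, hsum⟩ := D.exists_linear
  set Z := Subgroup.center S
  have hZk : (Nat.card Z : k) ≠ 0 := fun h => D.cast_ne_zero (k := k) (by
    obtain ⟨m, hm⟩ := Z.card_subgroup_dvd_card
    rw [hm, Nat.cast_mul, h, zero_mul])
  -- a weight of the centre seeing a commutator
  obtain ⟨θ, v, hv, hv0, x₀, y₀, hxy⟩ : ∃ (θ : Z →* kˣ) (v : W), IsWeight (π.comp Z.subtype) θ v ∧ v ≠ 0 ∧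
      ∃ x y : S, θ ⟨⁅x, y⁆, hcen x y⟩ ≠ 1 := by
    by_contra! h
    obtain ⟨x, y, hxy⟩ := D.exists_noncomm
    refine hxy (commutatorElement_eq_one_iff_mul_comm.1 (hπ ?_))
    rw [map_one]
    exact eq_one_of_weights (π.comp Z.subtype)
      (fun a b => congrArg (π.comp Z.subtype) (Subtype.ext (Subgroup.mem_center_iff.1 b.2 a)))
      hZk ⟨⁅x, y⁆, hcen x y⟩ fun χ w hw hw0 => h χ w hw hw0 x y
  -- the commutator form
  let cm : S → S → kˣ := fun x y => θ ⟨⁅x, y⁆, hcen x y⟩
  have hmulr : ∀ x y y', cm x (y * y') = cm x y * cm x y' := by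
    intro x y y'
    show θ _ = θ _ * θ _
    rw [← map_mul]
    refine congrArg θ (Subtype.ext ?_)
    show ⁅x, y * y'⁆ = ⁅x, y⁆ * ⁅x, y'⁆
    have hc := Subgroup.mem_center_iff.1 (hcen x y') y
    calc ⁅x, y * y'⁆ = ⁅x, y⁆ * (y * ⁅x, y'⁆) * y⁻¹ := by simp only [commutatorElement_def]; group
      _ = _ := by rw [hc]; group
  have hswap : ∀ x y, cm y x = (cm x y)⁻¹ := by
    intro x y
    show θ _ = (θ _)⁻¹
    rw [← map_inv]
    exact congrArg θ (Subtype.ext (commutatorElement_inv x y).symm)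
  have hmull : ∀ x x' y, cm (x * x') y = cm x y * cm x' y := fun x x' y => by
    rw [hswap y, hmulr, mul_inv, ← hswap, ← hswap]
  let χ : S →* (S →* kˣ) := MonoidHom.mk' (fun x => MonoidHom.mk' (cm x) (hmulr x))
    fun x x' => MonoidHom.ext fun y => hmull x x' y
  let R : Subgroup S := χ.ker
  have hR : ∀ u, u ∈ R ↔ ∀ y, cm u y = 1 := fun u => by
    rw [MonoidHom.mem_ker, MonoidHom.ext_iff]; rfl
  have hZR : Z ≤ R := fun z hz => (hR z).2 fun y => by
    show θ _ = 1
    rw [show (⟨⁅z, y⁆, hcen z y⟩ : Z) = 1 from Subtype.ext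
      (commutatorElement_eq_one_iff_mul_comm.2 (Subgroup.mem_center_iff.1 hz y).symm), map_one]
  have hRtop : R ≠ ⊤ := fun h => hxy ((hR x₀).1 (h ▸ Subgroup.mem_top x₀) y₀)
  have hbχ : ∀ x y, cm (D.b x) (D.b y) = cm x y := fun x y => by
    refine congrArg θ (Subtype.ext ?_)
    show ⁅D.b x, D.b y⁆ = ⁅x, y⁆
    rw [← map_commutatorElement, hfixZ _ (hcen x y)]
  have hbR : ∀ u ∈ R, D.b u ∈ R := fun u hu => (hR _).2 fun y => by
    obtain ⟨y, rfl⟩ := D.b.surjective y
    rw [hbχ]; exact (hR u).1 hu y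
  have hfixR : ∀ u ∈ R, D.b u = u := by
    refine hmin R hZR hRtop hbR ⟨θ.ker.map Z.subtype, Subgroup.map_subtype_le _, ?_, ?_⟩
    · intro h
      obtain ⟨w, hw, e⟩ := h x₀ y₀
      exact hxy ((congrArg θ (Subtype.ext e)).symm.trans hw)
    · exact fun u hu y => ⟨⟨_, hcen u y⟩, (hR u).1 hu y, rfl⟩
  haveI : Nontrivial W := ⟨v, 0, hv0⟩
  -- a weight of the radical
  let U0 : Submodule k W :=
    { carrier := {w | IsWeight (π.comp Z.subtype) θ w}
      zero_mem' := fun u => by rw [map_zero, smul_zero]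
      add_mem' := fun {a b} ha hb u => by rw [map_add, ha, hb, smul_add]
      smul_mem' := fun c w hw u => by rw [map_smul, hw, smul_comm] }
  have hU0 : ∀ x : S, ∀ w ∈ U0, π x w ∈ U0 := fun x w hw u => by
    show π (u : S) (π x w) = _
    rw [← Module.End.mul_apply, ← map_mul, ← Subgroup.mem_center_iff.1 u.2 x, map_mul, Module.End.mul_apply,
      show π (u : S) w = ((θ u : kˣ) : k) • w from hw u, map_smul]
  haveI : Nontrivial U0 := ⟨⟨v, hv⟩, 0, fun h => hv0 (congrArg Subtype.val h)⟩
  let π0 : R →* Module.End k U0 :=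
    { toFun := fun u => (π (u : S)).restrict (hU0 u)
      map_one' := LinearMap.ext fun w => Subtype.ext (by
        show π (1 : S) (w : W) = w
        rw [map_one]; rfl)
      map_mul' := fun a b => LinearMap.ext fun w => Subtype.ext (by
        show π ((a : S) * b) (w : W) = π a (π b w)
        rw [map_mul]; rfl) }
  have hπ0 : ∀ a b : R, π0 (a * b) = π0 (b * a) := by
    intro a b
    refine LinearMap.ext fun w => Subtype.ext ?_
    show π ((a : S) * b) (w : W) = π ((b : S) * a) (w : W)
    have h1 : (θ ⟨⁅(a : S), (b : S)⁆, hcen _ _⟩ : kˣ) = 1 := (hR _).1 a.2 b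
    have h2 : (a : S) * b = ⁅(a : S), (b : S)⁆ * ((b : S) * a) := by simp only [commutatorElement_def]; group
    rw [h2, ← Subgroup.mem_center_iff.1 (hcen (a : S) b) ((b : S) * a), map_mul, Module.End.mul_apply,
      show π ⁅(a : S), (b : S)⁆ (w : W) = ((θ ⟨_, hcen _ _⟩ : kˣ) : k) • (w : W) from w.2 ⟨_, hcen _ _⟩,
      h1, Units.val_one, one_smul]
  have hRk : (Nat.card R : k) ≠ 0 := fun h => D.cast_ne_zero (k := k) (by
    obtain ⟨m, hm⟩ := R.card_subgroup_dvd_card
    rw [hm, Nat.cast_mul, h, zero_mul])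
  obtain ⟨lam, w₀, hw₀, hw00⟩ := exists_weight π0 hπ0 hRk
  have hlam : ∀ z : Z, lam ⟨z, hZR z.2⟩ = θ z := by
    intro z
    have h1 : π (z : S) (w₀ : W) = ((lam ⟨z, hZR z.2⟩ : kˣ) : k) • (w₀ : W) :=
      congrArg Subtype.val (hw₀ ⟨z, hZR z.2⟩)
    rw [show π (z : S) (w₀ : W) = ((θ z : kˣ) : k) • (w₀ : W) from w₀.2 z] at h1
    exact (Units.ext (smul_left_injective k (fun h => hw00 (Subtype.ext h)) h1)).symm
  let U : Submodule k W :=
    { carrier := {w | IsWeight (π.comp R.subtype) lam w}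
      zero_mem' := fun u => by rw [map_zero, smul_zero]
      add_mem' := fun {a b} ha hb u => by rw [map_add, ha, hb, smul_add]
      smul_mem' := fun c w hw u => by rw [map_smul, hw, smul_comm] }
  have hUZ : ∀ w ∈ U, ∀ z : Z, π (z : S) w = ((θ z : kˣ) : k) • w := fun w hw z => by
    rw [← hlam z]; exact hw ⟨z, hZR z.2⟩
  have hUπ : ∀ x : S, ∀ w ∈ U, π x w ∈ U := fun x w hw u => by
    show π (u : S) (π x w) = _
    have h2 : (u : S) * x = x * u * ⁅(u : S)⁻¹, x⁻¹⁆ := by simp only [commutatorElement_def]; group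
    rw [← Module.End.mul_apply, ← map_mul, h2, map_mul, Module.End.mul_apply,
      hUZ w hw ⟨_, hcen _ _⟩, map_smul, map_mul, Module.End.mul_apply,
      show π (u : S) w = ((lam u : kˣ) : k) • w from hw u, map_smul]
    rw [show θ ⟨⁅(u : S)⁻¹, x⁻¹⁆, hcen _ _⟩ = 1 from (hR _).1 (inv_mem u.2) x⁻¹, Units.val_one, one_smul]
  have hUB : ∀ w ∈ U, B w ∈ U := fun w hw u => by
    show π (u : S) (B w) = _
    have h := hcompat (u : S)
    rw [hfixR u u.2] at h
    rw [← Module.End.mul_apply, ← h, Module.End.mul_apply, show π (u : S) w = _ from hw u, map_smul]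
  haveI : Nontrivial U :=
    ⟨⟨w₀, fun u => congrArg Subtype.val (hw₀ u)⟩, 0, fun h => hw00 (Subtype.ext (congrArg Subtype.val h :))⟩
  let πU : S →* Module.End k U :=
    { toFun := fun x => (π x).restrict (hUπ x)
      map_one' := LinearMap.ext fun w => Subtype.ext (by
        show π (1 : S) (w : W) = w
        rw [map_one]; rfl)
      map_mul' := fun a b => LinearMap.ext fun w => Subtype.ext (by
        show π (a * b) (w : W) = π a (π b w)
        rw [map_mul]; rfl) }
  let F : FormRep πU R :=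
    { χ := χ
      scalar := fun u hu => ⟨_, LinearMap.ext fun w => Subtype.ext (w.2 ⟨u, hu⟩)⟩
      rel := fun x y => LinearMap.ext fun w => Subtype.ext (by
        show π x (π y (w : W)) = ((cm x y : kˣ) : k) • π y (π x (w : W))
        have h2 : x * y = ⁅x, y⁆ * (y * x) := by simp only [commutatorElement_def]; group
        rw [← Module.End.mul_apply, ← map_mul, h2, map_mul, Module.End.mul_apply, map_mul, Module.End.mul_apply]
        exact hUZ _ (hUπ y _ (hUπ x _ w.2)) ⟨_, hcen x y⟩)
      left_rad := fun u hu y => (hR u).1 hu y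
      right_rad := fun x hx => (hR x).2 fun y => by
        rw [hswap y, show cm y x = 1 from hx y, inv_one]
      rad_right := fun u hu y => by
        show cm y u = 1
        rw [hswap u, (hR u).1 hu, inv_one] }
  let BU : Module.End k U := B.restrict hUB
  have hBpow : ∀ (i : ℕ) (w : U), ((BU ^ i) w : W) = (B ^ i) (w : W) := by
    intro i
    induction i with
    | zero => intro w; rfl
    | succ i ih => intro w; rw [pow_succ', pow_succ', Module.End.mul_apply, Module.End.mul_apply, ← ih]; rfl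
  haveI : R.Normal := MonoidHom.normal_ker χ
  have hd := dichotomy D.hS F D.cast_ne_zero D.b D.hr D.hqr.symm (fun h =>
      D.hpr ((Nat.prime_dvd_prime_iff_eq hp.out D.hr).1 ((CharP.cast_eq_zero_iff k p r).1 h)))
    D.hb hbR hbχ BU
    (LinearMap.ext fun w => Subtype.ext (by rw [hBpow, hB]; rfl))
    (fun x => LinearMap.ext fun w => Subtype.ext (LinearMap.congr_fun (hcompat x) (w : W)))
    (LinearMap.ext fun w => Subtype.ext (by
      rw [LinearMap.sum_apply, Submodule.coe_sum]
      simp only [hBpow]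
      rw [← LinearMap.sum_apply, hsum]
      rfl))
  refine ⟨R, inferInstance, hZR, hRtop, hfixR, ?_, ?_, hd.1.trans (le_of_eq ?_)⟩
  · rcases hd.2 with h | ⟨d, hd0, hdr⟩
    · exact Or.inl h
    · refine Or.inr ?_
      have hq2 : q = 2 := by
        by_contra hne
        have hodd : Odd (q ^ d) := (hq.out.odd_of_ne_two hne).pow
        have hr2 : r = 2 := by
          by_contra hr2
          exact (Nat.not_even_iff_odd.2 (D.hr.odd_of_ne_two hr2)) (hdr ▸ hodd.add_one)
        have : 2 ≤ q ^ d := hq.out.two_le.trans (Nat.le_self_pow hd0.ne' q)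
        omega
      subst hq2
      exact ⟨rfl, d, hd0, hdr⟩
  · haveI := Fintype.ofFinite (S ⧸ R)
    obtain ⟨d, hd⟩ := card_square F (fun h => D.cast_ne_zero (k := k) (by
      obtain ⟨m, hm⟩ := R.card_quotient_dvd_card
      rw [hm, Nat.cast_mul, Nat.card_eq_fintype_card, h, zero_mul]))
    exact ⟨d, by rw [Nat.card_eq_fintype_card, hd]⟩
  · congr 1
    refine Nat.card_congr (Equiv.subtypeEquivRight fun y => ?_)
    induction y using QuotientGroup.induction_on with
    | _ x =>
      rw [bar_mk, QuotientGroup.eq]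
      constructor
      · intro h x' hx'
        have hu : x⁻¹ * x' ∈ R := QuotientGroup.eq.1 hx'.symm
        rw [show x'⁻¹ * D.b x' = (x⁻¹ * x')⁻¹ * (x⁻¹ * D.b x) * D.b (x⁻¹ * x') by
          rw [map_mul, map_inv]; group]
        exact mul_mem (mul_mem (inv_mem hu) (by simpa using inv_mem h)) (hbR _ hu)
      · intro h
        simpa using inv_mem (h x rfl)

/-- A minimal configuration is exceptional. -/
theorem PrimeOp.exceptional (hmin : ∀ R : Subgroup S, R ≠ ⊤ → (∀ u ∈ R, D.b u ∈ R) → ∀ u ∈ R, D.b u = u) :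
    q = 2 ∧ ∃ d, 2 ^ d + 1 = r := by
  classical
  haveI : Group.IsNilpotent S := D.hS.isNilpotent
  let K : Subgroup S := Subgroup.closure (Set.range fun x => x⁻¹ * D.b x)
  have hK : K = ⊤ := by
    by_contra hne
    have hinv : ∀ u ∈ K, D.b u ∈ K := by
      intro u hu
      induction hu using Subgroup.closure_induction with
      | mem w hw =>
        obtain ⟨x, rfl⟩ := hw
        exact Subgroup.subset_closure ⟨D.b x, by simp only [map_mul, map_inv]⟩
      | one => rw [map_one]; exact one_mem _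
      | mul a b _ _ iha ihb => rw [map_mul]; exact mul_mem iha ihb
      | inv a _ iha => rw [map_inv]; exact inv_mem iha
    refine D.hb1 (MulEquiv.ext fun x => ?_)
    set w := x⁻¹ * D.b x with hw
    have hwfix : D.b w = w := hmin K hne hinv w (Subgroup.subset_closure ⟨x, rfl⟩)
    have hpow : ∀ i : ℕ, (D.b ^ i) x = x * w ^ i := fun i => by
      induction i with
      | zero => simp
      | succ i ih =>
        rw [pow_succ', MulAut.mul_apply, ih, map_mul, map_pow, hwfix, pow_succ',
          show D.b x = x * w by rw [hw, mul_inv_cancel_left], mul_assoc]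
    have hr1 := hpow r
    rw [D.hb, MulAut.one_apply, left_eq_mul] at hr1
    obtain ⟨j, hj⟩ := IsPGroup.iff_orderOf.1 D.hS w
    have hw1 : w = 1 := orderOf_eq_one_iff.1 (Nat.eq_one_of_dvd_coprimes
      (((Nat.coprime_primes hq.out D.hr).2 D.hqr).pow_left j) (dvd_of_eq hj) (orderOf_dvd_of_pow_eq_one hr1))
    rw [hw, inv_mul_eq_one] at hw1
    exact hw1.symm
  have hnab := D.exists_noncomm
  haveI : Nontrivial S := by
    obtain ⟨x, y, h⟩ := hnab
    exact ⟨x * y, y * x, h⟩
  have hT : commutator S ≠ ⊤ := (Group.IsSolvable.commutator_lt_top_of_nontrivial (G := S)).ne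
  have hfixT : ∀ t ∈ commutator S, D.b t = t := hmin _ hT fun u hu =>
    ((Subgroup.characteristic_iff_le_comap.1 (inferInstance : (commutator S).Characteristic)) D.b hu :)
  have hcen : ∀ x y : S, ⁅x, y⁆ ∈ Subgroup.center S := by
    intro a b
    refine Subgroup.mem_center_iff.2 fun g => ?_
    have hg : g ∈ K := hK ▸ Subgroup.mem_top g
    have ht : ⁅a, b⁆ ∈ commutator S := Subgroup.commutator_mem_commutator (Subgroup.mem_top _) (Subgroup.mem_top _)
    have hle : K ≤ Subgroup.centralizer ({⁅a, b⁆} : Set S) := by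
      rw [Subgroup.closure_le]
      rintro _ ⟨x, rfl⟩
      rw [SetLike.mem_coe, Subgroup.mem_centralizer_singleton_iff]
      have h1 : x * ⁅a, b⁆ * x⁻¹ ∈ commutator S :=
        (inferInstance : (commutator S).Normal).conj_mem _ ht x
      have h2 := hfixT _ h1
      rw [map_mul, map_mul, map_inv, hfixT _ ht, mul_inv_eq_iff_eq_mul] at h2
      show x⁻¹ * D.b x * ⁅a, b⁆ = ⁅a, b⁆ * (x⁻¹ * D.b x)
      rw [mul_assoc, h2]
      group
    exact Subgroup.mem_centralizer_singleton_iff.1 (hle hg)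
  have hcne : Subgroup.center S ≠ ⊤ := fun h => by
    obtain ⟨x, y, hxy⟩ := hnab
    exact hxy (Subgroup.mem_center_iff.1 (h ▸ Subgroup.mem_top y) x)
  obtain ⟨R, hRn, hZR, hRtop, hfixR, hcase, -, -⟩ := D.class_two hcen
    (hmin _ hcne fun u hu =>
      ((Subgroup.characteristic_iff_le_comap.1 (inferInstance : (Subgroup.center S).Characteristic)) D.b hu :))
    fun R _ hR hi _ => hmin R hR hi
  rcases hcase with h | ⟨h2, d, -, hd⟩
  · exact absurd (top_le_iff.1 (hK ▸ (Subgroup.closure_le R).2 (by rintro _ ⟨x, rfl⟩; exact h x))) hRtop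
  · exact ⟨h2, d, hd⟩

end CfsgLib.PQFpf
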