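import Cfsg.Agent.PQFpf.Weights
import Mathlib.FieldTheory.IsAlgClosed.AlgebraicClosure
import Mathlib.Algebra.Field.ZMod
import Mathlib.LinearAlgebra.Basis.VectorSpace
import Mathlib.LinearAlgebra.Dimension.Constructions
import Mathlib.Algebra.Module.Hom
import Mathlib.Algebra.CharP.Algebra

/-!
An operator of odd prime order with few moved classes on an elementary two-group with a
non-degenerate invariant pairing centralises every odd commutative group it normalises.
-/

set_option autoImplicit false
set_option linter.style.haveILetI false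
set_option linter.unusedSectionVars false

namespace CfsgLib.PQFpf

open Module

/-- A generating family over a subgroup. -/
theorem exists_small_gen {G : Type*} [Group G] [Finite G] (C : Subgroup G) :
    ∃ s : Finset G, C ⊔ Subgroup.closure (s : Set G) = ⊤ ∧ 2 ^ s.card * Nat.card C ≤ Nat.card G := by
  classical
  suffices h : ∀ (n : ℕ) (D : Subgroup G), D.index ≤ n → C ≤ D →
      ∃ s : Finset G, D ⊔ Subgroup.closure (s : Set G) = ⊤ ∧ 2 ^ s.card * Nat.card D ≤ Nat.card G by
    exact h C.index C le_rfl le_rfl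
  intro n
  induction n with
  | zero => intro D hD _; exact absurd (Nat.le_zero.1 hD) Subgroup.index_ne_zero_of_finite
  | succ n ih =>
    intro D hD hCD
    rcases eq_or_ne D ⊤ with rfl | hDt
    · exact ⟨∅, top_sup_eq _, by simp⟩
    obtain ⟨x, hx⟩ : ∃ x, x ∉ D := by
      by_contra h
      push Not at h
      exact hDt (eq_top_iff.2 fun x _ => h x)
    set D' := D ⊔ Subgroup.closure {x} with hD'
    have hlt : D < D' := lt_of_le_of_ne le_sup_left fun he => hx (he.ge (Subgroup.mem_sup_right (Subgroup.subset_closure rfl)))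
    have hcard : 2 * Nat.card D ≤ Nat.card D' := by
      obtain ⟨m, hm⟩ := Subgroup.card_dvd_of_le hlt.le
      rcases m with _ | _ | m
      · exact absurd (hm.trans (mul_zero _)) Nat.card_pos.ne'
      · exact absurd (Subgroup.eq_of_le_of_card_ge hlt.le (by rw [hm]; simp)) hlt.ne
      · rw [hm, mul_comm 2]; exact Nat.mul_le_mul_left _ (by omega)
    have hidx : D'.index < D.index := by
      have h1 := D.card_mul_index
      have h2 := D'.card_mul_index
      by_contra hc
      push Not at hc
      have h3 : 2 * Nat.card D * D.index ≤ Nat.card D' * D'.index := Nat.mul_le_mul hcard hc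
      rw [mul_assoc, h1, h2] at h3
      have := Nat.card_pos (α := G)
      omega
    obtain ⟨s, hs, hsc⟩ := ih D' (by omega) (hCD.trans hlt.le)
    refine ⟨insert x s, ?_, ?_⟩
    · rw [eq_top_iff, ← hs, hD', Finset.coe_insert, Set.insert_eq, Subgroup.closure_union, sup_assoc]
    · calc 2 ^ (insert x s).card * Nat.card D ≤ 2 ^ (s.card + 1) * Nat.card D :=
            Nat.mul_le_mul_right _ (Nat.pow_le_pow_right (by norm_num) (Finset.card_insert_le _ _))
        _ = 2 ^ s.card * (2 * Nat.card D) := by ring
        _ ≤ 2 ^ s.card * Nat.card D' := Nat.mul_le_mul_left _ hcard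
        _ ≤ Nat.card G := hsc

variable {k : Type*} [Field k] [IsAlgClosed k] {E : Type*} [CommGroup E] [Finite E]
variable {Q : Type*} [CommGroup Q] [Finite Q]

theorem pairing_trivial (h2k : (2 : k) ≠ 0) (hE2 : ∀ x : E, x ^ 2 = 1) (χ : E →* (E →* kˣ))
    (hndl : ∀ x, (∀ y, χ x y = 1) → x = 1) (hndr : ∀ x, (∀ y, χ y x = 1) → x = 1)
    (φ : Q →* MulAut E) (hφ : ∀ h x y, χ (φ h x) (φ h y) = χ x y) (hodd : Odd (Nat.card Q))
    (τ : MulAut E) (τQ : MulAut Q) {q : ℕ} (hq : q.Prime) (hq2 : q ≠ 2) (hτQ : τQ ^ q = 1)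
    (hcompat : ∀ h x, τ (φ h x) = φ (τQ h) (τ x))
    (hbound : Nat.card E ≤ (q - 1) ^ 2 * Nat.card {x : E // τ x = x}) :
    ∀ h x, φ (τQ h) x = φ h x := by
  classical
  let K := AlgebraicClosure (ZMod 2)
  haveI : CharP K 2 := charP_of_injective_algebraMap (algebraMap (ZMod 2) K).injective 2
  let V := Additive E →+ K
  let ρ : Q →* Module.End K V :=
    { toFun := fun h =>
        { toFun := fun f => f.comp (MonoidHom.toAdditive (φ h).toMonoidHom)
          map_add' := fun f g => rfl
          map_smul' := fun c f => rfl }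
      map_one' := LinearMap.ext fun f => AddMonoidHom.ext fun x => by
        show f (Additive.ofMul (φ 1 (Additive.toMul x))) = f x
        rw [map_one]; rfl
      map_mul' := fun a b => LinearMap.ext fun f => AddMonoidHom.ext fun x => by
        show f (Additive.ofMul (φ (a * b) (Additive.toMul x))) =
          f (Additive.ofMul (φ b (φ a (Additive.toMul x))))
        rw [mul_comm a b, map_mul]; rfl }
  have hρ : ∀ h (f : V) (x : E), ρ h f (Additive.ofMul x) = f (Additive.ofMul (φ h x)) := fun h f x => rfl
  let T : Module.End K V :=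
    { toFun := fun f => f.comp (MonoidHom.toAdditive τ.toMonoidHom)
      map_add' := fun f g => rfl
      map_smul' := fun c f => rfl }
  have hT : ∀ (f : V) (x : E), T f (Additive.ofMul x) = f (Additive.ofMul (τ x)) := fun f x => rfl
  have hVext : ∀ f g : V, (∀ x : E, f (Additive.ofMul x) = g (Additive.ofMul x)) → f = g :=
    fun f g h => AddMonoidHom.ext fun x => h (Additive.toMul x)
  have hsm : ∀ (a : K) (f : V) (z : Additive E), (a • f) z = a * f z := fun _ _ _ => rfl
  have hc : (Nat.card Q : K) ≠ 0 := by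
    obtain ⟨m, hm⟩ := hodd
    rw [hm]
    rw [Nat.cast_add, Nat.cast_mul, Nat.cast_two, show (2 : K) = 0 from CharTwo.two_eq_zero, zero_mul, zero_add, Nat.cast_one]
    exact one_ne_zero
  have hcomm : ∀ a b : Q, ρ (a * b) = ρ (b * a) := fun a b => by rw [mul_comm]
  -- the additive pairing
  have hsq : ∀ x y, χ x y = 1 ∨ χ x y = -1 := fun x y => by
    have h : ((χ x y : kˣ) : k) * (χ x y : kˣ) = 1 := by
      rw [← Units.val_mul, ← map_mul (χ x), ← sq, hE2, map_one, Units.val_one]
    rcases mul_self_eq_one_iff.1 h with h | h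
    · exact Or.inl (Units.ext h)
    · exact Or.inr (Units.ext (by rw [h]; simp))
  have hneg : (-1 : kˣ) ≠ 1 := fun h => h2k (by
    have h' : (-1 : k) = 1 := by simpa using congrArg Units.val h
    rw [← one_add_one_eq_two, ← neg_eq_iff_add_eq_zero, h'])
  let β : E → V := fun y => AddMonoidHom.mk' (fun x => if χ y (Additive.toMul x) = 1 then 0 else 1) fun a b => by
    show (if χ y (Additive.toMul a * Additive.toMul b) = 1 then (0 : K) else 1) = _
    rw [map_mul]
    rcases hsq y (Additive.toMul a) with h | h <;> rcases hsq y (Additive.toMul b) with h' | h' <;>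
      simp [h, h', hneg, CharTwo.add_self_eq_zero]
  have hβ : ∀ y x, β y (Additive.ofMul x) = if χ y x = 1 then 0 else 1 := fun y x => rfl
  have hβh : ∀ h y, ρ h (β (φ h y)) = β y := fun h y => hVext _ _ fun x => by rw [hρ, hβ, hβ, hφ]
  have hz2 : ∀ u : ZMod 2, u = 0 ∨ u = 1 := by decide
  -- the pairing reaches every binary functional
  have hdual : ∀ g : Additive E →+ ZMod 2, ∃ y, ∀ x, (if χ y x = 1 then (0 : ZMod 2) else 1) = g (Additive.ofMul x) := by
    intro g
    have hχinj : Function.Injective χ := (injective_iff_map_eq_one χ).2 fun x hx => hndl x fun y => by rw [hx]; rfl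
    haveI : NeZero (Monoid.exponent E : k) := ⟨fun h0 => h2k (by
      obtain ⟨m, hm⟩ := Monoid.exponent_dvd_of_forall_pow_eq_one hE2
      rw [show ((2 : k)) = ((2 : ℕ) : k) from Nat.cast_ofNat.symm, hm, Nat.cast_mul, h0, zero_mul])⟩
    haveI : Finite (E →* kˣ) := Nat.finite_of_card_ne_zero
      (by rw [CommGroup.card_monoidHom_of_hasEnoughRootsOfUnity]; exact Nat.card_pos.ne')
    have hsurj := (hχinj.bijective_of_nat_card_le (le_of_eq (CommGroup.card_monoidHom_of_hasEnoughRootsOfUnity E k))).2
    let ξ : E →* kˣ :=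
      { toFun := fun x => if g (Additive.ofMul x) = 0 then 1 else -1
        map_one' := by simp
        map_mul' := fun a b => by
          rw [ofMul_mul, map_add]
          rcases hz2 (g (Additive.ofMul a)) with h | h <;> rcases hz2 (g (Additive.ofMul b)) with h' | h' <;>
            simp [h, h', show (1 : ZMod 2) + 1 = 0 from rfl] }
    obtain ⟨y, hy⟩ := hsurj ξ
    refine ⟨y, fun x => ?_⟩
    rw [hy]
    show (if (if g (Additive.ofMul x) = 0 then (1 : kˣ) else -1) = 1 then (0 : ZMod 2) else 1) = _
    rcases hz2 (g (Additive.ofMul x)) with h | h <;> simp [h, hneg]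
  have hspan : ∀ f : V, f ∈ Submodule.span K (Set.range β) := by
    intro f
    haveI : Fintype E := Fintype.ofFinite E
    let bK := Module.Basis.ofVectorSpace (ZMod 2) K
    let I := Finset.univ.biUnion fun x : E => (bK.repr (f (Additive.ofMul x))).support
    have hc' : ∀ i, ∃ y, ∀ x, (if χ y x = 1 then (0 : ZMod 2) else 1) = bK.repr (f (Additive.ofMul x)) i := fun i =>
      hdual (((Finsupp.applyAddHom i).comp bK.repr.toLinearMap.toAddMonoidHom).comp f)
    choose y hy using hc'
    have he : f = ∑ i ∈ I, bK i • β (y i) := hVext _ _ fun x => by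
      rw [AddMonoidHom.finsetSum_apply]
      conv_lhs => rw [← bK.linearCombination_repr (f (Additive.ofMul x)), Finsupp.linearCombination_apply]
      rw [Finsupp.sum_of_support_subset _ (Finset.subset_biUnion_of_mem
        (fun x : E => (bK.repr (f (Additive.ofMul x))).support) (Finset.mem_univ x)) (fun i a => a • bK i) (fun i _ => zero_smul _ _)]
      refine Finset.sum_congr rfl fun i _ => ?_
      rw [hsm, hβ, ← hy i x]
      split_ifs <;> simp
    rw [he]
    exact Submodule.sum_mem _ fun i _ => Submodule.smul_mem _ _ (Submodule.subset_span ⟨y i, rfl⟩)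
  -- a moved weight
  intro h x
  by_contra hne
  have hV0 : ρ (τQ h) ≠ ρ h := fun he => hne (by
    have key : ∀ y, χ y (φ (τQ h) x) = χ y (φ h x) := fun y => by
      have h1 := DFunLike.congr_fun (LinearMap.congr_fun he (β y)) (Additive.ofMul x)
      rw [hρ, hρ, hβ, hβ] at h1
      rcases hsq y (φ (τQ h) x) with h2 | h2 <;> rcases hsq y (φ h x) with h3 | h3 <;>
        simp [h2, h3, hneg] at h1 ⊢
    refine eq_of_div_eq_one (hndr _ fun y => ?_)
    rw [map_div, key, div_self'])
  obtain ⟨ψ, v, hv, hv0, hmov⟩ : ∃ (ψ : Q →* Kˣ) (v : V), IsWeight ρ ψ v ∧ v ≠ 0 ∧ ψ (τQ h) ≠ ψ h := by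
    by_contra hcon
    push Not at hcon
    refine hV0 (sub_eq_zero.1 (ext_weights ρ hcomm hc (ρ (τQ h) - ρ h) fun ψ v hv => ?_))
    rcases eq_or_ne v 0 with rfl | hv0
    · exact map_zero _
    · rw [LinearMap.sub_apply, hv, hv, hcon ψ v hv hv0, sub_self]
  haveI : Fintype Q := Fintype.ofFinite Q
  have hc' : (Fintype.card Q : K) ≠ 0 := by rwa [← Nat.card_eq_fintype_card]
  -- a weight for the inverse character
  obtain ⟨w, hw, hw0⟩ : ∃ w : V, IsWeight ρ ψ⁻¹ w ∧ w ≠ 0 := by
    by_contra hcon
    push Not at hcon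
    have hz : ∀ f, wproj ρ ψ⁻¹ f = 0 := fun f => hcon _ (isWeight_wproj ρ ψ⁻¹ f)
    have hflip : ∀ y, wproj ρ ψ (β y) = 0 := fun y => hVext _ _ fun z => by
      have h1 : ∀ u z', ρ u (β y) (Additive.ofMul z') = β (φ u⁻¹ y) (Additive.ofMul z') := fun u z' => by
        conv_rhs => rw [← hβh u (φ u⁻¹ y), ← MulAut.mul_apply, ← map_mul, mul_inv_cancel, map_one, MulAut.one_apply]
      rw [wproj_apply, hsm, AddMonoidHom.finsetSum_apply]
      simp only [hsm, h1]
      -- transfer to the other variable
      let g : E →* kˣ := MonoidHom.mk' (fun b => χ b z) fun a b => by rw [map_mul]; rfl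
      obtain ⟨z', hz'⟩ : ∃ z', ∀ b, (if χ z' b = 1 then (0 : K) else 1) = if χ b z = 1 then 0 else 1 := by
        have hG : ∀ b, g b = 1 ∨ g b = -1 := fun b => hsq b z
        let ga : Additive E →+ ZMod 2 :=
          AddMonoidHom.mk' (fun b => if g (Additive.toMul b) = 1 then 0 else 1) fun a b => by
            show (if g (Additive.toMul a * Additive.toMul b) = 1 then (0 : ZMod 2) else 1) = _
            rw [map_mul]
            rcases hG (Additive.toMul a) with h | h <;> rcases hG (Additive.toMul b) with h' | h' <;>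
              simp [h, h', hneg, CharTwo.add_self_eq_zero]
        obtain ⟨z', hz'⟩ := hdual ga
        refine ⟨z', fun b => ?_⟩
        have h2 := hz' b
        show (if χ z' b = 1 then (0 : K) else 1) = if g b = 1 then 0 else 1
        have hga : ga (Additive.ofMul b) = if g b = 1 then 0 else 1 := rfl
        rw [hga] at h2
        split_ifs at h2 ⊢ <;> first | rfl | exact absurd h2 (by decide)
      have h3 := DFunLike.congr_fun (hz (β z')) (Additive.ofMul y)
      rw [wproj_apply, hsm, AddMonoidHom.finsetSum_apply] at h3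
      simp only [hsm, hρ, hβ, MonoidHom.inv_apply, inv_inv] at h3
      simp only [hz'] at h3
      simp only [hβ] at h3 ⊢
      refine Eq.trans ?_ (h3.trans rfl)
      congr 1
      refine Fintype.sum_equiv (Equiv.inv Q) _ _ fun u => ?_
      rw [Equiv.inv_apply, map_inv, map_inv]
    have hker : Submodule.span K (Set.range β) ≤ LinearMap.ker (wproj ρ ψ) := by
      rw [Submodule.span_le]
      rintro _ ⟨y, rfl⟩
      exact hflip y
    exact hv0 ((wproj_self hc' hv).symm.trans (hker (hspan v)))
  -- the orbits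
  have hTw : ∀ (ξ : Q →* Kˣ) (f : V), IsWeight ρ ξ f → IsWeight ρ (ξ.comp τQ.toMonoidHom) (T f) := by
    intro ξ f hf u
    refine hVext _ _ fun z => ?_
    rw [hρ, hT, hcompat, ← hρ, hf (τQ u)]
    rfl
  let Ψ : Bool → Q →* Kˣ := fun b => if b then ψ else ψ⁻¹
  let v₀ : Bool → V := fun b => if b then v else w
  have hv₀ : ∀ b, IsWeight ρ (Ψ b) (v₀ b) ∧ v₀ b ≠ 0 := fun b => by cases b <;> simp [Ψ, v₀, hv, hw, hv0, hw0]
  let χs : ℕ → Bool → Q →* Kˣ := fun n b => (Ψ b).comp (τQ ^ n).toMonoidHom
  have hTn : ∀ n b, IsWeight ρ (χs n b) ((T ^ n) (v₀ b)) := fun n b => by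
    induction n with
    | zero => exact (hv₀ b).1
    | succ n ih =>
      rw [pow_succ', Module.End.mul_apply]
      have he : χs (n + 1) b = (χs n b).comp τQ.toMonoidHom := MonoidHom.ext fun u => by
        simp only [χs, pow_succ, MonoidHom.comp_apply, MulEquiv.toMonoidHom_eq_coe, MonoidHom.coe_coe, MulAut.mul_apply]
      rw [he]
      exact hTw _ _ ih
  have hTinj : ∀ n (f : V), (T ^ n) f = 0 → f = 0 := fun n => by
    induction n with
    | zero => exact fun f hf => hf
    | succ n ih =>
      intro f hf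
      rw [pow_succ, Module.End.mul_apply] at hf
      refine hVext _ _ fun z => ?_
      obtain ⟨z', rfl⟩ := τ.surjective z
      rw [← hT, ih _ hf]; rfl
  have hdist : ∀ n m b c, n < q → m < q → χs n b = χs m c → n = m ∧ b = c := by
    intro n m b c hn hm he
    -- the characters fixed by a power of `τQ`
    have hstab : ∀ ξ : Q →* Kˣ, ∀ d : ℕ, ¬ q ∣ d → (∀ u, ξ ((τQ ^ d) u) = ξ u) → ξ (τQ h) = ξ h := by
      intro ξ d hd hfix
      let P : Subgroup (MulAut Q) :=
        { carrier := {g | ∀ u, ξ (g u) = ξ u}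
          one_mem' := fun u => rfl
          mul_mem' := fun {g g'} hg hg' u => by rw [MulAut.mul_apply, hg, hg']
          inv_mem' := fun {g} hg u => by rw [← hg (g⁻¹ u), MulAut.apply_inv_self] }
      have hco : d.Coprime q := ((Nat.Prime.coprime_iff_not_dvd hq).2 hd).symm
      have h1 : τQ ^ Nat.gcd d q ∈ P := by
        rw [← zpow_natCast, Nat.gcd_eq_gcd_ab, zpow_add, zpow_mul, zpow_mul, zpow_natCast, zpow_natCast, hτQ, one_zpow, mul_one]
        exact Subgroup.zpow_mem P (show τQ ^ d ∈ P from hfix) _
      rw [hco.gcd_eq_one, pow_one] at h1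
      exact h1 h
    have hΨ : ∀ b, Ψ b (τQ h) ≠ Ψ b h := fun b => by
      cases b <;> simp [Ψ, hmov]
    have hnm : (n + (q - m)) % q = 0 → n = m := fun h0 => by
      rcases Nat.lt_or_ge n m with hlt | hge
      · rw [Nat.mod_eq_of_lt (by omega)] at h0; omega
      · rw [show n + (q - m) = (n - m) + q by omega, Nat.add_mod_right, Nat.mod_eq_of_lt (by omega)] at h0; omega
    have he' : ∀ u, Ψ b ((τQ ^ (n + (q - m))) u) = Ψ c u := fun u => by
      have h1 := DFunLike.congr_fun he ((τQ ^ (q - m)) u)
      simp only [χs, MonoidHom.comp_apply, MulEquiv.toMonoidHom_eq_coe, MonoidHom.coe_coe, ← MulAut.mul_apply, ← pow_add] at h1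
      rwa [show m + (q - m) = q by omega, hτQ, MulAut.one_apply] at h1
    set d := n + (q - m)
    rcases Bool.eq_or_eq_not b c with rfl | hbc
    · refine ⟨hnm (Nat.mod_eq_zero_of_dvd ?_), rfl⟩
      by_contra hd
      exact hΨ b (hstab _ d hd he')
    · exfalso
      have hflip : ∀ u, Ψ b ((τQ ^ d) u) = (Ψ b u)⁻¹ := fun u => by
        rw [he', hbc]
        cases c <;> simp [Ψ]
      have hfix2 : ∀ u, Ψ b ((τQ ^ (2 * d)) u) = Ψ b u := fun u => by
        rw [two_mul, pow_add, MulAut.mul_apply, hflip, hflip, inv_inv]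
      by_cases hd : q ∣ d
      · obtain ⟨e, he2⟩ := hd
        have h1 := hflip h
        rw [he2, pow_mul, hτQ, one_pow, MulAut.one_apply] at h1
        have h2 : ∀ u, (Ψ b u) ^ 2 = 1 := fun u => by
          have h1 := hflip u
          rw [he2, pow_mul, hτQ, one_pow, MulAut.one_apply] at h1
          rw [sq]
          conv_lhs => arg 1; rw [h1]
          rw [inv_mul_cancel]
        have h3 : ∀ u, Ψ b u = 1 := fun u => by
          have h4 : (Ψ b u) ^ Nat.card Q = 1 := by rw [← map_pow, pow_card_eq_one', map_one]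
          have h5 := pow_gcd_eq_one.2 ⟨h4, h2 u⟩
          rwa [(Nat.coprime_two_right.2 hodd).gcd_eq_one, pow_one] at h5
        exact hΨ b (by rw [h3, h3])
      · refine hΨ b (hstab _ (2 * d) (fun h2 => ?_) hfix2)
        rcases (Nat.Prime.dvd_mul hq).1 h2 with h3 | h3
        · exact hq2 ((Nat.prime_dvd_prime_iff_eq hq Nat.prime_two).1 h3)
        · exact hd h3
  -- counting
  let C : Subgroup E := (τ.toMonoidHom).eqLocus (MonoidHom.id E)
  obtain ⟨s, hs, hscard⟩ := exists_small_gen C
  have hC : Nat.card C = Nat.card {x : E // τ x = x} := rfl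
  have hsb : 2 ^ s.card ≤ (q - 1) ^ 2 :=
    Nat.le_of_mul_le_mul_right (hscard.trans (hC ▸ hbound)) (hC ▸ Nat.card_pos)
  let d : Fin (q - 1) × Bool → V := fun ib => (T ^ ((ib.1 : ℕ) + 1)) (v₀ ib.2) - (T ^ (ib.1 : ℕ)) (v₀ ib.2)
  let L : (Fin (q - 1) × Bool → K) →ₗ[K] (s → K) :=
    { toFun := fun c z => (∑ ib, c ib • d ib) (Additive.ofMul (z : E))
      map_add' := fun c c' => funext fun z => by
        simp only [Pi.add_apply, add_smul, Finset.sum_add_distrib]
        rfl
      map_smul' := fun a c => funext fun z => by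
        simp only [Pi.smul_apply, smul_eq_mul, mul_smul, RingHom.id_apply, ← Finset.smul_sum]
        exact smul_eq_mul _ _ }
  have hL : Function.Injective L := by
    refine (injective_iff_map_eq_zero L).2 fun c hc0 => ?_
    set F := ∑ ib, c ib • d ib with hF
    have hTfix : ∀ n (f : V) (z : E), τ z = z → (T ^ n) f (Additive.ofMul z) = f (Additive.ofMul z) := fun n f z hz => by
      induction n with
      | zero => rfl
      | succ n ih => rw [pow_succ', Module.End.mul_apply, hT, hz, ih]
    have hF0 : F = 0 := hVext _ _ fun z => by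
      let P : Subgroup E :=
        { carrier := {z | F (Additive.ofMul z) = 0}
          one_mem' := map_zero F
          mul_mem' := fun {a b} ha hb => by
            show F (Additive.ofMul a + Additive.ofMul b) = 0
            rw [map_add, ha, hb, add_zero]
          inv_mem' := fun {a} ha => by
            show F (-Additive.ofMul a) = 0
            rw [map_neg, ha, neg_zero] }
      refine (show C ⊔ Subgroup.closure (s : Set E) ≤ P from sup_le (fun z hz => ?_) ((Subgroup.closure_le _).2 fun z hz => ?_))
        (hs.ge (Subgroup.mem_top z))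
      · show F (Additive.ofMul z) = 0
        rw [hF, AddMonoidHom.finsetSum_apply]
        refine Finset.sum_eq_zero fun ib _ => ?_
        rw [hsm, AddMonoidHom.sub_apply, hTfix _ _ z hz, hTfix _ _ z hz, sub_self, mul_zero]
      · exact congrFun hc0 ⟨z, hz⟩
    -- extract coefficients with the projections
    let cc : ℕ → Bool → K := fun n b => if hn : n < q - 1 then c (⟨n, hn⟩, b) else 0
    have key : ∀ n b, n < q → (if n = 0 then 0 else cc (n - 1) b) = cc n b := by
      intro n b hn
      have h1 := congrArg (wproj ρ (χs n b)) hF0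
      rw [hF, map_sum, map_zero] at h1
      have hproj : ∀ (m : ℕ) c', m < q → wproj ρ (χs n b) ((T ^ m) (v₀ c')) =
          if m = n ∧ c' = b then (T ^ n) (v₀ b) else 0 := fun m c' hm => by
        split_ifs with hmb
        · obtain ⟨rfl, rfl⟩ := hmb
          exact wproj_self hc' (hTn _ _)
        · exact wproj_other (hTn m c') fun he => hmb (hdist n m b c' hn hm he |>.imp Eq.symm Eq.symm)
      have hb : ∀ ib : Fin (q - 1) × Bool, wproj ρ (χs n b) (c ib • d ib) =
          ((if (ib.1 : ℕ) + 1 = n ∧ ib.2 = b then c ib else 0) - (if (ib.1 : ℕ) = n ∧ ib.2 = b then c ib else 0)) •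
            (T ^ n) (v₀ b) := fun ib => by
        rw [map_smul, map_sub, hproj _ _ (by omega), hproj _ _ (by omega), smul_sub, sub_smul]
        split_ifs <;> simp
      rw [Finset.sum_congr rfl fun ib _ => hb ib, ← Finset.sum_smul, smul_eq_zero] at h1
      have h2 := h1.resolve_right fun h3 => (hv₀ b).2 (hTinj n _ h3)
      rw [Finset.sum_sub_distrib, sub_eq_zero] at h2
      have e2 : ∑ ib : Fin (q - 1) × Bool, (if (ib.1 : ℕ) = n ∧ ib.2 = b then c ib else 0) = cc n b := by
        simp only [cc]
        split_ifs with hn'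
        · rw [Finset.sum_eq_single (⟨n, hn'⟩, b)]
          · simp
          · intro ib _ hne
            exact if_neg fun h => hne (Prod.ext (Fin.ext h.1) h.2)
          · simp
        · exact Finset.sum_eq_zero fun ib _ => if_neg fun (h : (ib.1 : ℕ) = n ∧ ib.2 = b) => hn' (h.1 ▸ ib.1.2)
      have e1 : ∑ ib : Fin (q - 1) × Bool, (if (ib.1 : ℕ) + 1 = n ∧ ib.2 = b then c ib else 0) =
          if n = 0 then 0 else cc (n - 1) b := by
        rcases Nat.eq_zero_or_pos n with hn0 | hn0
        · rw [if_pos hn0]
          exact Finset.sum_eq_zero fun ib _ => if_neg fun h => by omega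
        · rw [if_neg hn0.ne']
          simp only [cc]
          rw [dif_pos (by omega), Finset.sum_eq_single (⟨n - 1, by omega⟩, b)]
          · simp [Nat.sub_add_cancel hn0]
          · intro ib _ hne
            exact if_neg fun (h : (ib.1 : ℕ) + 1 = n ∧ ib.2 = b) => hne (Prod.ext (Fin.ext (by simp only; omega)) h.2)
          · simp
      rw [← e1, ← e2, h2]
    have hzero : ∀ n b, n < q - 1 → cc n b = 0 := by
      intro n b hn
      induction n with
      | zero => rw [← key 0 b hq.pos, if_pos rfl]
      | succ n ih =>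
        rw [← key (n + 1) b (by omega), if_neg (Nat.succ_ne_zero n)]
        exact ih (by omega)
    funext ib
    have := hzero ib.1 ib.2 ib.1.2
    simpa [cc, dif_pos ib.1.2] using this
  have hdim := LinearMap.finrank_le_finrank_of_injective hL
  rw [Module.finrank_fintype_fun_eq_card, Module.finrank_fintype_fun_eq_card, Fintype.card_prod, Fintype.card_fin,
    Fintype.card_bool, Fintype.card_coe] at hdim
  have h1 : 2 ^ ((q - 1) * 2) ≤ (q - 1) ^ 2 := le_trans (Nat.pow_le_pow_right (by norm_num) hdim) hsb
  rw [pow_mul] at h1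
  exact absurd h1 (not_le.2 (Nat.pow_lt_pow_left (q - 1).lt_two_pow_self two_ne_zero))

end CfsgLib.PQFpf
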