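import Cfsg.Agent.PQFpf.Core
import Cfsg.Agent.S3Fpf.Group
import Cfsg.Agent.Coprime.Sylow
import Cfsg.Agent.FGSA.Nilpotent
import Mathlib.GroupTheory.Subgroup.Centralizer

/-!
A group which is nilpotent modulo an invariant nilpotent normal subgroup and is represented
faithfully without fixed vectors is nilpotent.
-/

set_option autoImplicit false
set_option linter.style.haveILetI false
set_option linter.unusedSectionVars false
set_option maxHeartbeats 1000000

namespace CfsgLib.PQFpf

open CfsgLib.S3Fpf (autLin autLin_injective autLin_apply)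
open scoped commutatorElement TensorProduct

universe u

/-- The action on an invariant subgroup. -/
@[reducible] def subAction {A G : Type*} [Group A] [Group G] [MulDistribMulAction A G] (K : Subgroup G)
    (hK : Coprime.IsInvariant A K) : MulDistribMulAction A K where
  smul a x := ⟨a • (x : G), hK a x x.2⟩
  one_smul x := Subtype.ext (one_smul A (x : G))
  mul_smul a b x := Subtype.ext (mul_smul a b (x : G))
  smul_one a := Subtype.ext (smul_one a)
  smul_mul a x y := Subtype.ext (smul_mul' a (x : G) y)

variable {A : Type*} [Group A] [Fintype A]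

theorem quot_nilpotent (F : Acting A) {H : Type u} [Group H] [Finite H] [MulDistribMulAction A H]
    (hHA : (Nat.card H).Coprime (Nat.card A)) (hfpf : ∀ h : H, (∀ a : A, a • h = h) → h = 1)
    {V : Type u} [CommGroup V] [Finite V] (r : ℕ) [Fact r.Prime] (hVexp : ∀ v : V, v ^ r = 1)
    (hrA : ¬ r ∣ Nat.card A) (ρ : H →* MulAut V) (hρ : Function.Injective ρ)
    (αV : A →* MulAut V) (hcompat : ∀ a h v, αV a (ρ h v) = ρ (a • h) (αV a v))
    (hVfix : ∀ v : V, (∀ a : A, αV a v = v) → v = 1)
    (N : Subgroup H) [N.Normal] (hNnil : Group.IsNilpotent N) (hNinv : Coprime.IsInvariant A N)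
    (hQnil : Group.IsNilpotent (H ⧸ N)) (hrN : ¬ r ∣ Nat.card N) : Group.IsNilpotent H := by
  classical
  haveI := F.isSolvable
  -- the representation
  letI instM : Module (ZMod r) (Additive V) :=
    AddCommGroup.zmodModule (n := r) (G := Additive V) (fun v => by
      show Additive.ofMul (Additive.toMul v ^ r) = _
      rw [hVexp]
      rfl)
  have hM : Module (ZMod r) (Additive V) := inferInstance
  let k := AlgebraicClosure (ZMod r)
  let lin : MulAut V →* Module.End (ZMod r) (Additive V) := autLin r
  have hlin : Function.Injective lin := autLin_injective r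
  let bc : Module.End (ZMod r) (Additive V) →* Module.End k (k ⊗[ZMod r] Additive V) :=
    (Module.End.baseChangeHom (ZMod r) k (Additive V)).toRingHom.toMonoidHom
  have hbc : Function.Injective bc := LinearMap.baseChangeHom_injective (ZMod r) (Additive V) k
  let L : MulAut V →* Module.End k (k ⊗[ZMod r] Additive V) := bc.comp lin
  haveI hchar : CharP k r := charP_of_injective_algebraMap (algebraMap (ZMod r) k).injective r
  have hcast : ∀ m : ℕ, ¬ r ∣ m → ((m : ℕ) : k) ≠ 0 := fun m hm h => hm ((CharP.cast_eq_zero_iff k r m).1 h)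
  haveI : Module.Finite (ZMod r) (Additive V) := Module.Finite.of_finite
  have hsumV : ∑ a : A, L (αV a) = 0 := by
    have h0 : ∑ a : A, lin (αV a) = 0 := by
      refine LinearMap.ext fun v => ?_
      obtain ⟨v, rfl⟩ := Additive.ofMul.surjective v
      rw [LinearMap.sum_apply, LinearMap.zero_apply]
      show ∑ a : A, autLin r (αV a) (Additive.ofMul v) = 0
      rw [Finset.sum_congr rfl fun a _ => autLin_apply r (αV a) v, ← ofMul_prod]
      have h1 : ∏ a : A, αV a v = 1 := hVfix _ fun b => by
        rw [map_prod]
        exact Fintype.prod_equiv (Equiv.mulLeft b) _ _ fun a => by rw [Equiv.coe_mulLeft, map_mul]; rfl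
      rw [h1]
      rfl
    show ∑ a : A, bc (lin (αV a)) = 0
    have h1 := congrArg (Module.End.baseChangeHom (ZMod r) k (Additive V)) h0
    rw [map_sum, map_zero] at h1
    exact h1
  -- an invariant Sylow subgroup centralises the other primary parts of `N`
  refine ((Group.isNilpotent_of_finite_tfae (G := H)).out 0 3).2 ?_
  intro t ht P'
  haveI := ht
  obtain ⟨P, hP⟩ := Coprime.exists_invariant_sylow (A := A) (G := H) hHA.symm t
  suffices hPn : (P : Subgroup H).Normal by
    haveI := Sylow.unique_of_normal P hPn
    rw [Subsingleton.elim P' P]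
    exact hPn
  have hcen : ∀ s : ℕ, s.Prime → s ≠ t → ∀ x ∈ N, (∃ j, orderOf x = s ^ j) → ∀ g ∈ (P : Subgroup H), g * x = x * g := by
    intro s hs hst x hx hxj
    haveI := Fact.mk hs
    obtain ⟨Ns, hNs, hNsp, hNsmem⟩ := FGSA.exists_pPart hNnil s
    -- the primary part is normal and invariant
    have hNschar : ∀ y, y ∈ Ns ↔ y ∈ N ∧ ∃ j, orderOf y = s ^ j := fun y => by
      refine ⟨fun hy => ⟨hNs hy, ?_⟩, fun hy => hNsmem y hy.1 hy.2⟩
      obtain ⟨j, hj⟩ := IsPGroup.iff_orderOf.1 hNsp ⟨y, hy⟩
      exact ⟨j, by rwa [← Subgroup.orderOf_coe] at hj⟩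
    have hNsinv : Coprime.IsInvariant A Ns := fun a y hy => by
      obtain ⟨hy1, j, hj⟩ := (hNschar y).1 hy
      refine (hNschar _).2 ⟨hNinv a y hy1, j, ?_⟩
      show orderOf (MulDistribMulAction.toMulEquiv H a y) = _
      rwa [MulEquiv.orderOf_eq]
    haveI hNsn : Ns.Normal := ⟨fun y hy g => by
      obtain ⟨hy1, j, hj⟩ := (hNschar y).1 hy
      refine (hNschar _).2 ⟨(inferInstance : N.Normal).conj_mem y hy1 g, j, ?_⟩
      show orderOf (MulAut.conj g y) = _
      rwa [MulEquiv.orderOf_eq]⟩
    suffices hgoal : (P : Subgroup H) ≤ Subgroup.centralizer (Ns : Set H) by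
      intro g hg
      exact (Subgroup.mem_centralizer_iff.1 (hgoal hg) x (hNsmem x hx hxj)).symm
    by_contra hcon
    -- a minimal counterexample
    let C : Set (Subgroup H × Subgroup H) := {ST | ST.1 ≤ Ns ∧ ST.2 ≤ (P : Subgroup H) ∧
      Coprime.IsInvariant A ST.1 ∧ Coprime.IsInvariant A ST.2 ∧ ST.2 ≤ Subgroup.normalizer (ST.1 : Set H) ∧
      ¬ ST.2 ≤ Subgroup.centralizer (ST.1 : Set H)}
    obtain ⟨⟨S, T⟩, hST⟩ := exists_minimalFor_of_wellFoundedLT (fun ST => ST ∈ C)
      (fun ST : Subgroup H × Subgroup H => Nat.card ST.1 + Nat.card ST.2)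
      ⟨(Ns, (P : Subgroup H)), le_rfl, le_rfl, hNsinv, hP, Subgroup.le_normalizer_of_normal, hcon⟩
    obtain ⟨hSN, hTP, hSi, hTi, hTS, hTC⟩ := hST.1
    simp only at hSN hTP hSi hTi hTS hTC
    have hsmall : ∀ ST ∈ C, Nat.card S + Nat.card T ≤ Nat.card ST.1 + Nat.card ST.2 := fun ST h => by
      by_contra hlt
      push Not at hlt
      exact absurd (hST.le_of_le h hlt.le) (by simpa using hlt)
    have hSp : IsPGroup s S := hNsp.to_le hSN
    have hTp : IsPGroup t T := P.isPGroup'.to_le hTP
    letI : MulDistribMulAction A S := subAction S hSi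
    letI : MulDistribMulAction A T := subAction T hTi
    let φ : T →* MulAut S := S.normalizerMonoidHom.comp (Subgroup.inclusion hTS)
    have hφ : ∀ (g : T) (y : S), ((φ g y : S) : H) = (g : H) * y * (g : H)⁻¹ := fun g y => rfl
    have hφA : ∀ (a : A) (g : T), MulDistribMulAction.toMulAut A S a * φ g * (MulDistribMulAction.toMulAut A S a)⁻¹ = φ (a • g) := by
      intro a g
      refine MulEquiv.ext fun y => ?_
      obtain ⟨z, rfl⟩ : ∃ z, MulDistribMulAction.toMulAut A S a z = y := (MulDistribMulAction.toMulAut A S a).surjective y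
      rw [MulAut.mul_apply, MulAut.mul_apply, MulAut.inv_apply_self]
      refine Subtype.ext ?_
      rw [hφ]
      show a • ((g : H) * z * (g : H)⁻¹) = (a • (g : H)) * (a • (z : H)) * (a • (g : H))⁻¹
      rw [smul_mul', smul_mul', smul_inv']
    have hderT : ∀ g h : T, φ g * φ h = φ h * φ g := by
      intro g h
      rcases subsingleton_or_nontrivial T with h1 | h1
      · rw [Subsingleton.elim g h]
      haveI : Group.IsNilpotent T := hTp.isNilpotent
      have hlt : commutator T ≠ ⊤ := (Group.IsSolvable.commutator_lt_top_of_nontrivial (G := T)).ne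
      set T' := (commutator T).map T.subtype with hT'
      have hT'le : T' ≤ T := Subgroup.map_subtype_le _
      have hcard : Nat.card T' < Nat.card T := by
        rw [hT', Subgroup.card_map_of_injective T.subtype_injective]
        exact lt_of_le_of_ne (Subgroup.card_le_card_group _) fun he => hlt (Subgroup.eq_top_of_card_eq _ he)
      have hT'i : Coprime.IsInvariant A T' := by
        rintro a _ ⟨w, hw, rfl⟩
        exact ⟨a • w, (Coprime.IsInvariant.of_characteristic (A := A) (commutator T)) a w hw, rfl⟩
      have hC : T' ≤ Subgroup.centralizer (S : Set H) := by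
        by_contra hc
        have := hsmall (S, T') ⟨hSN, hT'le.trans hTP, hSi, hT'i, hT'le.trans hTS, hc⟩
        simp only at this
        omega
      rw [← map_mul, ← map_mul]
      have h2 : φ ⁅g, h⁆ = 1 := MulEquiv.ext fun y => Subtype.ext (by
        have hcy : (y : H) * ((⁅g, h⁆ : T) : H) = ((⁅g, h⁆ : T) : H) * (y : H) := Subgroup.mem_centralizer_iff.1
          (hC ⟨⁅g, h⁆, Subgroup.commutator_mem_commutator (Subgroup.mem_top g) (Subgroup.mem_top h), rfl⟩) y y.2
        rw [hφ, MulAut.one_apply, ← hcy, mul_inv_cancel_right])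
      rw [map_commutatorElement, commutatorElement_eq_one_iff_mul_comm, ← map_mul, ← map_mul] at h2
      exact h2
    have hHr : ¬ r ∣ Nat.card S := fun hd =>
      hrN (hd.trans (Subgroup.card_dvd_of_le (hSN.trans hNs)))
    have hdvdH : ∀ K : Subgroup H, (Nat.card K).Coprime (Nat.card A) := fun K =>
      hHA.coprime_dvd_left K.card_subgroup_dvd_card
    let D : Setup A k (k ⊗[ZMod r] Additive V) S :=
      { F := F
        s := s
        t := t
        hs := hs
        ht := ht.out
        hst := hst
        hS := hSp
        Q := φ.range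
        hQ := hTp.of_surjective φ.rangeRestrict φ.rangeRestrict_surjective
        hQc := by
          rintro _ ⟨g, rfl⟩ _ ⟨h, rfl⟩
          exact hderT g h
        hQA := by
          rintro a _ ⟨g, rfl⟩
          exact ⟨a • g, (hφA a g).symm⟩
        hQfpf := by
          rintro _ ⟨g, rfl⟩ hg
          have hkerinv : Coprime.IsInvariant A φ.ker := fun a w hw => by
            rw [MonoidHom.mem_ker] at hw ⊢
            rw [← hφA, hw, mul_one, mul_inv_cancel]
          obtain ⟨c, hc, hce⟩ := Coprime.exists_fixed_mk_eq (A := A) (G := T) (hdvdH T).symm φ.ker hkerinv g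
            (fun a => QuotientGroup.eq.2 (by
              rw [MonoidHom.mem_ker, map_mul, map_inv, ← hφA a g, hg a, inv_mul_cancel]))
          have hc1 : c = 1 := Subtype.ext (hfpf _ fun a => congrArg Subtype.val (hc a))
          rw [hc1] at hce
          exact (QuotientGroup.eq_one_iff g).1 hce.symm
        hSfpf := fun y hy => Subtype.ext (hfpf _ fun a => congrArg Subtype.val (hy a))
        hSA := hdvdH S
        hQAcop := (hdvdH T).coprime_dvd_left (Subgroup.card_range_dvd φ)
        hkA := hcast _ hrA
        hkS := hcast _ hHr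
        π := L.comp (ρ.comp S.subtype)
        πA := L.comp αV
        compat := fun a y => by
          show L (αV a) * L (ρ (y : H)) = L (ρ (a • (y : H))) * L (αV a)
          rw [← map_mul, ← map_mul]
          exact congrArg L (MulEquiv.ext fun v => hcompat a y v)
        inj := ((hbc.comp hlin).comp hρ).comp S.subtype_injective
        hsum := hsumV
        hmin := by
          intro M hM hMA hMQ h hh y hy
          obtain ⟨g, rfl⟩ := hh
          have hcard : Nat.card (M.map S.subtype) < Nat.card S := by
            rw [Subgroup.card_map_of_injective S.subtype_injective]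
            exact lt_of_le_of_ne (Subgroup.card_le_card_group _) fun he => hM (Subgroup.eq_top_of_card_eq _ he)
          have hC : T ≤ Subgroup.centralizer (M.map S.subtype : Set H) := by
            by_contra hc
            have := hsmall (M.map S.subtype, T) ⟨(Subgroup.map_subtype_le _).trans hSN, hTP, by
              rintro a _ ⟨w, hw, rfl⟩
              exact ⟨a • w, hMA a w hw, rfl⟩, hTi, fun w hw => Subgroup.mem_normalizer_fintype (by
              rintro _ ⟨z, hz, rfl⟩
              exact ⟨φ ⟨w, hw⟩ z, hMQ _ ⟨⟨w, hw⟩, rfl⟩ z hz, rfl⟩), hc⟩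
            simp only at this
            omega
          refine Subtype.ext ?_
          rw [hφ, ← Subgroup.mem_centralizer_iff.1 (hC g.2) (y : H) ⟨y, hy, rfl⟩, mul_inv_cancel_right] }
    refine D.contradiction ?_ ?_
    · intro hbot
      refine hTC fun g hg => Subgroup.mem_centralizer_iff.2 fun y hy => ?_
      have h1 : φ ⟨g, hg⟩ = 1 := (Subgroup.eq_bot_iff_forall _).1 hbot _ ⟨⟨g, hg⟩, rfl⟩
      have h2 := congrArg (fun e : MulAut S => ((e ⟨y, hy⟩ : S) : H)) h1
      simp only [hφ, MulAut.one_apply] at h2
      rw [mul_inv_eq_iff_eq_mul] at h2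
      exact h2.symm
    · rintro - _ ⟨g, rfl⟩ χ ⟨v, hv, hv0⟩
      refine ⟨L (ρ (g : H)⁻¹) v, fun y => ?_, fun h0 => hv0 ?_⟩
      · show L (ρ (y : H)) (L (ρ (g : H)⁻¹) v) = _
        rw [← Module.End.mul_apply, ← map_mul, ← map_mul,
          show (y : H) * (g : H)⁻¹ = (g : H)⁻¹ * ((φ g y : S) : H) by rw [hφ]; group, map_mul, map_mul, Module.End.mul_apply]
        show L (ρ (g : H)⁻¹) (D.π (φ g y) v) = _
        rw [hv, map_smul]
        rfl
      · have h1 := congrArg (L (ρ (g : H))) h0
        rwa [← Module.End.mul_apply, ← map_mul, ← map_mul, mul_inv_cancel, map_one, map_one, Module.End.one_apply,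
          map_zero] at h1
  -- normality
  have hnorm : N ≤ Subgroup.normalizer ((P : Subgroup H) : Set H) := by
    refine FGSA.le_of_prime_power_mem fun s hs x hx hxj => ?_
    by_cases hst : s = t
    · subst hst
      obtain ⟨Ns, hNs, hNsp, hNsmem⟩ := FGSA.exists_pPart hNnil s
      refine Subgroup.le_normalizer ?_
      -- a normal subgroup of prime power order lies in every Sylow subgroup
      let R : Sylow s N := default
      haveI : (R : Subgroup N).Normal :=
        R.normal_of_normalizerCondition (Group.normalizerCondition_of_isNilpotent (G := N))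
      haveI : (R : Subgroup N).Characteristic := R.characteristic_of_normal inferInstance
      haveI : ((R : Subgroup N).map N.subtype).Normal := ConjAct.normal_of_characteristic_of_normal
      have hxR : (⟨x, hx⟩ : N) ∈ (R : Subgroup N) := by
        obtain ⟨j, hj⟩ := hxj
        obtain ⟨Q, hQ⟩ := (IsPGroup.of_card (p := s) (n := j) (by rw [Nat.card_zpowers, ← Subgroup.orderOf_coe, hj]) :
          IsPGroup s (Subgroup.zpowers (⟨x, hx⟩ : N))).exists_le_sylow
        haveI : Unique (Sylow s N) := Sylow.unique_of_normal R inferInstance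
        rw [Subsingleton.elim R Q]
        exact hQ (Subgroup.mem_zpowers _)
      exact (R.2.map N.subtype).le_sylow_of_normal P ⟨⟨x, hx⟩, hxR, rfl⟩
    · refine Subgroup.centralizer_le_normalizer _ ?_
      exact Subgroup.mem_centralizer_iff.2 fun g hg => hcen s hs hst x hx hxj g hg
  set PN := (P : Subgroup H) ⊔ N with hPN
  have hPNn : PN.Normal := by
    haveI := hQnil
    let Pq : Sylow t (H ⧸ N) := P.mapSurjective (QuotientGroup.mk'_surjective N)
    haveI : (Pq : Subgroup (H ⧸ N)).Normal :=
      Pq.normal_of_normalizerCondition Group.normalizerCondition_of_isNilpotent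
    have : PN = (Pq : Subgroup (H ⧸ N)).comap (QuotientGroup.mk' N) := by
      rw [Sylow.coe_mapSurjective, Subgroup.comap_map_eq, QuotientGroup.ker_mk']
    rw [this]
    infer_instance
  haveI := hPNn
  have hle : PN ≤ Subgroup.normalizer ((P : Subgroup H) : Set H) := sup_le Subgroup.le_normalizer hnorm
  let PS : Sylow t PN := P.subtype le_sup_left
  haveI : (PS : Subgroup PN).Normal := (Subgroup.normal_subgroupOf_iff_le_normalizer le_sup_left).2 hle
  haveI : (PS : Subgroup PN).Characteristic := PS.characteristic_of_normal inferInstance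
  have hmap : (PS : Subgroup PN).map PN.subtype = (P : Subgroup H) := by
    rw [Sylow.coe_subtype, Subgroup.map_subgroupOf_eq_of_le le_sup_left]
  rw [← hmap]
  exact ConjAct.normal_of_characteristic_of_normal

end CfsgLib.PQFpf
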