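import Mathlib.GroupTheory.PGroup
import Mathlib.GroupTheory.OrderOfElement
import Mathlib.Algebra.BigOperators.GroupWithZero.Finset
import Mathlib.Algebra.Group.End
import Mathlib.Algebra.BigOperators.Pi
import Mathlib.Algebra.Group.Hom.Basic
import Mathlib.Data.Fintype.BigOperators

/-!
Separation of homomorphisms invariant under different parts of a commutative coprime group of
automorphisms, and averaging over a Frobenius group of automorphisms.
-/

set_option autoImplicit false
set_option linter.style.haveILetI false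
set_option linter.unusedSectionVars false

namespace CfsgLib.PQFpf

variable {S : Type*} [Group S] [Finite S] {M : Type*} [CommGroup M]

theorem eq_one_of_pow_coprime (f : S →* M) {n : ℕ} (hn : (Nat.card S).Coprime n) (h : f ^ n = 1) : f = 1 := by
  refine MonoidHom.ext fun x => ?_
  have h1 : (f x) ^ n = 1 := DFunLike.congr_fun h x
  have h2 : (f x) ^ Nat.card S = 1 := by rw [← map_pow, pow_card_eq_one', map_one]
  have h3 := pow_gcd_eq_one.2 ⟨h2, h1⟩
  rw [hn.gcd_eq_one, pow_one] at h3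
  exact h3

theorem sep {ι : Type*} (Q : Subgroup (MulAut S)) (hQc : ∀ a ∈ Q, ∀ b ∈ Q, a * b = b * a)
    (hcop : (Nat.card S).Coprime (Nat.card Q))
    (hinv : ∀ g : S →* M, (∀ h ∈ Q, ∀ x, g (h x) = g x) → g = 1)
    (K₀ : Subgroup (MulAut S)) (K : ι → Subgroup (MulAut S)) (J : Finset ι)
    (hK₀ : K₀ ≤ Q) (hK : ∀ j ∈ J, K j ≤ Q) (hsup : ∀ j ∈ J, Q ≤ K₀ ⊔ K j) :
    ∀ (f₀ : S →* M) (f : ι → S →* M), (∀ h ∈ K₀, ∀ x, f₀ (h x) = f₀ x) →
      (∀ j ∈ J, ∀ h ∈ K j, ∀ x, f j (h x) = f j x) → f₀ * ∏ j ∈ J, f j = 1 → f₀ = 1 := by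
  classical
  induction J using Finset.induction_on with
  | empty => intro f₀ f _ _ h; simpa using h
  | @insert a J ha ih =>
    intro f₀ f hf₀ hf hprod
    haveI : Fintype (K a) := Fintype.ofFinite _
    have haQ := hK a (Finset.mem_insert_self a J)
    set n := Fintype.card (K a) with hn
    have hcn : (Nat.card S).Coprime n := hcop.coprime_dvd_right (by
      rw [hn, ← Nat.card_eq_fintype_card]; exact Subgroup.card_dvd_of_le haQ)
    let N : (S →* M) →* (S →* M) :=
      MonoidHom.mk' (fun g => ∏ h : K a, g.comp (h : MulAut S).toMonoidHom)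
        fun g g' => by simp only [← Finset.prod_mul_distrib]; rfl
    have hN : ∀ (g : S →* M) x, N g x = ∏ h : K a, g ((h : MulAut S) x) := fun g x => by
      simp [N, MonoidHom.finsetProd_apply]
    let Δ : (S →* M) →* (S →* M) := powMonoidHom n / N
    have hΔ : ∀ (g : S →* M) x, Δ g x = g x ^ n / ∏ h : K a, g ((h : MulAut S) x) := fun g x => by
      show (g ^ n / N g) x = _
      rw [MonoidHom.div_apply, hN]; rfl
    have hΔa : Δ (f a) = 1 := MonoidHom.ext fun x => by
      rw [hΔ, Finset.prod_congr rfl (fun (h : K a) _ => hf a (Finset.mem_insert_self a J) (h : MulAut S) h.2 x),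
        Finset.prod_const, Finset.card_univ, div_self', MonoidHom.one_apply]
    have hcomm : ∀ (h : K a) (g : MulAut S), g ∈ Q → ∀ x, (h : MulAut S) (g x) = g ((h : MulAut S) x) :=
      fun h g hg x => DFunLike.congr_fun (hQc _ (haQ h.2) g hg) x
    have hN0 : N f₀ = 1 := by
      refine hinv _ fun h hh x => ?_
      have hle : Q ≤ K₀ ⊔ K a := hsup a (Finset.mem_insert_self a J)
      let P : Subgroup (MulAut S) :=
        { carrier := {g | ∀ x, N f₀ (g x) = N f₀ x}
          one_mem' := fun x => rfl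
          mul_mem' := fun {g g'} hg hg' x => by rw [MulAut.mul_apply, hg, hg']
          inv_mem' := fun {g} hg x => by rw [← hg (g⁻¹ x), MulAut.apply_inv_self] }
      refine (show K₀ ⊔ K a ≤ P from sup_le ?_ ?_) (hle hh) x
      · intro g hg x
        rw [hN, hN]
        refine Finset.prod_congr rfl fun h _ => ?_
        rw [hcomm h g (hK₀ hg), hf₀ g hg]
      · intro g hg x
        rw [hN, hN]
        exact Fintype.prod_equiv (Equiv.mulRight ⟨g, hg⟩) _ _ fun h => rfl
    have hpres : ∀ (g : S →* M) (L : Subgroup (MulAut S)), L ≤ Q → (∀ h ∈ L, ∀ x, g (h x) = g x) →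
        ∀ h ∈ L, ∀ x, Δ g (h x) = Δ g x := fun g L hL hg h hh x => by
      rw [hΔ, hΔ, hg h hh]
      congr 1
      refine Finset.prod_congr rfl fun u _ => ?_
      rw [hcomm u h (hL hh), hg h hh]
    have hΔ0 : Δ f₀ = f₀ ^ n := by
      show f₀ ^ n / N f₀ = f₀ ^ n
      rw [hN0, div_one]
    refine eq_one_of_pow_coprime f₀ hcn (ih (fun j hj => hK j (Finset.mem_insert_of_mem hj))
      (fun j hj => hsup j (Finset.mem_insert_of_mem hj)) _ (fun j => Δ (f j)) (fun h hh x => ?_) (fun j hj => ?_) ?_)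
    · rw [← hΔ0]; exact hpres f₀ K₀ hK₀ hf₀ h hh x
    · exact hpres _ _ (hK j (Finset.mem_insert_of_mem hj)) (hf j (Finset.mem_insert_of_mem hj))
    · have := congrArg Δ hprod
      rwa [map_mul, map_prod, Finset.prod_insert ha, hΔa, one_mul, map_one, hΔ0] at this

/-- A commutative group acting on a commutative group together with a fixed-point-free operator of
prime order acting fixed-point-freely on it, acts trivially. -/
theorem frobenius_trivial {V : Type*} [CommGroup V] [Finite V] {Q : Type*} [Group Q] [Finite Q]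
    (hQc : ∀ a b : Q, a * b = b * a) (hcop : (Nat.card V).Coprime (Nat.card Q))
    (φ : Q →* MulAut V) (τ : MulAut V) (τQ : MulAut Q) {q : ℕ} (hq : q.Prime) (hτ : τ ^ q = 1)
    (hτQ : τQ ^ q = 1) (hcompat : ∀ h x, τ (φ h x) = φ (τQ h) (τ x))
    (hV : ∀ x, τ x = x → x = 1) (hQ : ∀ h, τQ h = h → h = 1) : ∀ h x, φ h x = x := by
  classical
  haveI : Fintype Q := Fintype.ofFinite Q
  haveI : NeZero q := ⟨hq.ne_zero⟩
  have hcn : ∀ (n : ℕ) h x, (τ ^ n) (φ h x) = φ ((τQ ^ n) h) ((τ ^ n) x) := fun n => by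
    induction n with
    | zero => intro h x; rfl
    | succ n ih => intro h x; simp only [pow_succ', MulAut.mul_apply]; rw [ih, hcompat]
  let P : V → V := fun y => ∏ g : Q, φ g y
  have hP : ∀ g y, φ g (P y) = P y := fun g y => by
    simp only [P, map_prod]
    exact Fintype.prod_equiv (Equiv.mulLeft g) _ _ fun u => by rw [Equiv.coe_mulLeft, map_mul]; rfl
  have hnorm : ∀ x, ∏ i : Fin q, (τ ^ (i : ℕ)) x = 1 := fun x => hV _ (by
    rw [map_prod]
    refine Fintype.prod_equiv (Equiv.addRight (1 : Fin q)) _ _ fun i => ?_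
    rw [Equiv.coe_addRight, Fin.val_add, Fin.val_one', ← MulAut.mul_apply, ← pow_succ',
      Nat.mod_eq_of_lt hq.one_lt, ← pow_eq_pow_mod _ hτ])
  have hbij : ∀ i : Fin q, i ≠ 0 → Function.Bijective fun h : Q => h * (τQ ^ (i : ℕ)) h⁻¹ := by
    intro i hi
    refine Finite.injective_iff_bijective.1 fun h h' he => ?_
    have hfix : (τQ ^ (i : ℕ)) (h⁻¹ * h') = h⁻¹ * h' := by
      letI : CommGroup Q := { (inferInstance : Group Q) with mul_comm := hQc }
      have h1 : h * (τQ ^ (i : ℕ)) h⁻¹ = h' * (τQ ^ (i : ℕ)) h'⁻¹ := he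
      rw [map_inv, map_inv, mul_inv_eq_iff_eq_mul, mul_right_comm, eq_mul_inv_iff_mul_eq] at h1
      rw [map_mul, map_inv, inv_mul_eq_iff_eq_mul, mul_left_comm, eq_inv_mul_iff_mul_eq, h1, mul_comm]
    have hco : (i : ℕ).Coprime q := (Nat.Prime.coprime_iff_not_dvd hq).2
      (fun hd => hi (Fin.ext (Nat.eq_zero_of_dvd_of_lt hd i.2))) |>.symm
    have h1 : τQ ^ Nat.gcd (i : ℕ) q ∈ MulAction.stabilizer (MulAut Q) (h⁻¹ * h') := by
      rw [← zpow_natCast, Nat.gcd_eq_gcd_ab, zpow_add, zpow_mul, zpow_mul, zpow_natCast, zpow_natCast, hτQ, one_zpow, mul_one]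
      exact Subgroup.zpow_mem _ hfix _
    rw [hco.gcd_eq_one, pow_one] at h1
    exact inv_mul_eq_one.1 (hQ _ h1)
  intro h x
  have hx : ∀ y, φ h (y ^ Fintype.card Q) = y ^ Fintype.card Q := by
    intro y
    have h1 : ∀ g : Q, ∏ i : Fin q, φ (g * (τQ ^ (i : ℕ)) g⁻¹) ((τ ^ (i : ℕ)) y) = 1 := fun g => by
      have h2 := congrArg (φ g) (hnorm (φ g⁻¹ y))
      rw [map_prod, map_one] at h2
      rw [← h2]
      refine Finset.prod_congr rfl fun i _ => ?_
      rw [hcn, map_mul]; rfl
    have h3 : ∏ i : Fin q, ∏ g : Q, φ (g * (τQ ^ (i : ℕ)) g⁻¹) ((τ ^ (i : ℕ)) y) = 1 := by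
      rw [Finset.prod_comm]; exact Finset.prod_eq_one fun g _ => h1 g
    rw [← Finset.mul_prod_erase _ _ (Finset.mem_univ (0 : Fin q)), mul_eq_one_iff_eq_inv] at h3
    simp only [Fin.val_zero, pow_zero, MulAut.one_apply, mul_inv_cancel, map_one, Finset.prod_const, Finset.card_univ] at h3
    rw [h3, map_inv, map_prod]
    congr 1
    refine Finset.prod_congr rfl fun i hi => ?_
    rw [Fintype.prod_bijective _ (hbij i (Finset.mem_erase.1 hi).1) _ (fun g => φ g ((τ ^ (i : ℕ)) y)) fun g => rfl]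
    exact hP h _
  obtain ⟨m, hm⟩ := exists_pow_eq_self_of_coprime (x := x) (n := Fintype.card Q)
    ((hcop.coprime_dvd_left (orderOf_dvd_natCard x)).symm.coprime_dvd_left (by rw [Nat.card_eq_fintype_card]))
  rw [← hm, map_pow, hx]

end CfsgLib.PQFpf
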