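import Cfsg.Agent.PQFpf.Setup

/-!
Homomorphisms invariant under the part of `Q` commuting with an element of order `q` modulo their
radical, whose translates by the powers of `σ` multiply to one, are trivial.
-/

set_option autoImplicit false
set_option linter.style.haveILetI false
set_option linter.unusedSectionVars false

namespace CfsgLib.PQFpf

variable {A : Type*} [Group A] [Fintype A] {k : Type*} [Field k] {W : Type*} [AddCommGroup W] [Module k W]
  {S : Type*} [Group S] [Finite S] [MulDistribMulAction A S]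

namespace Setup

variable (D : Setup A k W S)

theorem separated (hne : D.Q ≠ ⊥) {b : A} (hb : orderOf b = D.F.q) (K₀ : Subgroup (MulAut S)) (hK₀ : K₀ ≤ D.Q)
    (hgen0 : ∀ h ∈ D.Q, h⁻¹ * D.c b h ∈ K₀) (f : ℕ → S →* kˣ)
    (hf : ∀ j, ∀ h ∈ D.Q, D.c (D.F.σ ^ j) h ∈ K₀ → ∀ x, f j (h x) = f j x)
    (hprod : ∏ j ∈ Finset.range D.F.p, f j = 1) : f 0 = 1 := by
  classical
  have hp := D.F.hp
  let K : ℕ → Subgroup (MulAut S) := fun j => D.Q ⊓ K₀.comap (D.c (D.F.σ ^ j)).toMonoidHom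
  refine sep D.Q D.hQc D.cop_SQ (fun g hg => D.inv_hom_trivial hne g hg) K₀ K
    ((Finset.range D.F.p).erase 0) hK₀ (fun j _ => inf_le_left) ?_ (f 0) f ?_ ?_ ?_
  · intro j hj h hh
    obtain ⟨hj0, hjp⟩ : j ≠ 0 ∧ j < D.F.p := by simpa using hj
    set N := K₀ ⊔ K j
    letI : CommGroup D.Q :=
      { (inferInstance : Group D.Q) with mul_comm := fun u v => Subtype.ext (D.hQc u u.2 v v.2) }
    let Ah : Subgroup A :=
      { carrier := {a | ∀ g ∈ D.Q, g⁻¹ * D.c a g ∈ N}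
        one_mem' := fun g _ => by rw [D.c_one, inv_mul_cancel]; exact N.one_mem
        mul_mem' := fun {a a'} ha ha' g hg => by
          rw [D.c_mul, show g⁻¹ * D.c a (D.c a' g) = g⁻¹ * D.c a' g * ((D.c a' g)⁻¹ * D.c a (D.c a' g)) by group]
          exact N.mul_mem (ha' g hg) (ha _ (D.c_mem a' hg))
        inv_mem' := fun {a} ha g hg => by
          have h1 := ha _ (D.c_mem a⁻¹ hg)
          rw [← D.c_mul, mul_inv_cancel, D.c_one] at h1
          have h2 := N.inv_mem h1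
          rwa [mul_inv_rev, inv_inv] at h2 }
    have hbA : b ∈ Ah := fun g hg => Subgroup.mem_sup_left (hgen0 g hg)
    have hpow : D.F.σ ^ (D.F.p - j) = (D.F.σ ^ j)⁻¹ := by
      rw [eq_inv_iff_mul_eq_one, ← pow_add, Nat.sub_add_cancel hjp.le, D.F.σ_pow]
    have htA : D.F.σ ^ (D.F.p - j) * b * (D.F.σ ^ (D.F.p - j))⁻¹ ∈ Ah := fun g hg => by
      rw [hpow, inv_inv]
      refine Subgroup.mem_sup_right (Subgroup.mem_inf.2 ⟨D.Q.mul_mem (D.Q.inv_mem hg) (D.c_mem _ hg), ?_⟩)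
      show D.c (D.F.σ ^ j) (g⁻¹ * D.c ((D.F.σ ^ j)⁻¹ * b * D.F.σ ^ j) g) ∈ K₀
      rw [map_mul, map_inv, ← D.c_mul, show D.F.σ ^ j * ((D.F.σ ^ j)⁻¹ * b * D.F.σ ^ j) = b * D.F.σ ^ j by group, D.c_mul]
      exact hgen0 _ (D.c_mem _ hg)
    have hAh : Ah = ⊤ := D.F.eq_top_of_conj_mem hb
      (Nat.not_dvd_of_pos_of_lt (by omega) (Nat.sub_lt hp.pos (Nat.pos_of_ne_zero hj0))) hbA htA
    let P : D.Q := ∏ a : A, ⟨D.c a h, D.c_mem a hh⟩
    have hP : P = 1 := by
      refine Subtype.ext (D.hQfpf _ P.2 fun a => ?_)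
      show D.c a (P : MulAut S) = P
      let φ : D.Q →* D.Q := MonoidHom.mk' (fun u => ⟨D.c a u, D.c_mem a u.2⟩)
        fun u v => Subtype.ext (map_mul (D.c a) (u : MulAut S) v)
      show ((φ P : D.Q) : MulAut S) = P
      congr 1
      rw [map_prod]
      exact Fintype.prod_equiv (Equiv.mulLeft a) _ _ fun u => Subtype.ext (D.c_mul a u h).symm
    let N' : Subgroup D.Q := N.subgroupOf D.Q
    have hmem : ∏ a : A, ((⟨h, hh⟩ : D.Q)⁻¹ * ⟨D.c a h, D.c_mem a hh⟩) ∈ N' :=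
      N'.prod_mem fun a _ => (hAh.ge (Subgroup.mem_top a) : a ∈ Ah) h hh
    rw [Finset.prod_mul_distrib, Finset.prod_const, Finset.card_univ,
      show (∏ a : A, (⟨D.c a h, D.c_mem a hh⟩ : D.Q)) = 1 from hP, mul_one, inv_pow, inv_mem_iff] at hmem
    obtain ⟨m, hm⟩ := exists_pow_eq_self_of_coprime (x := (⟨h, hh⟩ : D.Q)) (n := Fintype.card A)
      (by rw [← Nat.card_eq_fintype_card]; exact (D.hQAcop.coprime_dvd_left (orderOf_dvd_natCard _)).symm)
    have h3 := N'.pow_mem hmem m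
    rw [hm] at h3
    exact h3
  · intro h hh x
    refine hf 0 h (hK₀ hh) ?_ x
    rw [pow_zero, D.c_one]; exact hh
  · intro j _ h hh x
    exact hf j h (Subgroup.mem_inf.1 hh).1 (Subgroup.mem_inf.1 hh).2 x
  · rw [Finset.mul_prod_erase _ f (Finset.mem_range.2 hp.pos)]
    exact hprod

end Setup

end CfsgLib.PQFpf
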