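import Cfsg.Agent.PQFpf.Acting
import Cfsg.Agent.PQFpf.Weights
import Cfsg.Agent.PQFpf.Sep
import Mathlib.GroupTheory.Nilpotent
import Mathlib.GroupTheory.PGroup
import Mathlib.GroupTheory.Subgroup.Center
import Mathlib.Algebra.Group.Action.End
import Mathlib.GroupTheory.Commutator.Basic

/-!
The minimal configuration: a commutative group of automorphisms of a group of prime power order,
both normalised by a group of order `p * q` without fixed points, and a faithful representation
without fixed vectors.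
-/

set_option autoImplicit false
set_option linter.style.haveILetI false
set_option linter.unusedSectionVars false

namespace CfsgLib.PQFpf

open scoped commutatorElement IsMulCommutative

/-- The minimal configuration. -/
structure Setup (A : Type*) [Group A] (k : Type*) [Field k] (W : Type*) [AddCommGroup W] [Module k W]
    (S : Type*) [Group S] [MulDistribMulAction A S] [Fintype A] where
  F : Acting A
  s : ℕ
  t : ℕ
  hs : s.Prime
  ht : t.Prime
  hst : s ≠ t
  hS : IsPGroup s S
  Q : Subgroup (MulAut S)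
  hQ : IsPGroup t Q
  hQc : ∀ a ∈ Q, ∀ b ∈ Q, a * b = b * a
  hQA : ∀ (a : A), ∀ h ∈ Q, MulDistribMulAction.toMulAut A S a * h * (MulDistribMulAction.toMulAut A S a)⁻¹ ∈ Q
  hQfpf : ∀ h ∈ Q, (∀ a : A, MulDistribMulAction.toMulAut A S a * h * (MulDistribMulAction.toMulAut A S a)⁻¹ = h) → h = 1
  hSfpf : ∀ x : S, (∀ a : A, a • x = x) → x = 1
  hSA : (Nat.card S).Coprime (Nat.card A)
  hQAcop : (Nat.card Q).Coprime (Nat.card A)
  hkA : (Nat.card A : k) ≠ 0
  hkS : (Nat.card S : k) ≠ 0
  π : S →* Module.End k W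
  πA : A →* Module.End k W
  compat : ∀ a x, πA a * π x = π (a • x) * πA a
  inj : Function.Injective π
  hsum : ∑ a, πA a = 0
  hmin : ∀ N : Subgroup S, N ≠ ⊤ → (∀ a : A, ∀ x ∈ N, a • x ∈ N) → (∀ h ∈ Q, ∀ x ∈ N, h x ∈ N) →
    ∀ h ∈ Q, ∀ x ∈ N, h x = x

variable {A : Type*} [Group A] [Fintype A] {k : Type*} [Field k] {W : Type*} [AddCommGroup W] [Module k W]
  {S : Type*} [Group S] [Finite S] [MulDistribMulAction A S]

namespace Setup

variable (D : Setup A k W S)

/-- Conjugation by an element of the acting group. -/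
def c (_D : Setup A k W S) (a : A) : MulAut (MulAut S) := MulAut.conj (MulDistribMulAction.toMulAut A S a)

theorem c_mem (a : A) {h : MulAut S} (hh : h ∈ D.Q) : D.c a h ∈ D.Q := D.hQA a h hh

theorem c_mul (a b : A) (h : MulAut S) : D.c (a * b) h = D.c a (D.c b h) := by
  show MulDistribMulAction.toMulAut A S (a * b) * h * (MulDistribMulAction.toMulAut A S (a * b))⁻¹ =
    MulDistribMulAction.toMulAut A S a * (MulDistribMulAction.toMulAut A S b * h *
      (MulDistribMulAction.toMulAut A S b)⁻¹) * (MulDistribMulAction.toMulAut A S a)⁻¹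
  rw [map_mul]
  group

theorem c_one (h : MulAut S) : D.c 1 h = h := by
  show MulDistribMulAction.toMulAut A S 1 * h * (MulDistribMulAction.toMulAut A S 1)⁻¹ = h
  rw [map_one]
  group

theorem c_apply (a : A) (h : MulAut S) (x : S) : D.c a h (a • x) = a • h x := by
  show a • (h ((MulDistribMulAction.toMulAut A S a)⁻¹ (a • x))) = a • h x
  rw [show (MulDistribMulAction.toMulAut A S a)⁻¹ (a • x) = x from inv_smul_smul a x]

theorem smul_apply (a : A) (h : MulAut S) (x : S) : a • h x = D.c a h (a • x) := (D.c_apply a h x).symm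

theorem cop_SQ : (Nat.card S).Coprime (Nat.card D.Q) := by
  haveI := Fact.mk D.hs
  haveI := Fact.mk D.ht
  obtain ⟨m, hm⟩ := D.hS.exists_card_eq
  obtain ⟨n, hn⟩ := D.hQ.exists_card_eq
  rw [hm, hn]
  exact Nat.Coprime.pow _ _ ((Nat.coprime_primes D.hs D.ht).2 D.hst)

theorem coe_pow_fix {N : ℕ} (hN : (Nat.card S).Coprime N) {x : S} (hx : x ^ N = 1) : x = 1 := by
  have h2 : x ^ Nat.card S = 1 := pow_card_eq_one'
  have h3 := pow_gcd_eq_one.2 ⟨h2, hx⟩
  rwa [hN.gcd_eq_one, pow_one] at h3

/-- An automorphism in `Q` moving every point by a point it fixes is trivial. -/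
theorem eq_of_fixed_diff {h : MulAut S} (hh : h ∈ D.Q) (hd : ∀ x, h (x⁻¹ * h x) = x⁻¹ * h x) (x : S) : h x = x := by
  have hn : ∀ n : ℕ, (h ^ n) x = x * (x⁻¹ * h x) ^ n := by
    intro n
    induction n with
    | zero => simp
    | succ n ih =>
      rw [pow_succ', MulAut.mul_apply, ih, map_mul, map_pow, hd, pow_succ', ← mul_assoc x, mul_inv_cancel_left]
  have h1 : h ^ Nat.card D.Q = 1 := congrArg Subtype.val (pow_card_eq_one' (x := (⟨h, hh⟩ : D.Q)))
  have h2 := hn (Nat.card D.Q)
  rw [h1, MulAut.one_apply] at h2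
  exact (inv_mul_eq_one.1 (coe_pow_fix D.cop_SQ (left_eq_mul.1 h2))).symm

/-- The subgroup generated by the moves. -/
theorem gen_eq_top (hne : D.Q ≠ ⊥) :
    Subgroup.closure {y : S | ∃ h ∈ D.Q, ∃ x, x⁻¹ * h x = y} = ⊤ := by
  set N := Subgroup.closure {y : S | ∃ h ∈ D.Q, ∃ x, x⁻¹ * h x = y}
  by_contra hN
  refine hne ((Subgroup.eq_bot_iff_forall _).2 fun h hh => ?_)
  have hfix := D.hmin N hN ?_ ?_
  · exact MulEquiv.ext fun x => D.eq_of_fixed_diff hh
      (fun y => hfix h hh _ (Subgroup.subset_closure ⟨h, hh, y, rfl⟩)) x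
  · intro a x hx
    induction hx using Subgroup.closure_induction with
    | mem y hy =>
      obtain ⟨g, hg, z, rfl⟩ := hy
      refine Subgroup.subset_closure ⟨D.c a g, D.c_mem a hg, a • z, ?_⟩
      rw [D.c_apply, smul_mul', smul_inv']
    | one => rw [smul_one]; exact N.one_mem
    | mul y z _ _ hy hz => rw [smul_mul']; exact N.mul_mem hy hz
    | inv y _ hy => rw [smul_inv']; exact N.inv_mem hy
  · intro g hg x hx
    induction hx using Subgroup.closure_induction with
    | mem y hy =>
      obtain ⟨g', hg', z, rfl⟩ := hy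
      refine Subgroup.subset_closure ⟨g', hg', g z, ?_⟩
      rw [map_mul, map_inv, ← MulAut.mul_apply, ← MulAut.mul_apply, D.hQc g hg g' hg']
    | one => rw [map_one]; exact N.one_mem
    | mul y z _ _ hy hz => rw [map_mul]; exact N.mul_mem hy hz
    | inv y _ hy => rw [map_inv]; exact N.inv_mem hy

theorem inv_hom_trivial (hne : D.Q ≠ ⊥) {M : Type*} [CommGroup M] (g : S →* M)
    (hg : ∀ h ∈ D.Q, ∀ x, g (h x) = g x) : g = 1 := by
  refine MonoidHom.ext fun x => ?_
  refine (Subgroup.closure_le (K := g.ker)).2 ?_ ((D.gen_eq_top hne).ge (Subgroup.mem_top x))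
  rintro _ ⟨h, hh, y, rfl⟩
  rw [SetLike.mem_coe, MonoidHom.mem_ker, map_mul, map_inv, hg h hh, inv_mul_cancel]

/-- A normal subgroup fixed by `Q` is central. -/
theorem central_of_fixed (hne : D.Q ≠ ⊥) {N : Subgroup S} [hN : N.Normal]
    (hfix : ∀ h ∈ D.Q, ∀ x ∈ N, h x = x) : N ≤ Subgroup.center S := by
  intro z hz
  rw [Subgroup.mem_center_iff]
  intro g
  have h := (Subgroup.closure_le (K := Subgroup.centralizer (N : Set S))).2 ?_ ((D.gen_eq_top hne).ge (Subgroup.mem_top g))
  · exact (Subgroup.mem_centralizer_iff.1 h z hz).symm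
  rintro _ ⟨h, hh, y, rfl⟩
  refine Subgroup.mem_centralizer_iff.2 fun x hx => ?_
  have h1 : y * x * y⁻¹ ∈ N := hN.conj_mem x hx y
  have h2 : h y * x * (h y)⁻¹ = y * x * y⁻¹ := by
    have h3 := hfix h hh _ h1
    rw [map_mul, map_mul, map_inv, hfix h hh x hx] at h3
    exact h3
  calc x * (y⁻¹ * h y) = y⁻¹ * (y * x * y⁻¹) * h y := by group
    _ = y⁻¹ * (h y * x * (h y)⁻¹) * h y := by rw [h2]
    _ = y⁻¹ * h y * x := by group

include D in
theorem isNilpotent : Group.IsNilpotent S := by
  haveI := Fact.mk D.hs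
  exact D.hS.isNilpotent

theorem center_fixed (hna : ¬ ∀ x y : S, x * y = y * x) : ∀ h ∈ D.Q, ∀ z ∈ Subgroup.center S, h z = z := by
  refine D.hmin _ (fun h => hna fun x y => Subgroup.mem_center_iff.1 (h.ge (Subgroup.mem_top y)) x) ?_ ?_
  · exact fun a x hx => (Subgroup.centerCharacteristic (G := S)).fixed (MulDistribMulAction.toMulAut A S a) |>.ge hx
  · exact fun h _ x hx => (Subgroup.centerCharacteristic (G := S)).fixed h |>.ge hx

theorem commutator_central (hne : D.Q ≠ ⊥) (x y : S) : ⁅x, y⁆ ∈ Subgroup.center S := by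
  rcases subsingleton_or_nontrivial S with h1 | h1
  · rw [Subsingleton.elim ⁅x, y⁆ 1]; exact Subgroup.one_mem _
  haveI := D.isNilpotent
  have hlt : commutator S ≠ ⊤ := (Group.IsSolvable.commutator_lt_top_of_nontrivial (G := S)).ne
  have hfix := D.hmin (commutator S) hlt
    (fun a z hz => (inferInstance : (commutator S).Characteristic).fixed (MulDistribMulAction.toMulAut A S a) |>.ge hz)
    (fun h _ z hz => (inferInstance : (commutator S).Characteristic).fixed h |>.ge hz)
  exact D.central_of_fixed hne hfix (Subgroup.commutator_mem_commutator (Subgroup.mem_top x) (Subgroup.mem_top y))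

theorem pow_central (hne : D.Q ≠ ⊥) (x : S) : x ^ D.s ∈ Subgroup.center S := by
  classical
  haveI := Fact.mk D.hs
  haveI := D.isNilpotent
  rcases subsingleton_or_nontrivial S with h1 | h1
  · rw [Subsingleton.elim (x ^ D.s) 1]; exact Subgroup.one_mem _
  let N : Subgroup S := (powMonoidHom D.s : Abelianization S →* Abelianization S).range.comap Abelianization.of
  haveI : N.Normal := inferInstance
  haveI : Finite (Abelianization S) := Quotient.finite _
  have hlt : N ≠ ⊤ := by
    intro he
    haveI : Nontrivial (Abelianization S) := by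
      by_contra h
      rw [not_nontrivial_iff_subsingleton] at h
      refine (Group.IsSolvable.commutator_lt_top_of_nontrivial (G := S)).ne (eq_top_iff.2 fun z _ => ?_)
      exact (QuotientGroup.eq_one_iff z).1 (Subsingleton.elim (α := Abelianization S) _ _)
    have hsurj : Function.Surjective (powMonoidHom D.s : Abelianization S →* Abelianization S) := by
      intro q
      induction q using QuotientGroup.induction_on with
      | _ z => exact he.ge (Subgroup.mem_top z)
    have hinj := Finite.injective_iff_surjective.2 hsurj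
    obtain ⟨n, hn0, hn⟩ := (IsPGroup.to_quotient D.hS (commutator S)).nontrivial_iff_card.1
      (inferInstanceAs (Nontrivial (Abelianization S)))
    obtain ⟨z, hz⟩ := exists_prime_orderOf_dvd_card' (G := Abelianization S) D.s
      (by rw [show Nat.card (Abelianization S) = D.s ^ n from hn]; exact dvd_pow_self _ hn0.ne')
    have : z = 1 := hinj (by show z ^ D.s = 1 ^ D.s; rw [one_pow, ← hz, pow_orderOf_eq_one])
    rw [this, orderOf_one] at hz
    exact D.hs.one_lt.ne hz
  have hinv : ∀ φ : MulAut S, ∀ z ∈ N, φ z ∈ N := by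
    rintro φ z ⟨w, hw⟩
    induction w using QuotientGroup.induction_on with
    | _ w =>
      refine ⟨Abelianization.of (φ w), ?_⟩
      have h := congrArg (Abelianization.map φ.toMonoidHom) hw
      show (Abelianization.of (φ w)) ^ D.s = Abelianization.of (φ z)
      exact (map_pow (Abelianization.map φ.toMonoidHom) (Abelianization.of w) D.s).symm.trans h
  have hfix := D.hmin N hlt (fun a => hinv (MulDistribMulAction.toMulAut A S a)) (fun h _ => hinv h)
  exact D.central_of_fixed hne hfix ⟨Abelianization.of x, (map_pow _ x D.s).symm⟩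

include D in
theorem orderOf_coprime (x : S) : (Nat.card A).Coprime (orderOf x) :=
  D.hSA.symm.coprime_dvd_right (orderOf_dvd_natCard x)

include D in
/-- A central homomorphism invariant under the whole acting group is trivial. -/
theorem eq_one_of_invariant (μ : Subgroup.center S →* kˣ)
    (hμ : ∀ (a : A) (z z' : Subgroup.center S), (z' : S) = a • (z : S) → μ z' = μ z) : μ = 1 := by
  classical
  refine MonoidHom.ext fun z => ?_
  have hmem : ∀ a : A, a • (z : S) ∈ Subgroup.center S := fun a =>
    (Subgroup.centerCharacteristic (G := S)).fixed (MulDistribMulAction.toMulAut A S a) |>.ge z.2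
  let P : Subgroup.center S := ∏ a : A, ⟨a • (z : S), hmem a⟩
  have hP : P = 1 := by
    refine Subtype.ext (D.hSfpf _ fun b => ?_)
    have hmemb : ∀ w : Subgroup.center S, b • (w : S) ∈ Subgroup.center S := fun w =>
      (Subgroup.centerCharacteristic (G := S)).fixed (MulDistribMulAction.toMulAut A S b) |>.ge w.2
    let φ : Subgroup.center S →* Subgroup.center S :=
      MonoidHom.mk' (fun w => ⟨b • (w : S), hmemb w⟩) fun u v => Subtype.ext (smul_mul' b (u : S) v)
    show ((φ P : Subgroup.center S) : S) = P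
    congr 1
    rw [map_prod]
    exact Fintype.prod_equiv (Equiv.mulLeft b) _ _ fun a => Subtype.ext (mul_smul b a (z : S)).symm
  have h1 := congrArg μ hP
  rw [map_prod, map_one, Finset.prod_congr rfl (fun a _ => hμ a z ⟨a • (z : S), hmem a⟩ rfl), Finset.prod_const,
    Finset.card_univ, ← map_pow] at h1
  have h2 : (Nat.card A).Coprime (orderOf z) := by
    rw [← Subgroup.orderOf_coe]; exact D.orderOf_coprime _
  obtain ⟨m, hm⟩ := exists_pow_eq_self_of_coprime (x := z) (n := Fintype.card A) (by rwa [← Nat.card_eq_fintype_card])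
  rw [MonoidHom.one_apply, ← hm, map_pow, h1, one_pow]

/-- The product over the translates by powers of `σ` is killed by a homomorphism fixed by an element of order `q`. -/
theorem prod_translates {b : A} (hb : orderOf b = D.F.q) (μ : Subgroup.center S →* kˣ)
    (hμ : ∀ (z z' : Subgroup.center S), (z' : S) = b • (z : S) → μ z' = μ z) (w : S) (hw : w ∈ Subgroup.center S)
    (hmem : ∀ j : ℕ, D.F.σ ^ j • w ∈ Subgroup.center S) :
    ∏ j ∈ Finset.range D.F.p, μ ⟨D.F.σ ^ j • w, hmem j⟩ = 1 := by
  classical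
  haveI : NeZero D.F.p := ⟨D.F.hp.ne_zero⟩
  haveI : NeZero D.F.q := ⟨D.F.hq.ne_zero⟩
  have hchar : ∀ (a : A), ∀ u ∈ Subgroup.center S, a • u ∈ Subgroup.center S := fun a u hu =>
    (Subgroup.centerCharacteristic (G := S)).fixed (MulDistribMulAction.toMulAut A S a) |>.ge hu
  let act : A → (Subgroup.center S →* Subgroup.center S) := fun a =>
    MonoidHom.mk' (fun u => ⟨a • (u : S), hchar a u u.2⟩) fun u v => Subtype.ext (smul_mul' a (u : S) v)
  have hact : ∀ a a' u, act a (act a' u) = act (a * a') u := fun a a' u => Subtype.ext (mul_smul a a' (u : S)).symm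
  let w' : Subgroup.center S := ⟨w, hw⟩
  let N : Subgroup.center S := ∏ j : Fin D.F.p, act (D.F.σ ^ (j : ℕ)) w'
  have hσN : act D.F.σ N = N := by
    rw [map_prod]
    refine Fintype.prod_equiv (Equiv.addRight (1 : Fin D.F.p)) _ _ fun i => ?_
    rw [hact, ← pow_succ', Equiv.coe_addRight, Fin.val_add, Fin.val_one', Nat.mod_eq_of_lt D.F.hp.one_lt,
      ← pow_eq_pow_mod _ D.F.σ_pow]
  let Fix : Subgroup.center S → Subgroup A := fun u =>
    { carrier := {a | act a u = u}
      one_mem' := Subtype.ext (one_smul A (u : S))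
      mul_mem' := fun {a a'} ha ha' => by
        simp only [Set.mem_ofPred_eq] at ha ha' ⊢; rw [← hact, ha', ha]
      inv_mem' := fun {a} ha => by
        simp only [Set.mem_ofPred_eq] at ha ⊢
        conv_lhs => rw [← ha, hact, inv_mul_cancel]
        exact Subtype.ext (one_smul A (u : S)) }
  have hzle : Subgroup.zpowers D.F.σ ≤ Fix N := Subgroup.zpowers_le.2 hσN
  let P : Subgroup.center S := ∏ i : Fin D.F.q, act (b ^ (i : ℕ)) N
  have hP : P = 1 := by
    have hσP : D.F.σ ∈ Fix P := by
      show act D.F.σ P = P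
      rw [map_prod]
      refine Finset.prod_congr rfl fun i _ => ?_
      have h1 : (b ^ (i : ℕ))⁻¹ * D.F.σ * b ^ (i : ℕ) ∈ Fix N := hzle (by
        have := D.F.conj_mem (b ^ (i : ℕ))⁻¹ (Subgroup.mem_zpowers D.F.σ)
        rwa [inv_inv] at this)
      rw [hact, show D.F.σ * b ^ (i : ℕ) = b ^ (i : ℕ) * ((b ^ (i : ℕ))⁻¹ * D.F.σ * b ^ (i : ℕ)) by group, ← hact]
      exact congrArg _ h1
    have hbP : b ∈ Fix P := by
      show act b P = P
      rw [map_prod]
      refine Fintype.prod_equiv (Equiv.addRight (1 : Fin D.F.q)) _ _ fun i => ?_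
      rw [hact, ← pow_succ', Equiv.coe_addRight, Fin.val_add, Fin.val_one', Nat.mod_eq_of_lt D.F.hq.one_lt,
        ← pow_eq_pow_mod _ (hb ▸ pow_orderOf_eq_one b)]
    have htop := D.F.eq_top_of_mem hσP hb hbP
    exact Subtype.ext (D.hSfpf _ fun a => congrArg Subtype.val (htop.ge (Subgroup.mem_top a) : act a P = P))
  have hinv : ∀ i : ℕ, ∀ u, μ (act (b ^ i) u) = μ u := fun i => by
    induction i with
    | zero =>
      intro u
      rw [pow_zero, show act 1 u = u from Subtype.ext (one_smul A (u : S))]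
    | succ i ih => intro u; rw [pow_succ', ← hact]; exact (hμ _ _ rfl).trans (ih u)
  have h1 := congrArg μ hP
  rw [map_prod, map_one, Finset.prod_congr rfl (fun i _ => hinv _ N), Finset.prod_const, Finset.card_univ,
    Fintype.card_fin, ← map_pow] at h1
  have hq : D.F.q ∣ Nat.card A := by rw [D.F.card]; exact Dvd.intro_left _ rfl
  obtain ⟨m, hm⟩ := exists_pow_eq_self_of_coprime (x := N) (n := D.F.q)
    (by rw [← Subgroup.orderOf_coe]; exact (D.orderOf_coprime _).coprime_dvd_left hq)
  have h2 : μ N = 1 := by rw [← hm, map_pow, h1, one_pow]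
  rw [map_prod] at h2
  rw [← Fin.prod_univ_eq_prod_range (fun j => μ ⟨D.F.σ ^ j • w, hmem j⟩)]
  exact h2

end Setup

end CfsgLib.PQFpf
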