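import Cfsg.Agent.PQFpf.Separated
import Cfsg.Agent.PQFpf.Local
import Cfsg.Agent.PQFpf.Pairing

/-!
In the non-commutative case the element of order `p` acts trivially modulo the centre.
-/

set_option autoImplicit false
set_option linter.style.haveILetI false
set_option linter.unusedSectionVars false
set_option maxHeartbeats 1000000

namespace CfsgLib.PQFpf

open scoped commutatorElement IsMulCommutative

variable {A : Type*} [Group A] [Fintype A] {k : Type*} [Field k] [IsAlgClosed k] {W : Type*} [AddCommGroup W]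
  [Module k W] [FiniteDimensional k W] {S : Type*} [Group S] [Finite S] [MulDistribMulAction A S]

/-- The action on the centre. -/
@[reducible] def centerAction (A : Type*) [Group A] (S : Type*) [Group S] [MulDistribMulAction A S] :
    MulDistribMulAction A (Subgroup.center S) where
  smul a z := ⟨a • (z : S),
    (Subgroup.centerCharacteristic (G := S)).fixed (MulDistribMulAction.toMulAut A S a) |>.ge z.2⟩
  one_smul z := Subtype.ext (one_smul A (z : S))
  mul_smul a b z := Subtype.ext (mul_smul a b (z : S))
  smul_one a := Subtype.ext (smul_one a)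
  smul_mul a u v := Subtype.ext (smul_mul' a (u : S) v)

namespace Setup

variable (D : Setup A k W S)

theorem sigma_central (hne : D.Q ≠ ⊥) (hna : ¬ ∀ x y : S, x * y = y * x) (x : S) :
    x⁻¹ * D.F.σ • x ∈ Subgroup.center S := by
  classical
  letI : MulDistribMulAction A (Subgroup.center S) := centerAction A S
  haveI := Fact.mk D.hs
  have hcc := D.commutator_central hne
  let ρZ : Subgroup.center S →* Module.End k W := D.π.comp (Subgroup.center S).subtype
  have hρcomm : ∀ u v, ρZ (u * v) = ρZ (v * u) := fun u v => by rw [mul_comm]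
  have hZk : (Nat.card (Subgroup.center S) : k) ≠ 0 := fun h0 => D.hkS (by
    obtain ⟨m, hm⟩ := (Subgroup.center S).card_subgroup_dvd_card
    rw [hm, Nat.cast_mul, h0, zero_mul])
  rw [Subgroup.mem_center_iff]
  intro y
  suffices h : (⟨⁅x⁻¹ * D.F.σ • x, y⁆, hcc _ _⟩ : Subgroup.center S) = 1 by
    exact (commutatorElement_eq_one_iff_mul_comm.1 (congrArg Subtype.val h)).symm
  refine Subtype.ext (D.inj ?_)
  rw [Subgroup.coe_one, map_one]
  refine eq_one_of_weights ρZ hρcomm hZk ⟨⁅x⁻¹ * D.F.σ • x, y⁆, hcc _ _⟩ fun μ v hv hv0 => ?_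
  -- the form of the weight
  have hbr : ∀ a b c : S, ⁅a * b, c⁆ = ⁅a, c⁆ * ⁅b, c⁆ := fun a b c => by
    have h := Subgroup.mem_center_iff.1 (hcc b c) a
    calc ⁅a * b, c⁆ = a * ⁅b, c⁆ * a⁻¹ * ⁅a, c⁆ := by simp only [commutatorElement_def]; group
      _ = ⁅b, c⁆ * ⁅a, c⁆ := by rw [h, mul_inv_cancel_right]
      _ = ⁅a, c⁆ * ⁅b, c⁆ := (Subgroup.mem_center_iff.1 (hcc b c) ⁅a, c⁆).symm
  have hbl : ∀ a b c : S, ⁅a, b * c⁆ = ⁅a, b⁆ * ⁅a, c⁆ := fun a b c => by
    have h := Subgroup.mem_center_iff.1 (hcc a c) b
    calc ⁅a, b * c⁆ = ⁅a, b⁆ * (b * ⁅a, c⁆ * b⁻¹) := by simp only [commutatorElement_def]; group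
      _ = ⁅a, b⁆ * ⁅a, c⁆ := by rw [h, mul_inv_cancel_right]
  let form : S →* (S →* kˣ) := MonoidHom.mk'
    (fun a => MonoidHom.mk' (fun b => μ ⟨⁅a, b⁆, hcc a b⟩) fun b c => by
      rw [← map_mul]; exact congrArg μ (Subtype.ext (hbl a b c)))
    fun a b => MonoidHom.ext fun c => by
      show μ _ = μ _ * μ _
      rw [← map_mul]; exact congrArg μ (Subtype.ext (hbr a b c))
  have hform : ∀ a b, form a b = μ ⟨⁅a, b⁆, hcc a b⟩ := fun a b => rfl
  have hflip : ∀ a b, form a b = (form b a)⁻¹ := fun a b => by
    rw [hform, hform, ← map_inv]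
    exact congrArg μ (Subtype.ext (commutatorElement_inv b a).symm)
  let R := form.ker
  have hRmem : ∀ a, a ∈ R ↔ ∀ b, form a b = 1 := fun a => by
    rw [MonoidHom.mem_ker, MonoidHom.ext_iff]; rfl
  have hRl : ∀ u ∈ R, ∀ b, form b u = 1 := fun u hu b => by rw [hflip, (hRmem u).1 hu, inv_one]
  suffices hgoal : x⁻¹ * D.F.σ • x ∈ R by exact (hRmem _).1 hgoal y
  have hzR : ∀ z ∈ Subgroup.center S, z ∈ R := fun z hz => (hRmem z).2 fun b => by
    rw [hform, ← map_one μ]
    exact congrArg μ (Subtype.ext (commutatorElement_eq_one_iff_mul_comm.2 (Subgroup.mem_center_iff.1 hz b).symm))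
  set Bst : Subgroup A := wstab μ with hBst
  have hαZ : ∀ a z, D.πA a * ρZ z = ρZ (a • z) * D.πA a := fun a z => D.compat a z
  have hB0 : Bst ≠ ⊥ := wstab_ne_bot hαZ D.hsum hZk D.hkA hv hv0
  rcases eq_or_ne Bst ⊤ with hBtop | hBtop
  · have hμ1 : μ = 1 := D.eq_one_of_invariant μ fun a z z' hz' => by
      rw [show z' = a • z from Subtype.ext hz']
      exact (hBtop.ge (Subgroup.mem_top a) : a ∈ Bst) z
    refine (hRmem _).2 fun b => ?_
    rw [hform, hμ1]; rfl
  -- a local step for a generator of the stabiliser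
  have step : ∀ (g : A) (ℓ : ℕ), ℓ.Prime → orderOf g = ℓ → Bst = Subgroup.zpowers g → ∀ (hgR : ∀ u ∈ R, g • u ∈ R),
      Nat.card (S ⧸ R) ≤ (ℓ - 1) ^ 2 *
        Nat.card {c : S ⧸ R // bar (MulDistribMulAction.toMulAut A S g) hgR c = c} ∧
      ((∀ a : S, a⁻¹ * g • a ∈ R) ∨ ∃ d, 0 < d ∧ D.s ^ d + 1 = ℓ) := by
    intro g ℓ hℓ hg hBg hgR
    have hgμ : ∀ z : Subgroup.center S, μ (g • z) = μ z := fun z =>
      (hBg.ge (Subgroup.mem_zpowers g) : g ∈ wstab μ) z
    have hgform : ∀ a b, form (g • a) (g • b) = form a b := fun a b => by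
      rw [hform, hform, ← hgμ ⟨⁅a, b⁆, hcc a b⟩]
      exact congrArg μ (Subtype.ext (map_commutatorElement (MulDistribMulAction.toMonoidHom S g) a b).symm)
    let W1 : Submodule k W :=
      { carrier := {w | IsWeight ρZ μ w}
        add_mem' := fun {a b} ha hb z => by rw [map_add, ha z, hb z, smul_add]
        zero_mem' := fun z => by rw [map_zero, smul_zero]
        smul_mem' := fun c a ha z => by rw [map_smul, ha z, smul_comm] }
    have hπW1 : ∀ a, ∀ w ∈ W1, D.π a w ∈ W1 := fun a w hw z => by
      show D.π (z : S) (D.π a w) = _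
      rw [← Module.End.mul_apply, ← map_mul, ← Subgroup.mem_center_iff.1 z.2 a, map_mul, Module.End.mul_apply]
      show D.π a (ρZ z w) = _
      rw [hw z, map_smul]
    have hGW1 : ∀ w ∈ W1, D.πA g w ∈ W1 := fun w hw z => by
      have h := LinearMap.congr_fun (hαZ g (g⁻¹ • z)) w
      rw [smul_inv_smul, Module.End.mul_apply, Module.End.mul_apply, hw, map_smul, ← hgμ (g⁻¹ • z), smul_inv_smul] at h
      exact h.symm
    have hfix0 : ∀ w ∈ W1, D.πA g w = w → w = 0 := fun w hw hgw => by
      refine eq_zero_of_fixed hαZ D.hsum hZk D.hkA hw fun a ha => ?_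
      let P : Subgroup A :=
        { carrier := {a | D.πA a w = w}
          one_mem' := by simp
          mul_mem' := fun {a b} ha hb => by
            simp only [Set.mem_ofPred_eq] at ha hb ⊢; rw [map_mul, Module.End.mul_apply, hb, ha]
          inv_mem' := fun {a} ha => by
            simp only [Set.mem_ofPred_eq] at ha ⊢
            conv_lhs => rw [← ha, ← Module.End.mul_apply, ← map_mul, inv_mul_cancel, map_one, Module.End.one_apply] }
      rw [← hBst, hBg] at ha
      exact (Subgroup.zpowers_le.2 (show g ∈ P from hgw)) ha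
    have hgℓ : g ^ ℓ = 1 := hg ▸ pow_orderOf_eq_one g
    haveI : NeZero ℓ := ⟨hℓ.ne_zero⟩
    have hsum0 : ∀ w ∈ W1, ∑ i : Fin ℓ, D.πA (g ^ (i : ℕ)) w = 0 := fun w hw => by
      refine hfix0 _ (W1.sum_mem fun i _ => ?_) ?_
      · induction (i : ℕ) with
        | zero => rwa [pow_zero, map_one]
        | succ n ih => rw [pow_succ', map_mul, Module.End.mul_apply]; exact hGW1 _ ih
      · rw [map_sum]
        refine Fintype.sum_equiv (Equiv.addRight (1 : Fin ℓ)) _ _ fun i => ?_
        rw [← Module.End.mul_apply, ← map_mul, ← pow_succ', Equiv.coe_addRight, Fin.val_add, Fin.val_one',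
          Nat.mod_eq_of_lt hℓ.one_lt, ← pow_eq_pow_mod _ hgℓ]
    -- weights of the radical
    let ρR : R →* Module.End k W1 :=
      { toFun := fun u => (D.π (u : S)).restrict (hπW1 u)
        map_one' := LinearMap.ext fun w => Subtype.ext (by
          show D.π ((1 : R) : S) (w : W) = w
          rw [Subgroup.coe_one, map_one]; rfl)
        map_mul' := fun a b => LinearMap.ext fun w => Subtype.ext (by
          show D.π ((a * b : R) : S) (w : W) = D.π (a : S) (D.π (b : S) w)
          rw [Subgroup.coe_mul, map_mul]; rfl) }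
    have hRcomm : ∀ a b : R, ρR (a * b) = ρR (b * a) := fun a b => LinearMap.ext fun w => Subtype.ext (by
      show D.π ((a : S) * b) (w : W) = D.π ((b : S) * a) w
      rw [show (a : S) * b = ⁅(a : S), (b : S)⁆ * ((b : S) * a) by simp only [commutatorElement_def]; group, map_mul,
        Module.End.mul_apply]
      rw [show D.π ⁅(a : S), (b : S)⁆ (D.π ((b : S) * a) w) = _ from hπW1 _ _ w.2 ⟨_, hcc a b⟩, ← hform,
        (hRmem _).1 a.2, Units.val_one, one_smul])
    let act : MulDistribMulAction (Subgroup.zpowers g) R :=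
      { smul := fun a u => ⟨(a : A) • (u : S), by
          obtain ⟨n, hn⟩ := (Submonoid.mem_powers_iff _ _).1 (mem_powers_iff_mem_zpowers.2 a.2)
          rw [← hn]
          clear hn
          induction n with
          | zero => rw [pow_zero, one_smul]; exact u.2
          | succ n ih => rw [pow_succ', mul_smul]; exact hgR _ ih⟩
        one_smul := fun u => Subtype.ext (one_smul A (u : S))
        mul_smul := fun a b u => Subtype.ext (mul_smul (a : A) (b : A) (u : S))
        smul_one := fun a => Subtype.ext (smul_one (a : A))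
        smul_mul := fun a u u' => Subtype.ext (smul_mul' (a : A) (u : S) u') }
    letI := act
    have hGW1' : ∀ a ∈ Subgroup.zpowers g, ∀ w ∈ W1, D.πA a w ∈ W1 := fun a ha w hw => by
      obtain ⟨n, rfl⟩ := (Submonoid.mem_powers_iff _ _).1 (mem_powers_iff_mem_zpowers.2 ha)
      induction n with
      | zero => rwa [pow_zero, map_one]
      | succ n ih => rw [pow_succ', map_mul, Module.End.mul_apply]; exact hGW1 _ (ih (Subgroup.npow_mem_zpowers g n))
    let α1 : Subgroup.zpowers g →* Module.End k W1 :=
      { toFun := fun a => (D.πA (a : A)).restrict (hGW1' a a.2)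
        map_one' := LinearMap.ext fun w => Subtype.ext (by
          show D.πA ((1 : Subgroup.zpowers g) : A) (w : W) = w
          rw [Subgroup.coe_one, map_one]; rfl)
        map_mul' := fun a b => LinearMap.ext fun w => Subtype.ext (by
          show D.πA ((a * b : Subgroup.zpowers g) : A) (w : W) = D.πA (a : A) (D.πA (b : A) w)
          rw [Subgroup.coe_mul, map_mul]; rfl) }
    haveI : Fintype (Subgroup.zpowers g) := Fintype.ofFinite _
    have hcardB : (Nat.card (Subgroup.zpowers g) : k) ≠ 0 := fun h0 => D.hkA (by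
      obtain ⟨m, hm⟩ := (Subgroup.zpowers g).card_subgroup_dvd_card
      rw [hm, Nat.cast_mul, h0, zero_mul])
    have hcompR : ∀ a u, α1 a * ρR u = ρR (a • u) * α1 a := fun a u => LinearMap.ext fun w =>
      Subtype.ext (LinearMap.congr_fun (D.compat (a : A) (u : S)) (w : W))
    have hsum1 : ∑ a, α1 a = 0 := LinearMap.ext fun w => Subtype.ext (by
      rw [LinearMap.sum_apply, Submodule.coe_sum]
      refine hfix0 _ (W1.sum_mem fun a _ => (α1 a w).2) ?_
      rw [map_sum]
      refine Fintype.sum_equiv (Equiv.mulLeft (⟨g, Subgroup.mem_zpowers g⟩ : Subgroup.zpowers g)) _ _ fun a => ?_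
      show D.πA g (D.πA (a : A) w) = D.πA (g * (a : A)) w
      rw [map_mul]; rfl)
    haveI : Nontrivial W1 := ⟨⟨⟨v, hv⟩, 0, fun h => hv0 (congrArg Subtype.val h)⟩⟩
    have hRk : (Nat.card R : k) ≠ 0 := fun h0 => D.hkS (by
      obtain ⟨m, hm⟩ := R.card_subgroup_dvd_card
      rw [hm, Nat.cast_mul, h0, zero_mul])
    obtain ⟨ν, v1, hv1, hv10⟩ := exists_weight ρR hRcomm hRk
    have hνg : ∀ u : R, ν ((⟨g, Subgroup.mem_zpowers g⟩ : Subgroup.zpowers g) • u) = ν u := by
      have h0 := wstab_ne_bot hcompR hsum1 hRk hcardB hv1 hv10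
      haveI : Fact (Nat.card (Subgroup.zpowers g)).Prime := ⟨by rw [Nat.card_zpowers, hg]; exact hℓ⟩
      have htop := ((wstab ν : Subgroup (Subgroup.zpowers g)).eq_bot_or_eq_top_of_prime_card).resolve_left h0
      exact htop.ge (Subgroup.mem_top _)
    let W2 : Submodule k W :=
      { carrier := {w | IsWeight ρZ μ w ∧ ∀ u : R, D.π (u : S) w = ((ν u : kˣ) : k) • w}
        add_mem' := fun {a b} ha hb => ⟨fun z => by rw [map_add, ha.1 z, hb.1 z, smul_add],
          fun u => by rw [map_add, ha.2 u, hb.2 u, smul_add]⟩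
        zero_mem' := ⟨fun z => by rw [map_zero, smul_zero], fun u => by rw [map_zero, smul_zero]⟩
        smul_mem' := fun c a ha => ⟨fun z => by rw [map_smul, ha.1 z, smul_comm],
          fun u => by rw [map_smul, ha.2 u, smul_comm]⟩ }
    have hπW2 : ∀ a, ∀ w ∈ W2, D.π a w ∈ W2 := fun a w hw => ⟨hπW1 a w hw.1, fun u => by
      rw [← Module.End.mul_apply, ← map_mul, show (u : S) * a = ⁅(u : S), a⁆ * (a * u) by
        simp only [commutatorElement_def]; group, map_mul, map_mul, Module.End.mul_apply, Module.End.mul_apply, hw.2 u,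
        map_smul, map_smul, show D.π ⁅(u : S), a⁆ (D.π a w) = _ from hπW1 a w hw.1 ⟨_, hcc u a⟩, ← hform,
        (hRmem _).1 u.2, Units.val_one, one_smul]⟩
    have hGW2 : ∀ w ∈ W2, D.πA g w ∈ W2 := fun w hw => ⟨hGW1 w hw.1, fun u => by
      obtain ⟨u', rfl⟩ := (MulAction.surjective (⟨g, Subgroup.mem_zpowers g⟩ : Subgroup.zpowers g)) u
      have h := LinearMap.congr_fun (D.compat g (u' : S)) w
      rw [Module.End.mul_apply, Module.End.mul_apply, hw.2 u', map_smul] at h
      rw [hνg u']
      exact h.symm⟩
    haveI : Nontrivial W2 := ⟨⟨⟨(v1 : W), v1.2, fun u => congrArg Subtype.val (hv1 u)⟩, 0,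
      fun h => hv10 (Subtype.ext (congrArg Subtype.val h :))⟩⟩
    let π2 : S →* Module.End k W2 :=
      { toFun := fun a => (D.π a).restrict (hπW2 a)
        map_one' := LinearMap.ext fun w => Subtype.ext (by
          show D.π 1 (w : W) = w
          rw [map_one]; rfl)
        map_mul' := fun a b => LinearMap.ext fun w => Subtype.ext (by
          show D.π (a * b) (w : W) = D.π a (D.π b w)
          rw [map_mul]; rfl) }
    let G : FormRep π2 R :=
      { χ := form
        scalar := fun u hu => ⟨((ν ⟨u, hu⟩ : kˣ) : k), LinearMap.ext fun w => Subtype.ext (w.2.2 ⟨u, hu⟩)⟩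
        rel := fun a b => LinearMap.ext fun w => Subtype.ext (by
          show D.π a (D.π b w) = ((form a b : kˣ) : k) • D.π b (D.π a w)
          rw [← Module.End.mul_apply, ← map_mul, show a * b = ⁅a, b⁆ * (b * a) by
            simp only [commutatorElement_def]; group, map_mul, Module.End.mul_apply, map_mul, Module.End.mul_apply]
          exact hπW1 b _ (hπW1 a _ w.2.1) ⟨_, hcc a b⟩)
        left_rad := fun u hu b => (hRmem u).1 hu b
        right_rad := fun a ha => (hRmem a).2 fun b => by rw [hflip, ha b, inv_one]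
        rad_right := hRl }
    have hBpow : ∀ (n : ℕ) (w : W2), ((((D.πA g).restrict hGW2) ^ n) w : W) = D.πA (g ^ n) w := fun n => by
      induction n with
      | zero => intro w; rw [pow_zero, pow_zero, map_one]; rfl
      | succ n ih =>
        intro w
        rw [pow_succ', pow_succ', map_mul, Module.End.mul_apply, Module.End.mul_apply, ← ih w]
        rfl
    refine dichotomy D.hS G D.hkS (MulDistribMulAction.toMulAut A S g) hℓ ?_ ?_ ?_ hgR hgform
      ((D.πA g).restrict hGW2) (LinearMap.ext fun w => Subtype.ext ?_)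
      (fun a => LinearMap.ext fun w => Subtype.ext (LinearMap.congr_fun (D.compat g a) (w : W)))
      (LinearMap.ext fun w => Subtype.ext ?_)
    · intro hls
      haveI : Nontrivial S := by
        by_contra h
        rw [not_nontrivial_iff_subsingleton] at h
        exact hna fun a b => Subsingleton.elim _ _
      obtain ⟨n, hn0, hn⟩ := D.hS.nontrivial_iff_card.1 inferInstance
      refine hℓ.ne_one (Nat.eq_one_of_dvd_coprimes D.hSA ?_ (hg ▸ orderOf_dvd_natCard g))
      rw [hn, hls]
      exact dvd_pow_self _ hn0.ne'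
    · intro h0
      refine D.hkA ?_
      obtain ⟨m, hm⟩ : ℓ ∣ Nat.card A := hg ▸ orderOf_dvd_natCard g
      rw [hm, Nat.cast_mul, h0, zero_mul]
    · rw [← map_pow, hgℓ, map_one]
    · rw [hBpow, hgℓ, map_one]; rfl
    · rw [LinearMap.sum_apply, Submodule.coe_sum]
      simp only [hBpow]
      exact hsum0 _ w.2.1
  -- invariance of the radical
  have hgR : ∀ g ∈ Bst, ∀ u ∈ R, g • u ∈ R := fun g hg u hu => (hRmem _).2 fun b => by
    have h := (hRmem u).1 hu (g⁻¹ • b)
    rw [hform] at h
    rw [hform, ← h, ← hg ⟨⁅u, g⁻¹ • b⁆, hcc _ _⟩]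
    refine congrArg μ (Subtype.ext ?_)
    show ⁅g • u, b⁆ = g • ⁅u, g⁻¹ • b⁆
    rw [show g • ⁅u, g⁻¹ • b⁆ = ⁅g • u, g • g⁻¹ • b⁆ from
      map_commutatorElement (MulDistribMulAction.toMonoidHom S g) _ _, smul_inv_smul]
  rcases D.F.stab_cases hB0 with hσ | ⟨b, hbB, hb⟩
  · have hB : Bst = Subgroup.zpowers D.F.σ := by
      refine (Subgroup.eq_of_le_of_card_ge (Subgroup.zpowers_le.2 hσ) ?_).symm
      by_contra hc
      push Not at hc
      obtain ⟨m, hm⟩ : Nat.card (Subgroup.zpowers D.F.σ) ∣ Nat.card Bst :=
        Subgroup.card_dvd_of_le (Subgroup.zpowers_le.2 hσ)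
      have h := Bst.card_subgroup_dvd_card
      rw [Nat.card_zpowers, D.F.hσ] at hc hm
      rw [hm, D.F.card, Nat.mul_dvd_mul_iff_left D.F.hp.pos] at h
      rcases (Nat.dvd_prime D.F.hq).1 h with h1 | h1
      · rw [hm, h1, mul_one] at hc; exact lt_irrefl _ hc
      · exact hBtop (Subgroup.eq_top_of_card_eq _ (by rw [hm, h1, D.F.card]))
    rcases (step D.F.σ D.F.p D.F.hp D.F.hσ hB (hgR _ hσ)).2 with h | ⟨d, hd, hdp⟩
    · exact h x
    · exfalso
      have h1 := D.F.q_dvd
      rw [← hdp, Nat.add_sub_cancel] at h1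
      have hqs := (Nat.prime_dvd_prime_iff_eq D.F.hq D.hs).1 (D.F.hq.dvd_of_dvd_pow h1)
      haveI : Nontrivial S := by
        by_contra h
        rw [not_nontrivial_iff_subsingleton] at h
        exact hna fun a b => Subsingleton.elim _ _
      obtain ⟨n, hn0, hn⟩ := D.hS.nontrivial_iff_card.1 inferInstance
      refine D.F.hq.ne_one (Nat.eq_one_of_dvd_coprimes D.hSA ?_ ?_)
      · rw [hn, ← hqs]; exact dvd_pow_self _ hn0.ne'
      · rw [D.F.card]; exact Dvd.intro_left _ rfl
  · -- the stabiliser has order `q`: the form vanishes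
    have hB := D.F.eq_zpowers hb hbB hBtop
    obtain ⟨hbound, hdich⟩ := step b D.F.q D.F.hq hb hB (hgR b hbB)
    have hQR : ∀ h ∈ D.Q, ∀ u ∈ R, h u ∈ R := fun h hh u hu => (hRmem _).2 fun c => by
      obtain ⟨c', rfl⟩ := h.surjective c
      rw [hform, ← (hRmem u).1 hu c', hform]
      refine congrArg μ (Subtype.ext ?_)
      show ⁅h u, h c'⁆ = ⁅u, c'⁆
      exact (map_commutatorElement h.toMonoidHom u c').symm.trans (D.center_fixed hna h hh _ (hcc u c'))
    let K₀ : Subgroup (MulAut S) :=
      { carrier := {h | h ∈ D.Q ∧ ∀ a : S, ((h a : S) : S ⧸ R) = (a : S ⧸ R)}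
        one_mem' := ⟨D.Q.one_mem, fun a => rfl⟩
        mul_mem' := fun {g g'} hg hg' => ⟨D.Q.mul_mem hg.1 hg'.1, fun a => by rw [MulAut.mul_apply, hg.2, hg'.2]⟩
        inv_mem' := fun {g} hg => ⟨D.Q.inv_mem hg.1, fun a => by rw [← hg.2 (g⁻¹ a), MulAut.apply_inv_self]⟩ }
    have hgen0 : ∀ h ∈ D.Q, h⁻¹ * D.c b h ∈ K₀ := by
      intro h hh
      refine ⟨D.Q.mul_mem (D.Q.inv_mem hh) (D.c_mem b hh), ?_⟩
      have hbar : ∀ g ∈ D.Q, ∀ a a' : S, (a : S ⧸ R) = a' → ((g a : S) : S ⧸ R) = (g a' : S) :=
        fun g hg a a' he => QuotientGroup.eq.2 (by rw [← map_inv, ← map_mul]; exact hQR g hg _ (QuotientGroup.eq.1 he))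
      suffices hsame : ∀ a : S, ((D.c b h a : S) : S ⧸ R) = ((h a : S) : S ⧸ R) by
        intro a
        rw [MulAut.mul_apply, hbar _ (D.Q.inv_mem hh) _ _ (hsame a), MulAut.inv_apply_self]
      rcases hdich with htriv | ⟨d, hd, hdq⟩
      · intro a
        obtain ⟨a', rfl⟩ : ∃ a', b • a' = a := ⟨b⁻¹ • a, smul_inv_smul b a⟩
        have e : ∀ c : S, ((b • c : S) : S ⧸ R) = (c : S ⧸ R) := fun c => (QuotientGroup.eq.2 (htriv c)).symm
        rw [D.c_apply, e, hbar h hh _ _ (e a')]
      · -- the exceptional case
        have hq2 : D.F.q ≠ 2 := by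
          intro h2
          rw [h2] at hdq
          have := Nat.one_lt_pow hd.ne' D.hs.one_lt
          omega
        have hs2 : D.s = 2 := by
          rcases D.hs.eq_two_or_odd' with h2 | h2
          · exact h2
          · exfalso
            obtain ⟨m, hm⟩ := h2.pow (n := d)
            obtain ⟨m', hm'⟩ := D.F.hq.odd_of_ne_two hq2
            omega
        have hEc : ∀ u v : S ⧸ R, u * v = v * u := by
          intro u v
          induction u using QuotientGroup.induction_on with
          | _ u =>
            induction v using QuotientGroup.induction_on with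
            | _ v =>
              rw [← QuotientGroup.mk_mul, ← QuotientGroup.mk_mul, QuotientGroup.eq]
              refine hzR _ ?_
              rw [show (u * v)⁻¹ * (v * u) = ⁅v⁻¹, u⁻¹⁆ by simp only [commutatorElement_def]; group]
              exact hcc _ _
        letI : CommGroup (S ⧸ R) := { (inferInstance : Group (S ⧸ R)) with mul_comm := hEc }
        letI : CommGroup D.Q :=
          { (inferInstance : Group D.Q) with mul_comm := fun u v => Subtype.ext (D.hQc u u.2 v v.2) }
        let χ : S ⧸ R →* (S ⧸ R →* kˣ) := QuotientGroup.lift R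
          (MonoidHom.mk' (fun a => QuotientGroup.lift R (form a) fun u hu => MonoidHom.mem_ker.2 (hRl u hu a))
            fun a a' => MonoidHom.ext fun e => by
              induction e using QuotientGroup.induction_on with
              | _ e => exact DFunLike.congr_fun (map_mul form a a') e)
          (fun u hu => MonoidHom.mem_ker.2 (MonoidHom.ext fun e => by
            induction e using QuotientGroup.induction_on with
            | _ e => exact (hRmem u).1 hu e))
        let φ : D.Q →* MulAut (S ⧸ R) := MonoidHom.mk' (fun g => bar (g : MulAut S) (hQR g g.2))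
          fun g g' => MulEquiv.ext fun e => by
            induction e using QuotientGroup.induction_on with
            | _ e => rfl
        let τQ : MulAut D.Q :=
          { toFun := fun g => ⟨D.c b g, D.c_mem b g.2⟩
            invFun := fun g => ⟨D.c b⁻¹ g, D.c_mem _ g.2⟩
            left_inv := fun g => Subtype.ext (by
              show D.c b⁻¹ (D.c b (g : MulAut S)) = g
              rw [← D.c_mul, inv_mul_cancel, D.c_one])
            right_inv := fun g => Subtype.ext (by
              show D.c b (D.c b⁻¹ (g : MulAut S)) = g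
              rw [← D.c_mul, mul_inv_cancel, D.c_one])
            map_mul' := fun g g' => Subtype.ext (map_mul (D.c b) (g : MulAut S) g') }
        have hτn : ∀ (n : ℕ) (g : D.Q), (((τQ ^ n) g : D.Q) : MulAut S) = D.c (b ^ n) g := fun n => by
          induction n with
          | zero => intro g; rw [pow_zero, pow_zero, D.c_one]; rfl
          | succ n ih => intro g; rw [pow_succ', pow_succ', D.c_mul, ← ih]; rfl
        have hodd : Odd (Nat.card D.Q) := by
          haveI := Fact.mk D.ht
          obtain ⟨n, hn⟩ := D.hQ.exists_card_eq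
          rw [hn]
          exact (D.ht.odd_of_ne_two fun h2 => D.hst (hs2.trans h2.symm)).pow
        intro a
        have key := pairing_trivial (k := k) (E := S ⧸ R) (Q := D.Q)
          (fun h2 => by
            refine D.hkS ?_
            obtain ⟨n, hn⟩ := D.hS.exists_card_eq
            rcases n with _ | n
            · rw [pow_zero] at hn
              exact absurd (fun a b => (Nat.card_eq_one_iff_unique.1 hn).1.elim _ _) hna
            · rw [hn, hs2, Nat.cast_pow, Nat.cast_two, h2, zero_pow n.succ_ne_zero])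
          (fun e => by
            induction e using QuotientGroup.induction_on with
            | _ e =>
              rw [← QuotientGroup.mk_pow, QuotientGroup.eq_one_iff, ← hs2]
              exact hzR _ (D.pow_central hne e))
          χ
          (fun e he => by
            induction e using QuotientGroup.induction_on with
            | _ e => exact (QuotientGroup.eq_one_iff e).2 ((hRmem e).2 fun c => he (c : S ⧸ R)))
          (fun e he => by
            induction e using QuotientGroup.induction_on with
            | _ e =>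
              refine (QuotientGroup.eq_one_iff e).2 ((hRmem e).2 fun c => ?_)
              rw [hflip, show form c e = 1 from he (c : S ⧸ R), inv_one])
          φ
          (fun g e e' => by
            induction e using QuotientGroup.induction_on with
            | _ e =>
              induction e' using QuotientGroup.induction_on with
              | _ e' =>
                show form ((g : MulAut S) e) ((g : MulAut S) e') = form e e'
                rw [hform, hform]
                refine congrArg μ (Subtype.ext ?_)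
                exact (map_commutatorElement (g : MulAut S).toMonoidHom e e').symm.trans
                  (D.center_fixed hna _ g.2 _ (hcc e e')))
          hodd (bar (MulDistribMulAction.toMulAut A S b) (hgR b hbB)) τQ D.F.hq hq2
          (MulEquiv.ext fun g => Subtype.ext (by
            rw [hτn, ← hb, pow_orderOf_eq_one, D.c_one]; rfl))
          (fun g e => by
            induction e using QuotientGroup.induction_on with
            | _ e => exact congrArg (QuotientGroup.mk (s := R)) (D.smul_apply b (g : MulAut S) e))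
          hbound ⟨h, hh⟩ (a : S ⧸ R)
        exact key
    have hf : ∀ z c : S, form z c = 1 := by
      intro z c
      let f : ℕ → S →* kˣ := fun j =>
        (form.flip (D.F.σ ^ j • c)).comp (MulDistribMulAction.toMonoidHom S (D.F.σ ^ j))
      have hmemj : ∀ j : ℕ, ∀ a, D.F.σ ^ j • ⁅a, c⁆ ∈ Subgroup.center S := fun j a =>
        (Subgroup.centerCharacteristic (G := S)).fixed (MulDistribMulAction.toMulAut A S (D.F.σ ^ j)) |>.ge (hcc a c)
      have h0 := D.separated hne hb K₀ (fun g hg => hg.1) hgen0 f (fun j g hg hgK a => ?_) (MonoidHom.ext fun a => ?_)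
      · have h1 := DFunLike.congr_fun h0 z
        simp only [f, pow_zero, MonoidHom.comp_apply, MonoidHom.flip_apply, MonoidHom.one_apply] at h1
        rw [show (MulDistribMulAction.toMonoidHom S (1 : A)) z = z from one_smul A z, one_smul] at h1
        exact h1
      · show form (D.F.σ ^ j • g a) _ = form (D.F.σ ^ j • a) _
        rw [D.smul_apply, ← MonoidHom.flip_apply, ← MonoidHom.flip_apply]
        have h1 := hgK.2 (D.F.σ ^ j • a)
        have hker : ((D.F.σ ^ j • a)⁻¹ * D.c (D.F.σ ^ j) g (D.F.σ ^ j • a)) ∈ R := QuotientGroup.eq.1 h1.symm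
        have h2 : (form.flip (D.F.σ ^ j • c)) ((D.F.σ ^ j • a)⁻¹ * D.c (D.F.σ ^ j) g (D.F.σ ^ j • a)) = 1 :=
          (hRmem _).1 hker _
        rw [map_mul, map_inv, inv_mul_eq_one] at h2
        exact h2.symm
      · rw [MonoidHom.finsetProd_apply, MonoidHom.one_apply]
        refine Eq.trans (Finset.prod_congr rfl fun j _ => ?_) (D.prod_translates hb μ (fun z z' hz => by
          rw [show z' = b • z from Subtype.ext hz]; exact hbB z) ⁅a, c⁆ (hcc a c) (fun j => hmemj j a))
        show form (D.F.σ ^ j • a) (D.F.σ ^ j • c) = _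
        rw [hform]
        exact congrArg μ (Subtype.ext (map_commutatorElement (MulDistribMulAction.toMonoidHom S (D.F.σ ^ j)) a c).symm)
    exact (hRmem _).2 (hf _)

end Setup

end CfsgLib.PQFpf
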